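import Cfsg.Agent.Classical.Unitary.Card
import Mathlib

/-!
The `ℓ`-adic valuation of the order of a unitary group.
-/

set_option autoImplicit false

namespace Cfsg.Lib.UnitMult

open Cfsg.Lib.Classical

/-- The `ℓ`-adic valuation of the order of `GU_m(q)`. -/
def vG (ℓ q m : ℕ) : ℕ := padicValNat ℓ (cardGUFormula q m)

/-- The factor `q^i - (-1)^i`. -/
def fac (q i : ℕ) : ℕ := if Even i then q ^ i - 1 else q ^ i + 1

theorem fac_natAbs {q : ℕ} (hq : 1 ≤ q) (i : ℕ) : fac q i = ((-(q : ℤ)) ^ i - 1).natAbs := by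
  have h1 : 1 ≤ q ^ i := Nat.one_le_pow _ _ hq
  unfold fac
  rcases Nat.even_or_odd i with h | h
  · rw [if_pos h, h.neg_pow, show ((q : ℤ)) ^ i - 1 = ((q ^ i - 1 : ℕ) : ℤ) by push_cast [h1]; ring, Int.natAbs_natCast]
  · rw [if_neg (Nat.not_even_iff_odd.mpr h), h.neg_pow,
      show -((q : ℤ)) ^ i - 1 = -((q ^ i + 1 : ℕ) : ℤ) by push_cast; ring, Int.natAbs_neg, Int.natAbs_natCast]

theorem fac_pos {q : ℕ} (hq : 2 ≤ q) {i : ℕ} (hi : 0 < i) : 0 < fac q i := by
  have : 2 ≤ q ^ i := le_trans hq (Nat.le_self_pow hi.ne' q)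
  unfold fac; split <;> omega

theorem cardGUFormula_pos {q : ℕ} (hq : 2 ≤ q) (m : ℕ) : 0 < cardGUFormula q m := by
  refine Nat.mul_pos (pow_pos (by omega) _) (Finset.prod_pos fun i _ => ?_)
  have : 2 ≤ q ^ (i + 1) := le_trans hq (Nat.le_self_pow (by omega) q)
  split <;> omega

theorem cardGUFormula_succ (q m : ℕ) : cardGUFormula q (m + 1) = q ^ m * fac q (m + 1) * cardGUFormula q m := by
  rw [← cardNormOne_mul, cardNormOne, Nat.add_sub_cancel, fac]

variable {ℓ q : ℕ} [hℓ : Fact ℓ.Prime]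

theorem vG_zero : vG ℓ q 0 = 0 := by simp [vG, cardGUFormula]

theorem vG_succ (hq : 2 ≤ q) (hnd : ¬ ℓ ∣ q) (m : ℕ) :
    vG ℓ q (m + 1) = vG ℓ q m + padicValNat ℓ (fac q (m + 1)) := by
  have h1 : q ^ m ≠ 0 := pow_ne_zero _ (by omega)
  have h2 : fac q (m + 1) ≠ 0 := (fac_pos hq (by omega)).ne'
  rw [vG, vG, cardGUFormula_succ, padicValNat.mul (mul_ne_zero h1 h2) (cardGUFormula_pos hq m).ne',
    padicValNat.mul h1 h2, padicValNat.eq_zero_of_not_dvd (fun h => hnd (hℓ.out.dvd_of_dvd_pow h))]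
  ring

theorem padic_factorial_pow_mul (s u : ℕ) :
    padicValNat ℓ (ℓ ^ s * u).factorial = u * (∑ i ∈ Finset.range s, ℓ ^ i) + padicValNat ℓ u.factorial := by
  induction s with
  | zero => simp
  | succ s ih =>
    rw [pow_succ', mul_assoc, padicValNat_factorial_mul, ih, Finset.sum_range_succ]
    ring

/-- The case distinction, from the shape of the valuation. -/
theorem cases_of_shape {V z : ℕ → ℕ} {e c : ℕ} (he : 0 < e) (hz : z 0 = 0)
    (hV : ∀ n, V n = n / e * c + padicValNat ℓ (n / e).factorial + z (n % e)) {m : ℕ} (hm : 1 ≤ m / e) :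
    (∃ k, 0 < k ∧ k < m ∧ V k + V (m - k) = V m) ∨ m = e ∨ ∃ a, 0 < a ∧ m = ℓ * a ∧ V m = ℓ * V a + 1 := by
  set M := m / e with hM
  have hmM : e * M + m % e = m := Nat.div_add_mod m e
  have hmul : ∀ j, V (e * j) = j * c + padicValNat ℓ j.factorial := fun j => by
    rw [hV, Nat.mul_div_cancel_left _ he, Nat.mul_mod_right, hz, add_zero]
  rcases Nat.eq_zero_or_pos (m % e) with hr | hr
  swap
  · refine Or.inl ⟨m % e, hr, ?_, ?_⟩
    · have := Nat.mod_lt m he
      have : e ≤ e * M := Nat.le_mul_of_pos_right _ hm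
      omega
    · rw [show m - m % e = e * M by omega, hmul, hV (m % e), hV m, Nat.div_eq_of_lt (Nat.mod_lt m he),
        Nat.mod_mod, ← hM]
      simp [add_comm]
  rw [hr, add_zero] at hmM
  rcases hm.eq_or_lt with h1 | h1
  · exact Or.inr (Or.inl (by rw [← hmM, ← h1, mul_one]))
  obtain ⟨s, u, hu, hMu⟩ := Nat.exists_eq_pow_mul_and_not_dvd (show M ≠ 0 by omega) ℓ hℓ.out.ne_one
  rcases Nat.lt_or_ge u 2 with hu2 | hu2
  · obtain rfl : u = 1 := by
      rcases Nat.eq_zero_or_pos u with rfl | h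
      · simp at hMu; omega
      · omega
    obtain ⟨t, rfl⟩ : ∃ t, s = t + 1 := ⟨s - 1, by
      rcases Nat.eq_zero_or_pos s with rfl | h
      · simp at hMu; omega
      · omega⟩
    rw [mul_one] at hMu
    refine Or.inr (Or.inr ⟨e * ℓ ^ t, Nat.mul_pos he (pow_pos hℓ.out.pos _), ?_, ?_⟩)
    · rw [← hmM, hMu, pow_succ']; ring
    · rw [← hmM, hmul, hmul, hMu]
      have h1 := padic_factorial_pow_mul (ℓ := ℓ) (t + 1) 1
      have h2 := padic_factorial_pow_mul (ℓ := ℓ) t 1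
      simp only [mul_one, one_mul, Nat.factorial_one, padicValNat_one_right, add_zero] at h1 h2
      rw [h1, h2, geom_sum_succ, pow_succ']
      ring
  · refine Or.inl ⟨e * ℓ ^ s, Nat.mul_pos he (pow_pos hℓ.out.pos _), ?_, ?_⟩
    · rw [← hmM]
      refine Nat.mul_lt_mul_of_pos_left ?_ he
      rw [hMu]
      exact lt_mul_of_one_lt_right (pow_pos hℓ.out.pos _) (by omega)
    · obtain ⟨u', rfl⟩ : ∃ u', u = u' + 1 := ⟨u - 1, by omega⟩
      have e1 : m - e * ℓ ^ s = e * (ℓ ^ s * u') := by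
        rw [← hmM, hMu, mul_add, mul_one, mul_add, Nat.add_sub_cancel]
      rw [e1, ← hmM, hmul, hmul, hmul, hMu, padic_factorial_pow_mul, padic_factorial_pow_mul]
      have h1 := padic_factorial_pow_mul (ℓ := ℓ) s 1
      simp only [mul_one, one_mul, Nat.factorial_one, padicValNat_one_right, add_zero] at h1
      rw [h1, show padicValNat ℓ (u' + 1).factorial = padicValNat ℓ u'.factorial by
        rw [Nat.factorial_succ, padicValNat.mul (Nat.succ_ne_zero _) (Nat.factorial_ne_zero _),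
          padicValNat.eq_zero_of_not_dvd hu, zero_add]]
      ring

theorem orderOf_facts (hnd : ¬ ℓ ∣ q) :
    ∃ e, 0 < e ∧ ∀ i, ((ℓ : ℤ) ∣ (-(q : ℤ)) ^ i - 1) ↔ e ∣ i := by
  refine ⟨orderOf (-(q : ZMod ℓ)), ?_, fun i => ?_⟩
  · refine orderOf_pos_iff.mpr (isOfFinOrder_iff_pow_eq_one.mpr ⟨ℓ - 1, by have := hℓ.out.two_le; omega, ?_⟩)
    exact ZMod.pow_card_sub_one_eq_one (neg_ne_zero.mpr fun h => hnd ((ZMod.natCast_eq_zero_iff q ℓ).mp h))
  · rw [← ZMod.intCast_zmod_eq_zero_iff_dvd, orderOf_dvd_iff_pow_eq_one]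
    push_cast
    exact sub_eq_zero

theorem fac_eq_padicValInt (hq : 2 ≤ q) (i : ℕ) :
    padicValNat ℓ (fac q i) = padicValInt ℓ ((-(q : ℤ)) ^ i - 1) := by
  rw [padicValInt, fac_natAbs (by omega)]

theorem shape_odd (hq : 2 ≤ q) (hnd : ¬ ℓ ∣ q) (h2 : ℓ ≠ 2) :
    ∃ e c, 0 < e ∧ ∀ n, vG ℓ q n = n / e * c + padicValNat ℓ (n / e).factorial := by
  obtain ⟨e, he, hdiv⟩ := orderOf_facts (ℓ := ℓ) hnd
  refine ⟨e, padicValNat ℓ (fac q e), he, fun n => ?_⟩
  induction n with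
  | zero => simp [vG_zero]
  | succ n ih =>
    rw [vG_succ hq hnd, ih, Nat.succ_div]
    by_cases hd : e ∣ n + 1
    · rw [if_pos hd, Nat.factorial_succ, padicValNat.mul (Nat.succ_ne_zero _) (Nat.factorial_ne_zero _)]
      obtain ⟨j, hj⟩ := hd
      have hj0 : j ≠ 0 := by rintro rfl; simp at hj
      have hjd : n / e + 1 = j := by
        have h : (n + 1) / e = n / e + if e ∣ n + 1 then 1 else 0 := Nat.succ_div
        rw [hj, Nat.mul_div_cancel_left _ he, if_pos (Dvd.intro j rfl)] at h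
        omega
      rw [hjd]
      have key : padicValNat ℓ (fac q (n + 1)) = padicValNat ℓ (fac q e) + padicValNat ℓ j := by
        rw [← Nat.cast_inj (R := ℕ∞), Nat.cast_add, padicValNat_eq_emultiplicity (fac_pos hq (by omega)).ne',
          padicValNat_eq_emultiplicity (fac_pos hq he).ne', padicValNat_eq_emultiplicity hj0, fac_natAbs (by omega),
          fac_natAbs (by omega), Int.emultiplicity_natAbs, Int.emultiplicity_natAbs, hj, pow_mul, ← one_pow j]
        have := Int.emultiplicity_pow_sub_pow hℓ.out (hℓ.out.odd_of_ne_two h2) (x := (-(q : ℤ)) ^ e) (y := 1)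
          ((hdiv e).mpr dvd_rfl) (fun h => hnd (Int.natCast_dvd_natCast.mp (by
            have h' := (Nat.prime_iff_prime_int.mp hℓ.out).dvd_of_dvd_pow h
            rwa [dvd_neg] at h'))) j
        simpa using this
      rw [key]
      subst hjd
      ring
    · rw [if_neg hd, add_zero, padicValNat.eq_zero_of_not_dvd (n := fac q (n + 1)), add_zero]
      rw [fac_natAbs (by omega), ← Int.natCast_dvd]
      exact fun h => hd ((hdiv _).mp h)

theorem shape_two (hq : 2 ≤ q) (hodd : ¬ 2 ∣ q) :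
    ∀ n, vG 2 q n = n / 2 * (2 * padicValNat 2 (q + 1) + padicValNat 2 (q - 1)) + padicValNat 2 (n / 2).factorial +
      n % 2 * padicValNat 2 (q + 1) := by
  haveI : Fact (Nat.Prime 2) := ⟨Nat.prime_two⟩
  have fodd : ∀ j, padicValNat 2 (fac q (2 * j + 1)) = padicValNat 2 (q + 1) := by
    intro j
    have hfac : fac q (2 * j + 1) = q ^ (2 * j + 1) + 1 := if_neg (by simp [parity_simps])
    obtain ⟨S, hS, hSo⟩ : ∃ S : ℤ, ((q : ℤ) ^ (2 * j + 1) + 1) = ((q : ℤ) + 1) * S ∧ ¬ (2 : ℤ) ∣ S := by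
      refine ⟨∑ i ∈ Finset.range (2 * j + 1), (-(q : ℤ)) ^ i, ?_, ?_⟩
      · have h := geom_sum_mul (-(q : ℤ)) (2 * j + 1)
        rw [Odd.neg_pow ⟨j, rfl⟩] at h
        linear_combination h
      · rw [show (2 : ℤ) = ((2 : ℕ) : ℤ) from rfl, ← ZMod.intCast_zmod_eq_zero_iff_dvd]
        push_cast
        have hq1 : (q : ZMod 2) = 1 := (ZMod.natCast_eq_one_iff_odd).mpr (Nat.odd_iff.mpr (by omega))
        rw [hq1]
        simp [show (-1 : ZMod 2) = 1 from rfl, show (2 : ZMod 2) = 0 from rfl]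
    have hN : q ^ (2 * j + 1) + 1 = (q + 1) * S.natAbs := by
      have := congrArg Int.natAbs hS
      rw [Int.natAbs_mul] at this
      rw [show ((q : ℤ) ^ (2 * j + 1) + 1) = ((q ^ (2 * j + 1) + 1 : ℕ) : ℤ) by push_cast; ring,
        show (q : ℤ) + 1 = ((q + 1 : ℕ) : ℤ) by push_cast; ring, Int.natAbs_natCast, Int.natAbs_natCast] at this
      exact this
    have hS2 : ¬ 2 ∣ S.natAbs := fun h => hSo (Int.natCast_dvd.mpr h)
    rw [hfac, hN, padicValNat.mul (Nat.succ_ne_zero _) (fun h => hS2 (by rw [h]; exact dvd_zero 2)), padicValNat.eq_zero_of_not_dvd hS2,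
      add_zero]
  have feven : ∀ j, 0 < j → padicValNat 2 (fac q (2 * j)) =
      padicValNat 2 (q + 1) + padicValNat 2 (q - 1) + padicValNat 2 j := by
    intro j hj
    have h := padicValNat.pow_two_sub_one (x := q) (n := 2 * j) (by omega) hodd (by omega) (even_two_mul j)
    rw [padicValNat.mul (by norm_num) hj.ne', padicValNat.self (by norm_num)] at h
    rw [show fac q (2 * j) = q ^ (2 * j) - 1 from if_pos (even_two_mul j)]
    omega
  intro n
  induction n with
  | zero => simp [vG_zero]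
  | succ n ih =>
    rw [vG_succ hq hodd, ih]
    rcases Nat.even_or_odd' n with ⟨j, rfl | rfl⟩
    · rw [fodd, show (2 * j + 1) / 2 = j by omega, show 2 * j / 2 = j by omega, show 2 * j % 2 = 0 by omega,
        show (2 * j + 1) % 2 = 1 by omega]
      ring
    · rw [show 2 * j + 1 + 1 = 2 * (j + 1) by ring, feven _ (by omega), show (2 * (j + 1)) / 2 = j + 1 by omega,
        show (2 * j + 1) / 2 = j by omega, show (2 * j + 1) % 2 = 1 by omega,
        show 2 * (j + 1) % 2 = 0 by omega, Nat.factorial_succ, padicValNat.mul (Nat.succ_ne_zero _) (Nat.factorial_ne_zero _)]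
      ring

/-- The four situations that occur in the induction. -/
theorem vG_cases (hq : 2 ≤ q) (hnd : ¬ ℓ ∣ q) {m : ℕ} (hm : 2 ≤ m) :
    (∃ k, 0 < k ∧ k < m ∧ vG ℓ q k + vG ℓ q (m - k) = vG ℓ q m) ∨
    (ℓ ≠ 2 ∧ ∀ k < m, vG ℓ q k = 0) ∨
    (∃ a, 0 < a ∧ m = ℓ * a ∧ vG ℓ q m = ℓ * vG ℓ q a + 1) ∨ (ℓ = 2 ∧ m = 2) := by
  by_cases h2 : ℓ = 2
  · subst h2
    rcases cases_of_shape (ℓ := 2) (V := vG 2 q) (z := fun r => r * padicValNat 2 (q + 1)) (e := 2) (by norm_num)
      (zero_mul _) (shape_two hq hnd) (m := m) (by omega) with h | h | h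
    · exact Or.inl h
    · exact Or.inr (Or.inr (Or.inr ⟨rfl, h⟩))
    · exact Or.inr (Or.inr (Or.inl h))
  · obtain ⟨e, c, he, hV⟩ := shape_odd hq hnd h2
    have hzero : ∀ k < e, vG ℓ q k = 0 := fun k hk => by simp [hV, Nat.div_eq_of_lt hk]
    rcases Nat.eq_zero_or_pos (m / e) with h0 | h0
    · have hlt : m < e := (Nat.div_eq_zero_iff.mp h0).resolve_left he.ne'
      exact Or.inl ⟨1, one_pos, by omega, by rw [hzero 1 (by omega), hzero (m - 1) (by omega), hzero m hlt]⟩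
    rcases cases_of_shape (ℓ := ℓ) (V := vG ℓ q) (z := fun _ => 0) (c := c) he rfl (fun n => by simp [hV n]) h0 with h | h | h
    · exact Or.inl h
    · exact Or.inr (Or.inl ⟨h2, fun k hk => hzero k (h ▸ hk)⟩)
    · exact Or.inr (Or.inr (Or.inl h))

end Cfsg.Lib.UnitMult
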