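import Cfsg.Agent.UnitMult.Pairs
import Cfsg.Agent.UnitMult.Arith
import Cfsg.Agent.Known.Laws
import Cfsg.Agent.Classical.Unitary.SUTwo

/-!
No multiplier in the defining characteristic, outside the exceptions.
-/

set_option autoImplicit false
set_option linter.unusedSectionVars false

namespace Cfsg.Lib.UnitMult

open Cfsg.Lib.Classical
open scoped commutatorElement

universe u v w

variable {F : Type v} [Field F] [Finite F] {V : Type w} [AddCommGroup V] [Module F V] [FiniteDimensional F V]
  (H : HermSpace F V)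

/-- `SU₂(q)` is perfect for `q ≥ 4`. -/
theorem perfect_two (hd : Module.finrank F V = 2) (hq : 4 ≤ H.q) : commutator H.SIsom = ⊤ := by
  classical
  letI : Fintype F := Fintype.ofFinite F
  letI : Fintype (fixedField H.σ) := Fintype.ofFinite _
  have hF : Fintype.card F = H.q ^ 2 := by rw [← Nat.card_eq_fintype_card]; exact H.card_field
  have hσ : H.σ = powConj hF := RingHom.ext fun x => by rw [powConj_apply, sigma_eq_pow H.conj]; rfl
  obtain ⟨e, he⟩ := H.exists_isometry (stdHerm 2 hF) hσ.symm (by rw [hd, Module.finrank_fin_fun])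
  obtain ⟨E₂⟩ := su_two_equiv (K := fixedField H.σ) hF (by rw [← Nat.card_eq_fintype_card]; rfl)
  let E : H.SIsom ≃* Matrix.SpecialLinearGroup (Fin 2) (fixedField H.σ) :=
    ((sisomCongr H (stdHerm 2 hF) e he).trans (suEquiv 2 hF)).trans E₂
  have h := Cfsg.Lib.Known.sl2_commutator_eq_top (fixedField H.σ) (by rw [← Nat.card_eq_fintype_card]; exact hq)
  rw [eq_top_iff]
  intro g _
  have hle : commutator (Matrix.SpecialLinearGroup (Fin 2) (fixedField H.σ)) ≤
      (commutator H.SIsom).map E.toMonoidHom := by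
    rw [commutator_def, commutator_def, Subgroup.map_commutator, Subgroup.map_top_of_surjective _ E.surjective]
  obtain ⟨y, hy, hye⟩ := hle (show E g ∈ _ by rw [h]; trivial)
  rwa [← show y = g from E.injective hye]

theorem perfect_sisom (h : (Module.finrank F V = 2 ∧ 4 ≤ H.q) ∨ 4 ≤ Module.finrank F V ∨
    (Module.finrank F V = 3 ∧ 3 ≤ H.q)) : commutator H.SIsom = ⊤ :=
  h.elim (fun h => perfect_two H h.1 h.2) fun h => H.commutator_SIsom h

theorem padic_cardGU {p q e : ℕ} [hp : Fact p.Prime] (hq : q = p ^ e) (he : 0 < e) (m : ℕ) :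
    padicValNat p (cardGUFormula q m) = e * (m * (m - 1) / 2) := by
  have hpq : p ∣ q := hq ▸ dvd_pow_self p he.ne'
  have hq2 : 2 ≤ q := hq ▸ le_trans hp.out.two_le (Nat.le_self_pow he.ne' p)
  have hfac : ∀ i, ¬ p ∣ (if Even i then q ^ (i + 1) + 1 else q ^ (i + 1) - 1) := by
    intro i h
    have h1 : p ∣ q ^ (i + 1) := hpq.trans (dvd_pow_self q (by omega))
    split_ifs at h
    · exact hp.out.not_dvd_one ((Nat.dvd_add_right h1).mp h)
    · have h2 := Nat.dvd_sub h1 h
      have h3 : 1 ≤ q ^ (i + 1) := Nat.one_le_pow _ _ (by omega)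
      rw [show q ^ (i + 1) - (q ^ (i + 1) - 1) = 1 by omega] at h2
      exact hp.out.not_dvd_one h2
  have hne : ¬ p ∣ ∏ i ∈ Finset.range m, (if Even i then q ^ (i + 1) + 1 else q ^ (i + 1) - 1) := fun h => by
    obtain ⟨i, -, hi⟩ := (hp.out.prime.dvd_finsetProd_iff _).mp h
    exact hfac i hi
  rw [cardGUFormula, padicValNat.mul (pow_ne_zero _ (by omega)) (fun h => hne (by rw [h]; exact dvd_zero p)),
    padicValNat.eq_zero_of_not_dvd hne, add_zero, padicValNat.pow, hq, padicValNat.prime_pow, mul_comm]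

/-- The pairs `(n, q)` outside the exceptions. -/
def Ok (q m : ℕ) : Prop := ¬(m = 4 ∧ q = 2) ∧ ¬(m = 4 ∧ q = 3) ∧ ¬(m = 6 ∧ q = 2)

theorem good_Q {P : HPair H} {Γ : Type u} [Group Γ] [Finite Γ] {p : ℕ} [Fact p.Prime] [CharP F p]
    {σ : Γ →* H.SIsom} (hσ : Cen p σ) (hk : 0 < Module.finrank F P.U)
    (hex : ¬(Module.finrank F P.U = 2 ∧ H.q ≤ 3)) : Good σ P.Q := by
  have hq2 := H.two_le_q
  by_cases h1 : Module.finrank F P.U = 1
  · by_cases hq : H.q = 2
    · exact P.good_Q_one_two hσ h1 hq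
    · exact P.good_Q_one hσ (p := p) h1 (by omega)
  by_cases h32 : Module.finrank F P.U = 3 ∧ H.q = 2
  · refine P.good_Q_three_two hσ ?_ h32.1 h32.2
    letI : Fintype F := Fintype.ofFinite F
    have hd : p ∣ 2 ^ 2 := by
      have := H.card_field
      rw [h32.2, Nat.card_eq_fintype_card] at this
      rw [← this]
      obtain ⟨k, hk, hk'⟩ := FiniteField.card F p
      rw [hk']
      exact dvd_pow_self p k.pos.ne'
    exact (Nat.prime_dvd_prime_iff_eq Fact.out Nat.prime_two).mp (Nat.Prime.dvd_of_dvd_pow Fact.out hd)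
  set K := H.restrict P.U P.nondegU with hK
  have hKq : K.q = H.q := rfl
  have hperf : P.L ≤ ⁅P.L, P.L⁆ := by
    show SI H P.U ≤ ⁅SI H P.U, SI H P.U⁆
    rw [← range_extSIsom H P.nondegU, MonoidHom.range_eq_map, ← Subgroup.map_commutator, ← commutator_def,
      perfect_sisom K (by rw [hKq]; omega)]
  have hfix : ∀ g ∈ P.L, ∀ z ∈ (⁅P.Q, P.Q⁆).comap σ, ∀ R, σ R = g → R * z = z * R := fun g hg z hz R hR =>
    perfect_lift hσ hperf (fun r hr => P.L_fix_commutator hk r hr _ hz) R (show σ R ∈ P.L by rw [hR]; exact hg)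
  by_cases h2 : Module.finrank F P.U = 2
  · obtain ⟨d, hd⟩ := IsCyclic.exists_generator (α := (fixedField H.σ)ˣ)
    have hod : orderOf d = H.q - 1 := by rw [orderOf_eq_card_of_forall_mem_zpowers hd, Nat.card_units]; rfl
    refine P.good_Q_two hσ hfix (by omega) (s := ((d : fixedField H.σ) : F)) ?_ (d : fixedField H.σ).2 ?_
    · exact fun e => d.ne_zero (Subtype.ext e)
    · intro e
      have h := Nat.le_of_dvd (by norm_num) (hod ▸ orderOf_dvd_of_pow_eq_one (n := 2)
        (Units.ext (Subtype.ext (by simpa using e))))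
      omega
  · exact P.good_Q_large hσ hfix (by omega)

theorem good_QL {P : HPair H} {Γ : Type u} [Group Γ] [Finite Γ] {p : ℕ} [Fact p.Prime] [CharP F p]
    {σ : Γ →* H.SIsom} (hσ : Cen p σ) (hk : 2 ≤ Module.finrank F P.U) (hok : Ok H.q (Module.finrank F P.U + 2))
    (hL : Good σ P.L) : Good σ (P.Q ⊔ P.L) := by
  have hq2 := H.two_le_q
  obtain ⟨e1, e2, e3⟩ := hok
  have hQ : Good σ P.Q := good_Q H hσ (by omega) (by omega)
  set k := Module.finrank F P.U with hkdef
  by_cases hpairs : H.q = 2 ∧ k % 3 = 1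
  · exact P.good_QL_pairs hσ hQ hL hpairs.1 (by omega) hpairs.2
  suffices h : ∃ t : H.SIsom, Fpf P.Q t ∧ ∀ r ∈ P.L, r * t = t * r by
    obtain ⟨t, ht, hc⟩ := h
    exact good_of_fpf hσ hQ hL P.Q_disjoint_L P.L_normalises ht hc
  rcases Nat.lt_or_ge 3 H.q with hq | hq
  · obtain ⟨d, hd⟩ := IsCyclic.exists_generator (α := (fixedField H.σ)ˣ)
    have hod : orderOf d = H.q - 1 := by rw [orderOf_eq_card_of_forall_mem_zpowers hd, Nat.card_units]; rfl
    have hd0 : ((d : fixedField H.σ) : F) ≠ 0 := fun e => d.ne_zero (Subtype.ext e)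
    have hfix : H.σ ((d : fixedField H.σ) : F) = ((d : fixedField H.σ) : F) := (d : fixedField H.σ).2
    refine P.exists_fpf_scalar (by omega) hd0 1 ?_ ?_
    · rw [hfix, mul_inv_cancel₀ hd0]; simp
    · rw [hfix]
      intro e
      have h : d = 1 := Units.ext (Subtype.ext (by simpa using e))
      rw [h, orderOf_one] at hod
      omega
  rcases hq.eq_or_lt with hq3 | hq'
  · have hpow : ∀ x : F, H.σ x = x ^ 3 := fun x => by
      rw [sigma_eq_pow H.conj, show Nat.card (fixedField H.σ) = 3 from hq3]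
    rcases Nat.even_or_odd k with hev | hodd
    · let μ : (normUnits H.σ).ker := ⟨-1, by
        rw [MonoidHom.mem_ker]; refine Units.ext ?_; rw [coe_normUnits]; simp⟩
      refine P.exists_fpf_scalar (by omega) one_ne_zero μ ?_ ?_
      · simp [μ, ← hkdef, hev.neg_one_pow]
      · rw [map_one, one_mul]
        intro e
        obtain ⟨d, hd⟩ := IsCyclic.exists_generator (α := Fˣ)
        -- `2 ≠ 0` as the field has nine elements
        letI : Fintype F := Fintype.ofFinite F
        have hF : Fintype.card F = 9 := by rw [← Nat.card_eq_fintype_card, H.card_field, hq3]; rfl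
        have h2 : (2 : F) = 0 := by
          have : (-1 : F) = 1 := by simpa [μ] using e
          linear_combination -this
        have h9 : (9 : F) = 0 := by
          have := FiniteField.cast_card_eq_zero F
          rw [hF] at this
          exact_mod_cast this
        exact one_ne_zero (show (1 : F) = 0 by linear_combination h9 - 4 * h2)
    · obtain ⟨d, hd⟩ := IsCyclic.exists_generator (α := Fˣ)
      have hod : orderOf d = 8 := by
        rw [orderOf_eq_card_of_forall_mem_zpowers hd, Nat.card_units, H.card_field, hq3]; rfl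
      have h8 : d ^ 8 = 1 := hod ▸ pow_orderOf_eq_one d
      let μ : (normUnits H.σ).ker := ⟨d ^ (2 * k), by
        rw [MonoidHom.mem_ker]
        refine Units.ext ?_
        rw [coe_normUnits, hpow, ← Units.val_pow_eq_pow_val, ← Units.val_mul, ← pow_succ', ← pow_mul,
          show 2 * k * (3 + 1) = 8 * k by ring, pow_mul, h8, one_pow]⟩
      refine P.exists_fpf_scalar (by omega) d.ne_zero μ ?_ ?_
      · show (d : F) * (H.σ (d : F))⁻¹ * ((d ^ (2 * k) : Fˣ) : F) ^ k = 1
        obtain ⟨r, hr⟩ := hodd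
        have hd0 : (d : F) ≠ 0 := d.ne_zero
        have h8' : (d : F) ^ 8 = 1 := by rw [← Units.val_pow_eq_pow_val, h8, Units.val_one]
        rw [hpow, Units.val_pow_eq_pow_val, ← pow_mul, hr,
          show 2 * (2 * r + 1) * (2 * r + 1) = 8 * (r * (r + 1)) + 2 by ring, pow_add, pow_mul, h8', one_pow]
        field_simp
      · rw [hpow]
        show ¬ ((d : F) ^ 3 * ((d ^ (2 * k) : Fˣ) : F) = 1)
        rw [← Units.val_pow_eq_pow_val, ← Units.val_mul, ← pow_add]
        intro e
        have hdv := hod ▸ orderOf_dvd_of_pow_eq_one (Units.ext e : d ^ (3 + 2 * k) = 1)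
        omega
  have hq2' : H.q = 2 := by omega
  obtain ⟨h2, ω, hω0, hω1, hσω, hNω, hall⟩ := four_facts H.conj hq2'
  have hmod : k % 3 ≠ 1 := fun h => hpairs ⟨hq2', h⟩
  have hω3 : ω ^ 3 = 1 := by
    rw [hσω] at hNω
    linear_combination (ω - 1) * hNω + (ω - 1) * h2
  have hpow : ∀ x : F, H.σ x = x ^ 2 := fun x => by
    rw [sigma_eq_pow H.conj, show Nat.card (fixedField H.σ) = 2 from hq2']
  let μ : (normUnits H.σ).ker := ⟨Units.mk0 ω hω0, by
    rw [MonoidHom.mem_ker]; refine Units.ext ?_; rw [coe_normUnits]; exact hNω⟩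
  refine P.exists_fpf_scalar (by omega) (pow_ne_zero k hω0) μ ?_ ?_
  · show ω ^ k * (H.σ (ω ^ k))⁻¹ * ω ^ k = 1
    rw [hpow]; field_simp
  · show ¬ (H.σ (ω ^ k) * ω = 1)
    rw [hpow, ← pow_mul, ← pow_succ]
    intro e
    have ho : orderOf ω = 3 := by
      haveI : Fact (Nat.Prime 3) := ⟨Nat.prime_three⟩
      exact orderOf_eq_prime hω3 hω1
    have hdv := ho ▸ orderOf_dvd_of_pow_eq_one e
    omega

/-- No multiplier in the defining characteristic. -/
theorem triv_char {p : ℕ} [hp : Fact p.Prime] [CharP F p] :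
    ∀ (m : ℕ) {V : Type w} [AddCommGroup V] [Module F V] [FiniteDimensional F V] (H : HermSpace F V),
      Module.finrank F V = m → 3 ≤ m → Ok H.q m → Triv.{u} p H.SIsom := by
  intro m
  induction m using Nat.strong_induction_on with
  | _ m ih =>
  intro V _ _ _ H hm hm3 hok
  classical
  intro Γ _ _ σ hσ
  rw [← good_top_iff]
  have hq2 := H.two_le_q
  obtain ⟨e, he, hee⟩ := H.exists_isotropic_of_two_le (by omega)
  obtain ⟨f, hef, hff⟩ := H.exists_hyperbolic he hee
  let P : HPair H := ⟨e, f, hee, hff, hef⟩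
  have hk : Module.finrank F P.U = m - 2 := by rw [P.finrank_U, hm]
  have hgood : Good σ (P.Q ⊔ P.L) := by
    by_cases hk1 : m - 2 = 1
    · haveI := sisom_subsingleton (H.restrict P.U P.nondegU) (by omega)
      have hL : P.L = ⊥ := by
        show SI H P.U = ⊥
        rw [← range_extSIsom H P.nondegU, Subgroup.eq_bot_iff_forall]
        rintro _ ⟨k, rfl⟩
        rw [Subsingleton.elim k 1, map_one]
      rw [hL, sup_bot_eq]
      exact good_Q H hσ (by omega) (by omega)
    refine good_QL H hσ (by omega) (by rw [hk, show m - 2 + 2 = m by omega]; exact hok) ?_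
    by_cases hok' : Ok H.q (m - 1)
    · -- inside the stabiliser of an anisotropic vector
      obtain ⟨θ, hθ⟩ := H.conj.exists_trace_one
      set y := P.e + θ • P.f with hy
      have hy1 : H.h y y = 1 := by
        simp only [hy, H.add_left, H.add_right, H.smul_left, H.smul_right, P.he, P.hf, P.hef, P.hfe]
        linear_combination hθ
      have hy0 : y ≠ 0 := fun h0 => by rw [h0, H.zero_left] at hy1; exact zero_ne_one hy1
      have hW := H.nondegOn_span_singleton (v := y) (by rw [hy1]; exact one_ne_zero)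
      have hle : P.U ≤ H.orth (Submodule.span F {y}) := fun x hx => by
        rw [H.mem_orth_span]
        rintro _ rfl
        rw [hy, H.add_right, H.smul_right, (P.mem_U.mp hx).1, (P.mem_U.mp hx).2, mul_zero, add_zero]
      refine (good_SI H (H.nondegOn_orth hW) hσ ?_).mono (SI_mono H hle)
      refine ih (m - 1) (by omega) _ ?_ (by omega) hok'
      rw [H.finrank_orth, finrank_span_singleton hy0, hm]
    · -- the two-step induction
      refine good_SI H P.nondegU hσ (ih (m - 2) (by omega) _ hk ?_ ?_)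
      · unfold Ok at hok'; omega
      · show Ok H.q (m - 2)
        unfold Ok at hok hok' ⊢; omega
  refine Good.of_relIndex hσ le_top ?_ hgood
  rw [Subgroup.relIndex_top_right, Nat.coprime_comm, hp.out.coprime_iff_not_dvd]
  intro hdvd
  obtain ⟨ee, hqe⟩ : ∃ ee, H.q = p ^ ee := by
    letI : Fintype F := Fintype.ofFinite F
    obtain ⟨n, -, hn⟩ := FiniteField.card F p
    obtain ⟨k, -, hk⟩ := (Nat.dvd_prime_pow hp.out).mp (show H.q ∣ p ^ (n : ℕ) by
      rw [← hn, ← Nat.card_eq_fintype_card, H.card_field]; exact dvd_pow_self _ two_ne_zero)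
    exact ⟨k, hk⟩
  have hee0 : 0 < ee := by
    by_contra h
    rw [show ee = 0 by omega, pow_zero] at hqe
    omega
  haveI : Nontrivial V := Module.nontrivial_of_finrank_pos (R := F) (by omega)
  haveI : Nontrivial P.U := Module.nontrivial_of_finrank_pos (R := F) (by omega)
  have hLc : Nat.card P.L = Nat.card (H.restrict P.U P.nondegU).SIsom := by
    show Nat.card (SI H P.U) = _
    rw [← range_extSIsom H P.nondegU]
    exact (Nat.card_congr (MonoidHom.ofInjective (extSIsom_injective H P.nondegU)).toEquiv).symm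
  have h1 : (H.q + 1) * Nat.card ↥(P.Q ⊔ P.L) = H.q ^ (2 * (m - 2) + 1) * cardGUFormula H.q (m - 2) := by
    rw [P.card_QL, P.card_Q, hLc, hk, ← mul_assoc, mul_comm (H.q + 1), mul_assoc]
    have := (H.restrict P.U P.nondegU).card_SIsom_mul
    rw [hk] at this
    exact congrArg _ this
  have h2 : H.q ^ (2 * (m - 2) + 1) * cardGUFormula H.q (m - 2) * (P.Q ⊔ P.L).index = cardGUFormula H.q m := by
    rw [← h1, mul_assoc, Subgroup.card_mul_index, H.card_SIsom_mul, hm]
  have hi0 : (P.Q ⊔ P.L).index ≠ 0 := Subgroup.index_ne_zero_of_finite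
  have hv := congrArg (padicValNat p) h2
  rw [padicValNat.mul (mul_ne_zero (pow_ne_zero _ (by omega)) (cardGUFormula_pos hq2 _).ne') hi0,
    padicValNat.mul (pow_ne_zero _ (by omega)) (cardGUFormula_pos hq2 _).ne', padicValNat.pow,
    padic_cardGU hqe hee0, padic_cardGU hqe hee0, show padicValNat p H.q = ee by rw [hqe, padicValNat.prime_pow]] at hv
  have := one_le_padicValNat_of_dvd hi0 hdvd
  obtain ⟨r, rfl⟩ : ∃ r, m = r + 2 := ⟨m - 2, by omega⟩
  have e1 : (r + 2) * (r + 2 - 1) / 2 = r * (r - 1) / 2 + (2 * r + 1) := by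
    rw [show (r + 2) * (r + 2 - 1) = r * (r - 1) + (2 * r + 1) * 2 by
      rcases r with _ | s
      · rfl
      · simp only [Nat.add_sub_cancel, show s + 1 + 2 - 1 = s + 2 by omega]; ring]
    omega
  rw [e1, show r + 2 - 2 = r by omega, Nat.mul_add, mul_comm (2 * r + 1) ee] at hv
  omega

end Cfsg.Lib.UnitMult
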