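import Cfsg.Agent.UnitMult.Gen
import Cfsg.Agent.SolvStruct.PGroupBasics

/-!
Sylow subgroups are cyclic at the first dimension where the order becomes divisible by `ℓ`.
-/

set_option autoImplicit false

namespace Cfsg.Lib.UnitMult

open Cfsg.Lib.Classical

universe u v w

variable {F : Type v} [Field F] [Finite F] {V : Type w} [AddCommGroup V] [Module F V] [FiniteDimensional F V]
  (H : HermSpace F V) {ℓ : ℕ}

/-- Elements of order `ℓ` have no fixed vectors when no smaller unitary group has order divisible by `ℓ`. -/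
theorem eq_zero_of_fixed (hℓ : ℓ.Prime) (hℓF : (ℓ : F) ≠ 0)
    (h : ∀ (W : Submodule F V) (hW : H.NondegOn W), Module.finrank F W < Module.finrank F V →
      ¬ ℓ ∣ Nat.card (H.restrict W hW).SIsom)
    {g : H.SIsom} (hg : g ^ ℓ = 1) (hne : g ≠ 1) {v : V} (hv : g.1.1 v = v) : v = 0 := by
  by_contra hv0
  haveI := Fact.mk hℓ
  let X : Submodule F V := LinearMap.ker (g.1.1.toLinearMap - LinearMap.id)
  have memX : ∀ x, x ∈ X ↔ g.1.1 x = x := fun x => by simp [X, sub_eq_zero]
  have hpowfix : ∀ (i : ℕ), ∀ x ∈ X, (g ^ i).1.1 x = x := by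
    intro i x hx
    induction i with
    | zero => rfl
    | succ i ih =>
      rw [pow_succ]
      show (g ^ i).1.1 (g.1.1 x) = x
      rw [(memX x).mp hx, ih]
  have hX : H.NondegOn X := by
    intro a ha hall
    refine H.nondeg a fun y => ?_
    set S := ∑ i ∈ Finset.range ℓ, (g ^ i).1.1 y with hS
    have hSX : S ∈ X := by
      rw [memX, hS, map_sum]
      have h1 : ∀ i, g.1.1 ((g ^ i).1.1 y) = (g ^ (i + 1)).1.1 y := fun i => by rw [pow_succ']; rfl
      simp only [h1]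
      have h2 := Finset.sum_range_succ' (fun i => (g ^ i).1.1 y) ℓ
      rw [Finset.sum_range_succ, hg] at h2
      simp only [pow_zero] at h2
      exact add_right_cancel h2.symm
    have h3 := hall S hSX
    rw [hS, H.sum_left] at h3
    have h4 : ∀ i ∈ Finset.range ℓ, H.h ((g ^ i).1.1 y) a = H.h y a := fun i _ => by
      conv_lhs => rw [← hpowfix i a ha]
      exact H.map_form _ _ _
    rw [Finset.sum_congr rfl h4, Finset.sum_const, Finset.card_range, nsmul_eq_mul, mul_eq_zero] at h3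
    exact h3.resolve_left hℓF
  have hmem : g ∈ SI H (H.orth X) := fun x hx => by
    rw [H.orth_orth] at hx
    exact (memX x).mp hx
  have hlt : Module.finrank F (H.orth X) < Module.finrank F V := by
    have hpos : 0 < Module.finrank F X := by
      rw [Module.finrank_pos_iff_exists_ne_zero]
      exact ⟨⟨v, (memX v).mpr hv⟩, fun e => hv0 (congrArg Subtype.val e)⟩
    have := Submodule.finrank_le X
    rw [H.finrank_orth]
    omega
  rw [← range_extSIsom H (H.nondegOn_orth hX)] at hmem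
  obtain ⟨k, hk⟩ := hmem
  refine h _ (H.nondegOn_orth hX) hlt ?_
  have hk1 : k ^ ℓ = 1 := extSIsom_injective H _ (by rw [map_pow, hk, hg, map_one])
  have hkne : k ≠ 1 := fun e => hne (by rw [← hk, e, map_one])
  rw [← orderOf_eq_prime hk1 hkne]
  exact orderOf_dvd_natCard k

/-- Commuting elements of order `ℓ` generate a cyclic group there. -/
theorem mem_zpowers_of_fixfree (hℓ : ℓ.Prime) (hℓF : (ℓ : F) ≠ 0) [Nontrivial V]
    (h : ∀ g : H.SIsom, g ^ ℓ = 1 → g ≠ 1 → ∀ v, g.1.1 v = v → v = 0)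
    {x y : H.SIsom} (hx : x ^ ℓ = 1) (hy : y ^ ℓ = 1) (hxy : Commute x y) (hx1 : x ≠ 1) :
    y ∈ Subgroup.zpowers x := by
  classical
  by_contra hy0
  obtain ⟨v, hv⟩ := exists_ne (0 : V)
  haveI := Fact.mk hℓ
  -- sums over nontrivial cyclic groups vanish
  have hsum : ∀ g : H.SIsom, g ^ ℓ = 1 → g ≠ 1 → ∀ w, ∑ i ∈ Finset.range ℓ, (g ^ i).1.1 w = 0 := by
    intro g hg hg1 w
    refine h g hg hg1 _ ?_
    have h2 := Finset.sum_range_succ' (fun i => (g ^ i).1.1 w) ℓ
    rw [Finset.sum_range_succ, hg] at h2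
    simp only [pow_zero] at h2
    rw [map_sum, Finset.sum_congr rfl fun i _ => show g.1.1 ((g ^ i).1.1 w) = (g ^ (i + 1)).1.1 w by
      rw [pow_succ']; rfl]
    exact add_right_cancel h2.symm
  have hj : ∀ i, ∑ j ∈ Finset.range ℓ, ((x ^ i * y) ^ j).1.1 v = 0 := fun i => by
    refine hsum _ ?_ ?_ v
    · rw [(hxy.pow_left i).mul_pow, hy, ← pow_mul, mul_comm, pow_mul, hx, one_pow, one_mul]
    · intro e
      exact hy0 (by rw [eq_inv_of_mul_eq_one_right e]; exact inv_mem (pow_mem (Subgroup.mem_zpowers x) i))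
  have htot : ∑ j ∈ Finset.range ℓ, ∑ i ∈ Finset.range ℓ, ((x ^ i * y) ^ j).1.1 v = 0 := by
    rw [Finset.sum_comm]
    exact Finset.sum_eq_zero fun i _ => hj i
  have hone : ∀ j ∈ Finset.range ℓ, j ≠ 0 → ∑ i ∈ Finset.range ℓ, ((x ^ i * y) ^ j).1.1 v = 0 := by
    intro j hj hj0
    rw [Finset.sum_congr rfl fun i _ => show ((x ^ i * y) ^ j).1.1 v = ((x ^ j) ^ i).1.1 ((y ^ j).1.1 v) by
      rw [(hxy.pow_left i).mul_pow, ← pow_mul, mul_comm i, pow_mul]; rfl]
    refine hsum _ (by rw [← pow_mul, mul_comm, pow_mul, hx, one_pow]) ?_ _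
    intro e
    have hox : orderOf x = ℓ := orderOf_eq_prime hx hx1
    have := Nat.le_of_dvd (Nat.pos_of_ne_zero hj0) (hox ▸ orderOf_dvd_of_pow_eq_one e)
    rw [Finset.mem_range] at hj
    omega
  rw [Finset.sum_eq_single_of_mem 0 (Finset.mem_range.mpr hℓ.pos) hone] at htot
  simp only [pow_zero] at htot
  rw [Finset.sum_const, Finset.card_range, ← Nat.cast_smul_eq_nsmul F] at htot
  exact hv ((smul_eq_zero.mp htot).resolve_left hℓF)

/-- The cyclic case. -/
theorem triv_cyclic_case (hℓ : ℓ.Prime) (h2 : ℓ ≠ 2) (hℓF : (ℓ : F) ≠ 0) [Nontrivial V]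
    (h : ∀ (W : Submodule F V) (hW : H.NondegOn W), Module.finrank F W < Module.finrank F V →
      ¬ ℓ ∣ Nat.card (H.restrict W hW).SIsom) :
    Triv.{u} ℓ H.SIsom := by
  intro Γ _ _ σ hσ
  rw [← good_top_iff]
  haveI := Fact.mk hℓ
  obtain ⟨P⟩ := (inferInstance : Nonempty (Sylow ℓ H.SIsom))
  have hcyc : IsCyclic (P : Subgroup H.SIsom) := by
    by_contra hnc
    obtain ⟨A, -, ⟨hA, hAp⟩, hAc⟩ := Cfsg.Lib.SolvStruct.exists_normal_elementary_sq h2 P.isPGroup' hnc
    haveI : Nontrivial A := (Finite.one_lt_card_iff_nontrivial).mp (by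
      rw [hAc]; exact Nat.one_lt_pow two_ne_zero hℓ.one_lt)
    obtain ⟨a, ha⟩ := exists_ne (1 : A)
    have hsub : ∀ b : A, (b : H.SIsom) ∈ Subgroup.zpowers ((a : P) : H.SIsom) := fun b =>
      mem_zpowers_of_fixfree H hℓ hℓF (fun g hg hg1 v hv => eq_zero_of_fixed H hℓ hℓF h hg hg1 hv)
        (by rw [← Subgroup.coe_pow, hAp _ a.2, Subgroup.coe_one])
        (by rw [← Subgroup.coe_pow, hAp _ b.2, Subgroup.coe_one])
        (by
          have := congrArg (fun t : A => ((t : P) : H.SIsom)) (hA.is_comm.comm a b)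
          simpa [commute_iff_eq] using this)
        (fun e => ha (Subtype.ext (Subtype.ext e)))
    let φ : A → Subgroup.zpowers ((a : P) : H.SIsom) := fun b => ⟨_, hsub b⟩
    have hφ : Function.Injective φ := fun b c e => Subtype.ext (Subtype.ext (congrArg Subtype.val e :))
    have hle := Nat.card_le_card_of_injective φ hφ
    rw [Nat.card_zpowers, hAc] at hle
    have ho : orderOf ((a : P) : H.SIsom) ∣ ℓ := orderOf_dvd_of_pow_eq_one (by
      rw [← Subgroup.coe_pow, hAp _ a.2, Subgroup.coe_one])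
    have := Nat.le_of_dvd hℓ.pos ho
    have h3 : ℓ * 1 < ℓ * ℓ := Nat.mul_lt_mul_of_pos_left hℓ.one_lt hℓ.pos
    rw [pow_two] at hle
    omega
  obtain ⟨g, hg⟩ := IsCyclic.exists_generator (α := (P : Subgroup H.SIsom))
  obtain ⟨x, hx⟩ : ∃ x, Subgroup.zpowers x = (P : Subgroup H.SIsom) :=
    ⟨(g : H.SIsom), le_antisymm (Subgroup.zpowers_le.mpr g.2) fun y hy => by
      obtain ⟨i, hi⟩ := Subgroup.mem_zpowers_iff.mp (hg ⟨y, hy⟩)
      exact Subgroup.mem_zpowers_iff.mpr ⟨i, congrArg Subtype.val hi⟩⟩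
  refine Good.of_relIndex hσ le_top ?_ (good_zpowers hσ x)
  rw [Subgroup.relIndex_top_right, hx, Nat.coprime_comm, hℓ.coprime_iff_not_dvd]
  exact P.not_dvd_index

end Cfsg.Lib.UnitMult
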