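import Cfsg.Agent.UnitMult.Coord

/-!
Extensions split over the wreath product `GU_a ≀ C_ℓ` inside `SU_{ℓa}`.
-/

set_option autoImplicit false
set_option linter.unusedSectionVars false

namespace Cfsg.Lib.UnitMult

open Cfsg.Lib.Classical
open scoped commutatorElement

universe u v w

variable {F : Type v} [Field F] [Finite F] {V : Type w} [AddCommGroup V] [Module F V] [FiniteDimensional F V]
  (H : HermSpace F V) {ℓ a : ℕ} (b : Module.Basis (Fin ℓ × Fin a) F V)
  (hb : ∀ i j, H.h (b i) (b j) = if i = j then 1 else 0)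

/-- The blocks. -/
def blk (i : Fin ℓ) : Submodule F V := cspan b {k | k.1 = i}

/-- Isometries preserving every block. -/
def blockGroup : Subgroup H.Isom := ⨅ i, H.subStab (blk b i)

theorem mem_blockGroup {g : H.Isom} : g ∈ blockGroup H b ↔ ∀ i, g ∈ H.subStab (blk b i) := Subgroup.mem_iInf

include hb in
theorem nondegOn_blk (i : Fin ℓ) : H.NondegOn (blk b i) := nondegOn_cspan H b hb _

theorem finrank_blk (i : Fin ℓ) : Module.finrank F (blk b i) = a := by
  rw [blk, finrank_cspan, Nat.card_congr (show {k : Fin ℓ × Fin a | k.1 = i} ≃ Fin a from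
    { toFun := fun k => k.1.2
      invFun := fun j => ⟨(i, j), rfl⟩
      left_inv := fun ⟨⟨i', j⟩, h⟩ => by
        simp only [Set.mem_ofPred_eq] at h
        subst h; rfl
      right_inv := fun j => rfl }), Nat.card_eq_fintype_card, Fintype.card_fin]

/-- The isometry induced on a block. -/
noncomputable def part (i : Fin ℓ) : blockGroup H b →* (H.restrict (blk b i) (nondegOn_blk H b hb i)).Isom :=
  ((MonoidHom.fst _ _).comp (H.subStabEquiv _ (nondegOn_blk H b hb i)).toMonoidHom).comp
    (Subgroup.inclusion (iInf_le _ i))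

theorem part_apply (i : Fin ℓ) (g : blockGroup H b) (x : blk b i) :
    ((part H b hb i g).1 x : V) = g.1.1 x := rfl

/-- The determinant on a block. -/
noncomputable def bdet (i : Fin ℓ) : blockGroup H b →* Fˣ :=
  (H.restrict (blk b i) (nondegOn_blk H b hb i)).detHom.comp (part H b hb i)

include hb in
theorem fix_other {i j : Fin ℓ} (hij : i ≠ j) {g : H.Isom} (hg : ∀ x ∈ H.orth (blk b i), g.1 x = x)
    {x : V} (hx : x ∈ blk b j) : g.1 x = x := by
  refine hg x ?_
  rw [blk, orth_cspan H b hb]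
  refine Submodule.span_mono ?_ hx
  rintro _ ⟨⟨k, hk⟩, rfl⟩
  exact ⟨⟨k, fun (e : k.1 = i) => hij (e.symm.trans hk)⟩, rfl⟩

include hb in
theorem mem_blockGroup_of_fix {i : Fin ℓ} {g : H.Isom} (hg : ∀ x ∈ H.orth (blk b i), g.1 x = x) :
    g ∈ blockGroup H b := by
  rw [mem_blockGroup]
  intro j
  refine H.mem_subStab_of_map_le fun x hx => ?_
  rcases eq_or_ne i j with rfl | h
  · have := maps_of_fix H hg (H.le_orth_orth _ hx)
    rwa [H.orth_orth] at this
  · rw [fix_other H b hb h hg hx]; exact hx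

include hb in
theorem eq_one_of_fix_blocks {g : H.Isom} (h : ∀ j, ∀ x ∈ blk b j, g.1 x = x) : g = 1 :=
  H.isom_ext fun x => LinearMap.congr_fun
    (b.ext (f₁ := g.1.toLinearMap) (f₂ := LinearMap.id) fun k => h k.1 _ (basis_mem_cspan b rfl)) x

/-- Trivial block determinants give products of block special groups. -/
theorem mem_of_bdet_eq_one (g : blockGroup H b) (hg : ∀ i, bdet H b hb i g = 1) :
    g.1 ∈ (⨆ i, SI H (blk b i)).map H.SIsom.subtype := by
  classical
  suffices key : ∀ s : Finset (Fin ℓ), ∀ g : blockGroup H b, (∀ i, bdet H b hb i g = 1) →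
      (∀ j ∉ s, ∀ x ∈ blk b j, g.1.1 x = x) → g.1 ∈ (⨆ i, SI H (blk b i)).map H.SIsom.subtype from
    key Finset.univ g hg fun j hj => absurd (Finset.mem_univ j) hj
  intro s
  induction s using Finset.induction_on with
  | empty =>
    intro g _ hfix
    rw [eq_one_of_fix_blocks H b hb fun j => hfix j (Finset.notMem_empty j)]
    exact one_mem _
  | insert i s hi ih =>
    intro g hg hfix
    let k : (H.restrict (blk b i) (nondegOn_blk H b hb i)).SIsom := ⟨part H b hb i g, hg i⟩
    set e : H.SIsom := extSIsom H (nondegOn_blk H b hb i) k with he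
    have heSI : e ∈ SI H (blk b i) := by rw [← range_extSIsom H (nondegOn_blk H b hb i)]; exact ⟨k, rfl⟩
    have hfixe : ∀ x ∈ H.orth (blk b i), e.1.1 x = x := heSI
    let eB : blockGroup H b := ⟨e.1, mem_blockGroup_of_fix H b hb hfixe⟩
    have heg : ∀ x ∈ blk b i, e.1.1 x = g.1.1 x := fun x hx =>
      (extIsom_apply H (nondegOn_blk H b hb i) k.1 ⟨x, hx⟩).trans (part_apply H b hb i g ⟨x, hx⟩)
    have hprod := ih (eB⁻¹ * g) (fun j => by
      rw [map_mul, hg j, mul_one, map_inv, inv_eq_one]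
      rcases eq_or_ne i j with rfl | h
      · show (H.restrict _ _).detHom (part H b hb i eB) = 1
        rw [show part H b hb i eB = part H b hb i g from HermSpace.isom_ext _ fun x => Subtype.ext (by
          rw [part_apply, part_apply]; exact heg x x.2)]
        exact hg i
      · show (H.restrict _ _).detHom (part H b hb j eB) = 1
        rw [show part H b hb j eB = 1 from HermSpace.isom_ext _ fun x => Subtype.ext (by
          rw [part_apply]; exact fix_other H b hb h hfixe x.2)]
        exact map_one _) (fun j hj x hx => by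
      show (e.1⁻¹ * g.1).1 x = x
      rw [H.mul_apply']
      rcases eq_or_ne i j with rfl | h
      · rw [← heg x hx, H.inv_apply_self]
      · rw [hfix j (fun hm => (Finset.mem_insert.mp hm).elim (fun h' => h h'.symm) hj) x hx]
        conv_lhs => rw [← fix_other H b hb h hfixe hx]
        exact H.inv_apply_self e.1 x)
    have he1 : e.1 ∈ (⨆ i, SI H (blk b i)).map H.SIsom.subtype :=
      ⟨e, Subgroup.mem_iSup_of_mem i heSI, rfl⟩
    have := mul_mem he1 hprod
    rwa [show e.1 * ((eB⁻¹ * g : blockGroup H b) : H.Isom) = g.1 by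
      rw [Subgroup.coe_mul, Subgroup.coe_inv]; exact mul_inv_cancel_left _ _] at this

include hb in
theorem card_blockGroup : Nat.card (blockGroup H b) = cardGUFormula H.q a ^ ℓ := by
  classical
  let Φ : blockGroup H b → ∀ i, (H.restrict (blk b i) (nondegOn_blk H b hb i)).Isom := fun g i => part H b hb i g
  have hΦ : Function.Bijective Φ := by
    constructor
    · intro g g' h
      refine Subtype.ext (H.isom_ext fun x => LinearMap.congr_fun
        (b.ext (f₁ := g.1.1.toLinearMap) (f₂ := g'.1.1.toLinearMap) fun k => ?_) x)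
      exact congrArg (fun t => (((t k.1).1 ⟨b k, basis_mem_cspan b rfl⟩ : blk b k.1) : V)) h
    · intro k
      have hmem : ∀ p : Fin ℓ × Fin a, b p ∈ blk b p.1 := fun p => basis_mem_cspan b rfl
      obtain ⟨g, hg⟩ := exists_isom_basis H b hb (f := fun p => ((k p.1).1 ⟨b p, hmem p⟩ : V)) fun p p' => by
        rcases eq_or_ne p.1 p'.1 with h | h
        · obtain ⟨i, j⟩ := p
          obtain ⟨i', j'⟩ := p'
          obtain rfl : i = i' := h
          refine ((k i).2 _ _).trans ?_
          exact hb (i, j) (i, j')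
        · rw [if_neg fun e => h (congrArg Prod.fst e)]
          refine H.eq_zero_symm ?_
          refine (show ((k p'.1).1 ⟨b p', hmem p'⟩ : V) ∈ H.orth (blk b p.1) from ?_) _ ((k p.1).1 ⟨b p, hmem p⟩).2
          rw [blk, orth_cspan H b hb]
          refine Submodule.span_mono ?_ ((k p'.1).1 ⟨b p', hmem p'⟩).2
          rintro _ ⟨⟨q, hq⟩, rfl⟩
          exact ⟨⟨q, fun (e : q.1 = p.1) => h (e.symm.trans hq)⟩, rfl⟩
      have hgk : ∀ i, ∀ x : blk b i, g.1 x = ((k i).1 x : V) := by
        rintro i ⟨x, hx⟩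
        unfold blk cspan at hx
        induction hx using Submodule.span_induction with
        | mem y hy =>
          obtain ⟨⟨q, hq⟩, rfl⟩ := hy
          simp only [Set.mem_ofPred_eq] at hq
          subst hq
          exact hg q
        | zero => exact (map_zero g.1).trans (congrArg Subtype.val (map_zero (k i).1)).symm
        | add y z hy' hz' hy hz =>
          show g.1 (y + z) = _
          rw [map_add, hy, hz, ← Submodule.coe_add, ← map_add]
          rfl
        | smul c y hy' hy =>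
          show g.1 (c • y) = _
          rw [map_smul, hy, ← Submodule.coe_smul, ← map_smul]
          rfl
      refine ⟨⟨g, (mem_blockGroup H b).mpr fun i => H.mem_subStab_of_map_le fun x hx => ?_⟩, ?_⟩
      · rw [hgk i ⟨x, hx⟩]; exact ((k i).1 ⟨x, hx⟩).2
      · funext i
        exact HermSpace.isom_ext _ fun x => Subtype.ext (hgk i x)
  rw [Nat.card_congr (Equiv.ofBijective Φ hΦ), Nat.card_pi]
  rw [Finset.prod_congr rfl fun i _ => show Nat.card (H.restrict (blk b i) (nondegOn_blk H b hb i)).Isom =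
      cardGUFormula H.q a by rw [HermSpace.card_isom, finrank_blk]; rfl, Finset.prod_const,
    Finset.card_univ, Fintype.card_fin]

/-- The scalar `±1`. -/
noncomputable def signKer (s : ℤˣ) : (normUnits H.σ).ker :=
  ⟨Units.map (Int.castRingHom F).toMonoidHom s, by
    rw [MonoidHom.mem_ker]
    refine Units.ext ?_
    rw [coe_normUnits, Units.coe_map, Units.val_one]
    show ((s : ℤ) : F) * H.σ ((s : ℤ) : F) = 1
    rw [map_intCast, ← Int.cast_mul, ← Units.val_mul, Int.units_mul_self, Units.val_one, Int.cast_one]⟩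

theorem signKer_coe (s : ℤˣ) : ((signKer H s).1 : F) = ((s : ℤ) : F) := rfl

variable [NeZero ℓ]

theorem nsmul_fin_one (n : ℕ) : n • (1 : Fin ℓ) = ⟨n % ℓ, Nat.mod_lt _ (NeZero.pos ℓ)⟩ := by
  induction n with
  | zero => exact (zero_nsmul _).trans (Fin.ext (by simp))
  | succ n ih =>
    rw [succ_nsmul, ih]
    refine Fin.ext ?_
    rw [Fin.val_add, Fin.val_one', Nat.mod_add_mod]
    show (n + 1 % ℓ) % ℓ = _
    rw [Nat.add_mod_mod]

/-- Cyclic shift of the blocks on some coordinates. -/
def shift (S : Finset (Fin a)) : Equiv.Perm (Fin ℓ × Fin a) :=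
  Equiv.prodCongrLeft fun j => if j ∈ S then Equiv.addRight (1 : Fin ℓ) else 1

/-- The compensating scalars. -/
noncomputable def shiftScal (S : Finset (Fin a)) (k : Fin ℓ × Fin a) : (normUnits H.σ).ker :=
  if k.2 ∈ S ∧ k.1 = 0 then signKer H (Equiv.Perm.sign (Equiv.addRight (1 : Fin ℓ))) else 1

include hb in
theorem exists_shift (S : Finset (Fin a)) :
    ∃ g : H.SIsom, ∀ k, g.1.1 (b k) = ((shiftScal H S k).1 : F) • b (shift S k) := by
  classical
  obtain ⟨g, hg, hdet⟩ := exists_mono H b hb (shift S) (shiftScal H S)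
  refine ⟨⟨g, ?_⟩, hg⟩
  show g ∈ H.detHom.ker
  rw [MonoidHom.mem_ker]
  refine Units.ext ?_
  rw [hdet, shift, Equiv.Perm.sign_prodCongrLeft, Units.val_one, Fintype.prod_prod_type_right]
  set s := Equiv.Perm.sign (Equiv.addRight (1 : Fin ℓ))
  rw [Units.coe_prod, Int.cast_prod, ← Finset.prod_mul_distrib]
  refine Finset.prod_eq_one fun j _ => ?_
  by_cases hj : j ∈ S
  · rw [if_pos hj, Finset.prod_eq_single (0 : Fin ℓ)]
    · rw [shiftScal, if_pos ⟨hj, rfl⟩, signKer_coe, ← Int.cast_mul, ← Units.val_mul, Int.units_mul_self, Units.val_one,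
        Int.cast_one]
    · intro i _ hi
      rw [shiftScal, if_neg fun h => hi h.2]; rfl
    · simp
  · rw [if_neg hj, map_one, Units.val_one, Int.cast_one, one_mul]
    exact Finset.prod_eq_one fun i _ => by rw [shiftScal, if_neg fun h => hj h.1]; rfl

include hb in
/-- The wreath case. -/
theorem triv_wreath (hℓ : ℓ.Prime) (ha : 0 < a)
    (hcop : ∀ (W : Submodule F V) (hW : H.NondegOn W), CopGen ℓ (⊤ : Subgroup (H.restrict W hW).SIsom))
    (htriv : ∀ (W : Submodule F V) (hW : H.NondegOn W), Module.finrank F W < Module.finrank F V →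
      Triv.{u} ℓ (H.restrict W hW).SIsom)
    (hval : padicValNat ℓ (cardGUFormula H.q (ℓ * a)) = ℓ * padicValNat ℓ (cardGUFormula H.q a) + 1) :
    Triv.{u} ℓ H.SIsom := by
  classical
  intro Γ _ _ σ hσ
  rw [← good_top_iff]
  haveI := Fact.mk hℓ
  haveI : Fintype F := Fintype.ofFinite F
  have hm : Module.finrank F V = ℓ * a := by
    rw [Module.finrank_eq_card_basis b, Fintype.card_prod, Fintype.card_fin, Fintype.card_fin]
  haveI : Nontrivial V := Module.nontrivial_of_finrank_pos (R := F) (by rw [hm]; exact Nat.mul_pos hℓ.pos ha)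
  set i₀ : Fin ℓ := 0
  -- the block stabiliser
  let N : Subgroup H.SIsom := (blockGroup H b).comap H.SIsom.subtype
  let K : Subgroup H.SIsom := ⨆ i, SI H (blk b i)
  have hKN : K ≤ N := iSup_le fun i g hg => mem_blockGroup_of_fix H b hb hg
  have hKdet : ∀ g ∈ K, ∀ (hg : g.1 ∈ blockGroup H b) (i : Fin ℓ), bdet H b hb i ⟨g.1, hg⟩ = 1 := by
    intro g hgK hg i
    let D : N →* Fˣ := (bdet H b hb i).comp
      ((H.SIsom.subtype.comp N.subtype).codRestrict (blockGroup H b) fun x => x.2)
    have hle : K ≤ D.ker.map N.subtype := by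
      refine iSup_le fun j k hk => ⟨⟨k, hKN (Subgroup.mem_iSup_of_mem j hk)⟩, ?_, rfl⟩
      show (H.restrict _ _).detHom (part H b hb i ⟨k.1, _⟩) = 1
      rcases eq_or_ne j i with rfl | h
      · rw [← range_extSIsom H (nondegOn_blk H b hb j)] at hk
        obtain ⟨c, rfl⟩ := hk
        exact (congrArg _ (show part H b hb j ⟨(extSIsom H (nondegOn_blk H b hb j) c).1,
          mem_blockGroup_of_fix H b hb fun x hx => extIsom_orth H _ c.1 hx⟩ = c.1 from
          HermSpace.isom_ext _ fun x => Subtype.ext (extIsom_apply H _ c.1 x))).trans c.2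
      · refine (congrArg _ (show part H b hb i ⟨k.1, mem_blockGroup_of_fix H b hb hk⟩ = 1 from
          HermSpace.isom_ext _ fun x => Subtype.ext ?_)).trans (map_one _)
        rw [part_apply]; exact fix_other H b hb h hk x.2
    obtain ⟨y, hy, rfl⟩ := hle hgK
    exact hy
  have hKmem : ∀ g ∈ N, (∀ (hg : g.1 ∈ blockGroup H b) (i : Fin ℓ), bdet H b hb i ⟨g.1, hg⟩ = 1) → g ∈ K := by
    intro g hg h
    obtain ⟨y, hy, he⟩ := mem_of_bdet_eq_one H b hb ⟨g.1, hg⟩ (fun i => h hg i)
    rwa [← show y = g from Subtype.ext he]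
  have hNK : ⁅N, N⁆ ≤ K := by
    rw [Subgroup.commutator_le]
    intro x hx y hy
    refine hKmem _ (Subgroup.commutator_le_self N (Subgroup.commutator_mem_commutator hx hy)) fun hg i => ?_
    rw [show (⟨(⁅x, y⁆ : H.SIsom).1, hg⟩ : blockGroup H b) = ⁅(⟨x.1, hx⟩ : blockGroup H b), ⟨y.1, hy⟩⁆ from Subtype.ext rfl,
      map_commutatorElement, commutatorElement_eq_one_iff_mul_comm]
    exact mul_comm _ _
  -- the split stabiliser
  have hfr : Module.finrank F (blk b i₀) = a := finrank_blk b i₀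
  have hlt : a < Module.finrank F V := by
    rw [hm]; exact lt_mul_of_one_lt_left ha hℓ.one_lt
  have hfo : Module.finrank F (H.orth (blk b i₀)) = ℓ * a - a := by rw [H.finrank_orth, hm, hfr]
  have hNgood : Good σ N := by
    refine (good_stab H hℓ hσ (nondegOn_blk H b hb i₀) (by omega) (by omega)
      (good_SI H (nondegOn_blk H b hb i₀) hσ (htriv _ (nondegOn_blk H b hb i₀) (by omega))) (good_SI H (H.nondegOn_orth (nondegOn_blk H b hb i₀)) hσ (htriv _ (H.nondegOn_orth (nondegOn_blk H b hb i₀))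
        (by omega))) (copGen_SI H (nondegOn_blk H b hb i₀) (hcop _ _)) (copGen_SI H (H.nondegOn_orth (nondegOn_blk H b hb i₀)) (hcop _ (H.nondegOn_orth (nondegOn_blk H b hb i₀))))).mono
      fun g hg => (mem_blockGroup H b).mp hg i₀
  have hKcop : CopGen ℓ K :=
    iSup_le fun i => (copGen_SI H (nondegOn_blk H b hb i) (hcop _ _)).trans
      (Subgroup.closure_mono fun x hx => ⟨Subgroup.mem_iSup_of_mem i hx.1, hx.2⟩)
  obtain ⟨e, he, heK⟩ := hKcop.exists_exponent hℓ
  -- the shifts
  let j₀ : Fin a := ⟨0, ha⟩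
  obtain ⟨w, hw⟩ := exists_shift H b hb (Finset.univ : Finset (Fin a))
  obtain ⟨wU, hwU⟩ := exists_shift H b hb ({j₀} : Finset (Fin a))
  obtain ⟨w', hw'⟩ := exists_shift H b hb ({j₀}ᶜ : Finset (Fin a))
  have hshift : ∀ (S : Finset (Fin a)) (i : Fin ℓ) (j : Fin a),
      shift S (i, j) = (if j ∈ S then i + 1 else i, j) := by
    intro S i j
    show ((if j ∈ S then Equiv.addRight (1 : Fin ℓ) else 1) i, j) = _
    split <;> rfl
  have hwmul : w = wU * w' := by
    refine Subtype.ext (H.isom_ext fun x => LinearMap.congr_fun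
      (b.ext (f₁ := w.1.1.toLinearMap) (f₂ := (wU * w').1.1.toLinearMap) fun k => ?_) x)
    show w.1.1 (b k) = wU.1.1 (w'.1.1 (b k))
    obtain ⟨i, j⟩ := k
    rw [hw, hw', map_smul, hwU, smul_smul, hshift, hshift, hshift]
    rcases eq_or_ne j j₀ with rfl | hj
    · simp [shiftScal]
    · simp [shiftScal, hj]
  have hwblk : ∀ i, ∀ x ∈ blk b i, w.1.1 x ∈ blk b (i + 1) := by
    intro i x hx
    unfold blk cspan at hx
    induction hx using Submodule.span_induction with
    | mem y hy =>
      obtain ⟨⟨⟨i', j⟩, hk⟩, rfl⟩ := hy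
      simp only [Set.mem_ofPred_eq] at hk
      subst hk
      show w.1.1 (b (i', j)) ∈ _
      rw [hw, hshift]
      refine Submodule.smul_mem _ _ (basis_mem_cspan b ?_)
      simp
    | zero => rw [map_zero]; exact zero_mem _
    | add y z _ _ hy hz => rw [map_add]; exact add_mem hy hz
    | smul c y _ hy => rw [map_smul]; exact Submodule.smul_mem _ _ hy
  have hwblk' : ∀ i, ∀ x ∈ blk b (i + 1), (w⁻¹).1.1 x ∈ blk b i := by
    intro i x hx
    have hmap : (blk b i).map w.1.1.toLinearMap = blk b (i + 1) := by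
      refine Submodule.eq_of_le_of_finrank_le (by rintro _ ⟨y, hy, rfl⟩; exact hwblk i y hy) ?_
      rw [LinearEquiv.finrank_map_eq, finrank_blk, finrank_blk]
    obtain ⟨y, hy, rfl⟩ := (show x ∈ (blk b i).map w.1.1.toLinearMap by rw [hmap]; exact hx)
    exact (H.inv_apply_self w.1 y).symm ▸ hy
  have hwN : ∀ g ∈ N, w * g * w⁻¹ ∈ N := by
    intro g hg
    refine (mem_blockGroup H b).mpr fun i => H.mem_subStab_of_map_le fun x hx => ?_
    show (w.1 * g.1 * (w⁻¹).1).1 x ∈ _
    rw [H.mul_apply', H.mul_apply']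
    have h1 := hwblk' (i - 1) x (by rwa [sub_add_cancel])
    have h2 := hwblk (i - 1) _ (((mem_blockGroup H b).mp hg (i - 1) _).mp h1)
    rwa [sub_add_cancel] at h2
  have hwdet : ∀ g (hg : g ∈ N) (i : Fin ℓ),
      bdet H b hb (i + 1) ⟨(w * g * w⁻¹).1, hwN g hg⟩ = bdet H b hb i ⟨g.1, hg⟩ := by
    intro g hg i
    let E : blk b i ≃ₗ[F] blk b (i + 1) := LinearEquiv.ofLinearMap
      (w.1.1.toLinearMap.restrict (hwblk i)) ((w⁻¹).1.1.toLinearMap.restrict (hwblk' i))
      (LinearMap.ext fun x => Subtype.ext (H.apply_inv_self w.1 x))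
      (LinearMap.ext fun x => Subtype.ext (H.inv_apply_self w.1 x))
    refine Units.ext ?_
    show ((LinearEquiv.det (part H b hb (i + 1) ⟨(w * g * w⁻¹).1, hwN g hg⟩).1 : Fˣ) : F) =
      ((LinearEquiv.det (part H b hb i ⟨g.1, hg⟩).1 : Fˣ) : F)
    rw [LinearEquiv.coe_det, LinearEquiv.coe_det]
    exact LinearMap.det_conj (part H b hb i ⟨g.1, hg⟩).1.toLinearMap E
  have hwK : ∀ x ∈ K, w * x * w⁻¹ ∈ K := fun x hx => hKmem _ (hwN x (hKN hx)) fun hg i => by
    have := hwdet x (hKN hx) (i - 1)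
    rw [hKdet x hx (hKN hx) (i - 1)] at this
    convert this using 3 <;> simp
  have hgood : Good σ (N ⊔ Subgroup.zpowers w) := by
    refine good_extend hσ hKN hNgood hwN hwK hNK he heK fun g hg hgw => ?_
    -- all block determinants agree
    have hconst : ∀ i, bdet H b hb (i + 1) ⟨g.1, hg⟩ = bdet H b hb i ⟨g.1, hg⟩ := by
      intro i
      have h1 : w * g⁻¹ * w⁻¹ ∈ N := hwN _ (inv_mem hg)
      have h2 := hKdet _ hgw (hKN hgw) (i + 1)
      rw [show (⟨(⁅g, w⁆ : H.SIsom).1, hKN hgw⟩ : blockGroup H b) = ⟨g.1, hg⟩ * ⟨(w * g⁻¹ * w⁻¹).1, h1⟩ from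
          Subtype.ext (congrArg (fun t : H.SIsom => t.1)
            ((by rw [commutatorElement_def]; group) : ⁅g, w⁆ = g * (w * g⁻¹ * w⁻¹))),
        map_mul, hwdet _ (inv_mem hg) i,
        show (⟨(g⁻¹).1, inv_mem hg⟩ : blockGroup H b) = (⟨g.1, hg⟩ : blockGroup H b)⁻¹ from rfl, map_inv,
        mul_inv_eq_one] at h2
      exact h2
    have hall : ∀ i, bdet H b hb i ⟨g.1, hg⟩ = bdet H b hb i₀ ⟨g.1, hg⟩ := by
      have key : ∀ n : ℕ, bdet H b hb (n • (1 : Fin ℓ)) ⟨g.1, hg⟩ = bdet H b hb i₀ ⟨g.1, hg⟩ := by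
        intro n
        induction n with
        | zero => rw [zero_nsmul]
        | succ n ih => rw [succ_nsmul, hconst, ih]
      intro i
      have hi := key i.val
      rwa [nsmul_fin_one, show (⟨i.val % ℓ, Nat.mod_lt _ hℓ.pos⟩ : Fin ℓ) = i from
        Fin.ext (Nat.mod_eq_of_lt i.isLt)] at hi
    set ζ := bdet H b hb i₀ ⟨g.1, hg⟩ with hζ
    have hζn : ζ ∈ (normUnits H.σ).ker := HermSpace.det_mem_norm_ker _ _
    let dsc : Fin ℓ × Fin a → (normUnits H.σ).ker := fun k => if k.2 = j₀ then ⟨ζ, hζn⟩ else 1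
    obtain ⟨f, hf, hfdet⟩ := exists_mono H b hb 1 dsc
    have hfB : f ∈ blockGroup H b := (mem_blockGroup H b).mpr fun i => H.mem_subStab_of_map_le fun x hx => by
      unfold blk cspan at hx ⊢
      induction hx using Submodule.span_induction with
      | mem y hy =>
        obtain ⟨k, rfl⟩ := hy
        rw [hf]
        exact Submodule.smul_mem _ _ (Submodule.subset_span ⟨k, rfl⟩)
      | zero => rw [map_zero]; exact zero_mem _
      | add y z _ _ hy hz => rw [map_add]; exact add_mem hy hz
      | smul c y _ hy => rw [map_smul]; exact Submodule.smul_mem _ _ hy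
    have hfb : ∀ i, bdet H b hb i ⟨f, hfB⟩ = ζ := by
      intro i
      let bi : Module.Basis (Fin a) F (blk b i) :=
        basisOfLinearIndependentOfCardEqFinrank' (fun j => (⟨b (i, j), basis_mem_cspan b rfl⟩ : blk b i))
          (LinearIndependent.of_comp (blk b i).subtype
            (b.linearIndependent.comp (fun j => (i, j)) fun j j' h => congrArg Prod.snd h))
          (by rw [finrank_blk, Fintype.card_fin])
      refine Units.ext ?_
      show ((LinearEquiv.det (part H b hb i ⟨f, hfB⟩).1 : Fˣ) : F) = _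
      rw [LinearEquiv.coe_det, ← LinearMap.det_toMatrix bi]
      have hM : LinearMap.toMatrix bi bi (part H b hb i ⟨f, hfB⟩).1.toLinearMap =
          Matrix.diagonal fun j => ((dsc (i, j)).1 : F) := by
        ext j j'
        rw [LinearMap.toMatrix_apply]
        have : (part H b hb i ⟨f, hfB⟩).1 (bi j') = ((dsc (i, j')).1 : F) • bi j' := by
          refine Subtype.ext ?_
          rw [part_apply, Submodule.coe_smul]
          simp [bi, hf]
        show bi.repr ((part H b hb i ⟨f, hfB⟩).1 (bi j')) j = _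
        rw [this, map_smul, bi.repr_self, Finsupp.smul_apply, Finsupp.single_apply, Matrix.diagonal_apply,
          smul_eq_mul]
        rcases eq_or_ne j j' with rfl | h
        · simp
        · simp [h, h.symm]
      rw [hM, Matrix.det_diagonal, Finset.prod_eq_single j₀]
      · simp [dsc]
      · intro j _ hj; simp [dsc, hj]
      · simp
    -- the determinant of `g` is the product of the block determinants
    have hgf : g.1 * f⁻¹ ∈ (⨆ i, SI H (blk b i)).map H.SIsom.subtype := by
      have := mem_of_bdet_eq_one H b hb (⟨g.1, hg⟩ * (⟨f, hfB⟩ : blockGroup H b)⁻¹) fun i => by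
        rw [map_mul, map_inv, hfb, hall, mul_inv_cancel]
      exact this
    obtain ⟨y, hyK, hye⟩ := hgf
    have hfS : f ∈ H.SIsom := by
      rw [show f = (g.1 * f⁻¹)⁻¹ * g.1 by group, ← hye]
      exact mul_mem (inv_mem y.2) g.2
    refine ⟨⟨f, hfS⟩, hfB, ?_, fun A B hA hB => ?_⟩
    · rw [show g * (⟨f, hfS⟩ : H.SIsom)⁻¹ = y from Subtype.ext hye.symm]; exact hyK
    -- `f` lifts commute with lifts of the shift
    let U := cspan b {k : Fin ℓ × Fin a | k.2 = j₀}
    have hU : H.NondegOn U := nondegOn_cspan H b hb _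
    have hUo : H.orth U = cspan b {k : Fin ℓ × Fin a | k.2 = j₀}ᶜ := orth_cspan H b hb _
    have hfU : (⟨f, hfS⟩ : H.SIsom) ∈ SI H U := fun x hx => by
      rw [hUo] at hx
      exact eqOn_cspan b (f := f.1.toLinearMap) (g := LinearMap.id) (fun k (hk : ¬ k.2 = j₀) => by
        show f.1 (b k) = b k
        rw [hf]; simp [dsc, hk]) hx
    have hwUS : wU ∈ SI H U := fun x hx => by
      rw [hUo] at hx
      exact eqOn_cspan b (f := wU.1.1.toLinearMap) (g := LinearMap.id) (fun k (hk : ¬ k.2 = j₀) => by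
        show wU.1.1 (b k) = b k
        obtain ⟨i, j⟩ := k
        rw [hwU, hshift]
        simp only at hk
        simp [shiftScal, hk]) hx
    have hw'S : w' ∈ SI H (H.orth U) := fun x hx => by
      rw [H.orth_orth] at hx
      exact eqOn_cspan b (f := w'.1.1.toLinearMap) (g := LinearMap.id) (fun k (hk : k.2 = j₀) => by
        show w'.1.1 (b k) = b k
        obtain ⟨i, j⟩ := k
        simp only at hk
        rw [hw', hshift]
        simp [shiftScal, hk]) hx
    have hUcop : CopGen ℓ (SI H U) := copGen_SI H hU (hcop _ _)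
    have hcentral : ∀ x ∈ SI H U, ∀ z ∈ Subgroup.zpowers (⟨f, hfS⟩ : H.SIsom), x * z = z * x := by
      intro x hx z hz
      obtain ⟨n, rfl⟩ := Subgroup.mem_zpowers_iff.mp hz
      refine (Commute.zpow_right ?_ n).eq
      refine Subtype.ext (H.eq_of_fix_orth hU (fun v hv => ?_) fun v hv => ?_)
      · show (x.1 * f).1 v = (f * x.1).1 v
        have hsc : ∀ u ∈ U, f.1 u = (ζ : F) • u := fun u hu =>
          eqOn_cspan b (f := f.1.toLinearMap) (g := (ζ : F) • LinearMap.id) (fun k (hk : k.2 = j₀) => by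
            show f.1 (b k) = (ζ : F) • b k
            rw [hf]; simp [dsc, hk]) hu
        rw [H.mul_apply', H.mul_apply', hsc v hv, hsc _ (SI_maps H hx hv), map_smul]
      · show (x.1 * f).1 v = (f * x.1).1 v
        rw [H.mul_apply', H.mul_apply', hfU v hv, hx v hv]
        exact (hfU v hv).symm
    obtain ⟨BU, hBU⟩ := hσ.surj wU
    obtain ⟨B', hB'⟩ := hσ.surj w'
    have h1 : ⁅BU, A⁆ = 1 := cross_of_copGen hσ hcentral hUcop BU (show σ BU ∈ _ by rw [hBU]; exact hwUS)
      A (show σ A ∈ _ by rw [hA]; exact Subgroup.mem_zpowers _)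
    have h2 : ⁅A, B'⁆ = 1 := cross_of_copGen hσ (SI_commute H le_rfl hU) hUcop A
      (show σ A ∈ _ by rw [hA]; exact hfU) B' (show σ B' ∈ _ by rw [hB']; exact hw'S)
    rw [Cfsg.Lib.Schur.comm_congr σ hσ.central (g := A) (g' := A) (h := B) (h' := BU * B') rfl
      (by rw [hB, map_mul, hBU, hB', hwmul]),
      show ⁅A, BU * B'⁆ = ⁅A, BU⁆ * (BU * ⁅A, B'⁆ * BU⁻¹) by simp only [commutatorElement_def]; group, h2,
      ← commutatorElement_inv, h1]
    group
  -- the index is coprime
  refine Good.of_relIndex hσ le_top ?_ hgood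
  rw [Subgroup.relIndex_top_right, Nat.coprime_comm, hℓ.coprime_iff_not_dvd]
  intro hdvd
  set P := N ⊔ Subgroup.zpowers w with hP
  have hnorm : P ≤ Subgroup.normalizer (N : Set H.SIsom) := by
    refine sup_le Subgroup.le_normalizer ?_
    rw [Subgroup.zpowers_le]
    have hset : N.map (MulAut.conj w).toMonoidHom = N :=
      Subgroup.eq_of_le_of_card_ge (by rintro _ ⟨d, hd, rfl⟩; exact hwN d hd)
        (le_of_eq (Nat.card_congr (N.equivMapOfInjective _ (MulAut.conj w).injective).toEquiv))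
    refine Subgroup.mem_normalizer_iff.mpr fun d => ⟨hwN d, fun hd => ?_⟩
    rw [← hset] at hd
    obtain ⟨e, he, hee⟩ := hd
    exact (MulAut.conj w).injective hee ▸ he
  haveI : (N.subgroupOf P).Normal := Subgroup.normal_subgroupOf_iff_le_normalizer (le_sup_left) |>.mpr hnorm
  have hwP : w ∈ P := Subgroup.mem_sup_right (Subgroup.mem_zpowers w)
  have hwnot : w ∉ N := fun h => by
    have h1 := ((mem_blockGroup H b).mp h i₀ (b (i₀, j₀))).mp (basis_mem_cspan b rfl)
    have h2 : w.1.1 (b (i₀, j₀)) ∈ blk b i₀ := h1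
    have h3 := hwblk i₀ (b (i₀, j₀)) (basis_mem_cspan b rfl)
    haveI : Nontrivial (Fin ℓ) := Fin.nontrivial_iff_two_le.mpr hℓ.two_le
    have hne : i₀ + 1 ≠ i₀ := by simp [Fin.one_eq_zero_iff.not, hℓ.one_lt.ne']
    have h4 : w.1.1 (b (i₀, j₀)) ∈ H.orth (blk b (i₀ + 1)) := by
      rw [blk, orth_cspan H b hb]
      refine Submodule.span_mono ?_ h2
      rintro _ ⟨⟨q, hq⟩, rfl⟩
      exact ⟨⟨q, fun (e : q.1 = i₀ + 1) => hne (e.symm.trans hq)⟩, rfl⟩
    have h5 := ((H.nondegOn_iff_disjoint _).mp (nondegOn_blk H b hb (i₀ + 1))).le_bot ⟨h3, h4⟩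
    rw [Submodule.mem_bot, LinearEquiv.map_eq_zero_iff] at h5
    exact b.ne_zero _ h5
  have hwl : w ^ ℓ ∈ N := by
    refine (mem_blockGroup H b).mpr fun i => H.mem_subStab_of_map_le fun x hx => ?_
    have key : ∀ (n : ℕ), (w ^ n).1.1 x ∈ blk b (i + n • (1 : Fin ℓ)) := by
      intro n
      induction n with
      | zero => rw [zero_nsmul, add_zero]; exact hx
      | succ n ih =>
        rw [pow_succ', succ_nsmul, ← add_assoc]
        exact hwblk _ _ ih
    have := key ℓ
    rwa [nsmul_fin_one, show (⟨ℓ % ℓ, Nat.mod_lt _ hℓ.pos⟩ : Fin ℓ) = 0 from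
      Fin.ext (by simp [Nat.mod_self]), add_zero] at this
  have hmul : ℓ * Nat.card N ∣ Nat.card P := by
    rw [← Subgroup.card_mul_index (N.subgroupOf P), mul_comm ℓ,
      Nat.card_congr (Subgroup.subgroupOfEquivOfLe (le_sup_left : N ≤ P)).toEquiv]
    refine Nat.mul_dvd_mul_left _ ?_
    have ho : orderOf (QuotientGroup.mk' (N.subgroupOf P) ⟨w, hwP⟩) = ℓ := by
      refine orderOf_eq_prime ?_ ?_
      · rw [← map_pow]; exact (QuotientGroup.eq_one_iff (N := N.subgroupOf P) _).mpr hwl
      · exact fun h => hwnot ((QuotientGroup.eq_one_iff (N := N.subgroupOf P) _).mp h)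
    rw [← ho, Subgroup.index]
    exact orderOf_dvd_natCard _
  -- the valuation
  have hNcard : (H.q + 1) * Nat.card N = cardGUFormula H.q a ^ ℓ := by
    let φ : blockGroup H b →* Fˣ := H.detHom.comp (blockGroup H b).subtype
    have hr : φ.range = (normUnits H.σ).ker := by
      refine le_antisymm ?_ fun z hz => ?_
      · rintro _ ⟨g, rfl⟩; exact H.det_mem_norm_ker g.1
      · obtain ⟨f, hf, hfdet⟩ := exists_mono H b hb 1 (fun k => if k = (i₀, j₀) then ⟨z, hz⟩ else 1)
        refine ⟨⟨f, (mem_blockGroup H b).mpr fun i => H.mem_subStab_of_map_le fun x hx => ?_⟩, Units.ext ?_⟩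
        · unfold blk cspan at hx ⊢
          induction hx using Submodule.span_induction with
          | mem y hy =>
            obtain ⟨k, rfl⟩ := hy
            rw [hf]
            exact Submodule.smul_mem _ _ (Submodule.subset_span ⟨k, rfl⟩)
          | zero => rw [map_zero]; exact zero_mem _
          | add y z _ _ hy hz => rw [map_add]; exact add_mem hy hz
          | smul c y _ hy => rw [map_smul]; exact Submodule.smul_mem _ _ hy
        · show (H.detHom f : F) = _
          rw [hfdet, Equiv.Perm.sign_one, Units.val_one, Int.cast_one, one_mul, Finset.prod_eq_single (i₀, j₀)]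
          · simp
          · intro k _ hk; simp [hk]
          · simp
    let ee : φ.ker ≃ N :=
      { toFun := fun g => ⟨⟨g.1.1, g.2⟩, g.1.2⟩
        invFun := fun g => ⟨⟨g.1.1, g.2⟩, g.1.2⟩
        left_inv := fun g => rfl
        right_inv := fun g => rfl }
    rw [← card_blockGroup H b hb, ← φ.ker.card_mul_index, Subgroup.index_ker, hr, H.conj.card_norm_ker,
      Nat.card_congr ee, mul_comm]
    rfl
  have hGcard : (H.q + 1) * Nat.card H.SIsom = cardGUFormula H.q (ℓ * a) := by rw [H.card_SIsom_mul, hm]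
  have hdiv : ℓ * (ℓ * cardGUFormula H.q a ^ ℓ) ∣ cardGUFormula H.q (ℓ * a) := by
    rw [← hNcard, ← hGcard]
    calc ℓ * (ℓ * ((H.q + 1) * Nat.card N)) = (H.q + 1) * ((ℓ * Nat.card N) * ℓ) := by ring
      _ ∣ (H.q + 1) * (Nat.card P * P.index) := Nat.mul_dvd_mul_left _ (Nat.mul_dvd_mul hmul hdvd)
      _ = (H.q + 1) * Nat.card H.SIsom := by rw [Subgroup.card_mul_index]
  have hq := H.two_le_q
  have hpos : cardGUFormula H.q a ≠ 0 := fun h => by
    rw [h, zero_pow hℓ.ne_zero] at hNcard
    exact Nat.card_pos.ne' ((mul_eq_zero.mp hNcard).resolve_left (by omega) : Nat.card N = 0)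
  have hpos' : cardGUFormula H.q (ℓ * a) ≠ 0 := by
    rw [← hGcard]; exact mul_ne_zero (by omega) Nat.card_pos.ne'
  obtain ⟨c, hc⟩ := hdiv
  have hc0 : c ≠ 0 := fun h => hpos' (by rw [hc, h, mul_zero])
  have hv := congrArg (padicValNat ℓ) hc
  rw [padicValNat.mul (mul_ne_zero hℓ.ne_zero (mul_ne_zero hℓ.ne_zero (pow_ne_zero _ hpos))) hc0,
    padicValNat.mul hℓ.ne_zero (mul_ne_zero hℓ.ne_zero (pow_ne_zero _ hpos)),
    padicValNat.mul hℓ.ne_zero (pow_ne_zero _ hpos), padicValNat.self hℓ.one_lt, padicValNat.pow, hval] at hv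
  omega

end Cfsg.Lib.UnitMult
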