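import Cfsg.Agent.UnitMult.Arith
import Cfsg.Agent.UnitMult.Cyclic
import Cfsg.Agent.UnitMult.Wreath
import Cfsg.Agent.Frobenius.UniqueSubgroup

/-!
No `ℓ`-multiplier for special unitary groups, for primes different from the characteristic.
-/

set_option autoImplicit false

namespace Cfsg.Lib.UnitMult

open Cfsg.Lib.Classical
open scoped commutatorElement

universe u v w

variable {F : Type v} [Field F] [Finite F] {V : Type w} [AddCommGroup V] [Module F V] [FiniteDimensional F V]
  (H : HermSpace F V)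

theorem card_sisom_dvd : Nat.card H.SIsom ∣ cardGUFormula H.q (Module.finrank F V) :=
  H.card_isom ▸ Subgroup.card_subgroup_dvd_card H.SIsom

/-- The two-dimensional groups at the prime two. -/
theorem triv_two (hd : Module.finrank F V = 2) (h2F : (2 : F) ≠ 0) (hgen : CopGen 2 (⊤ : Subgroup H.SIsom)) :
    Triv.{u} 2 H.SIsom := by
  intro Γ _ _ σ hσ
  rw [← good_top_iff]
  haveI : Fact (Nat.Prime 2) := ⟨Nat.prime_two⟩
  have hneg : ∀ g : H.SIsom, g ^ 2 = 1 → g ≠ 1 → ∀ v, g.1.1 v = -v := by
    intro g hg hne v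
    have hfix : g.1.1 (v + g.1.1 v) = v + g.1.1 v := by
      have : g.1.1 (g.1.1 v) = v := by
        calc g.1.1 (g.1.1 v) = (g ^ 2).1.1 v := by rw [pow_two]; rfl
          _ = v := by rw [hg]; rfl
      rw [map_add, this, add_comm]
    have := eq_zero_of_fixed H Nat.prime_two (by simpa using h2F) (fun W hW hlt => by
      haveI := sisom_subsingleton (H.restrict W hW) (by omega)
      rw [Nat.card_unique]
      norm_num) hg hne hfix
    exact eq_neg_of_add_eq_zero_right this
  obtain ⟨P⟩ := (inferInstance : Nonempty (Sylow 2 H.SIsom))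
  have hP : ((P : Subgroup H.SIsom).relIndex ⊤).Coprime 2 := by
    rw [Subgroup.relIndex_top_right, Nat.coprime_comm, Nat.prime_two.coprime_iff_not_dvd]
    exact P.not_dvd_index
  refine Good.of_relIndex hσ le_top hP ?_
  rcases Cfsg.Lib.UniqueSub.isCyclic_or_quaternion P.isPGroup' (fun x y hx hy => by
    have hx' : ∀ v, x.1.1.1 v = -v := hneg x.1 (by
      have h := pow_orderOf_eq_one x; rw [hx] at h; exact (Subgroup.coe_pow _ x 2).symm.trans (congrArg Subtype.val h)) (fun e => by
      rw [show x = 1 from Subtype.ext e, orderOf_one] at hx; omega)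
    have hy' : ∀ v, y.1.1.1 v = -v := hneg y.1 (by
      have h := pow_orderOf_eq_one y; rw [hy] at h; exact (Subgroup.coe_pow _ y 2).symm.trans (congrArg Subtype.val h)) (fun e => by
      rw [show y = 1 from Subtype.ext e, orderOf_one] at hy; omega)
    rw [show y = x from Subtype.ext (Subtype.ext (H.isom_ext fun v => (hy' v).trans (hx' v).symm))]
    exact Subgroup.mem_zpowers x) with hc | ⟨-, n, ⟨e⟩⟩
  · obtain ⟨g, hg⟩ := IsCyclic.exists_generator (α := (P : Subgroup H.SIsom))
    refine (good_zpowers hσ (g : H.SIsom)).mono fun y hy => ?_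
    obtain ⟨i, hi⟩ := Subgroup.mem_zpowers_iff.mp (hg ⟨y, hy⟩)
    exact Subgroup.mem_zpowers_iff.mpr ⟨i, congrArg Subtype.val hi⟩
  let c : H.SIsom := (e.symm (QuaternionGroup.a 1) : P)
  let w : H.SIsom := (e.symm (QuaternionGroup.xa 0) : P)
  have hconj : w * c * w⁻¹ = c⁻¹ := by
    have key : (QuaternionGroup.xa 0 : QuaternionGroup (2 ^ n)) * QuaternionGroup.a 1 * (QuaternionGroup.xa 0)⁻¹ =
        (QuaternionGroup.a 1)⁻¹ := by
      rw [mul_inv_eq_iff_eq_mul, eq_inv_mul_iff_mul_eq]
      simp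
    have := congrArg (fun t => ((e.symm t : P) : H.SIsom)) key
    simp only [map_mul, map_inv, Subgroup.coe_mul, Subgroup.coe_inv] at this
    exact this
  have hwN : ∀ x ∈ Subgroup.zpowers c, w * x * w⁻¹ ∈ Subgroup.zpowers c := by
    intro x hx
    obtain ⟨i, rfl⟩ := Subgroup.mem_zpowers_iff.mp hx
    rw [← conj_zpow, hconj]
    exact zpow_mem (inv_mem (Subgroup.mem_zpowers c)) i
  have hgood : Good σ (Subgroup.zpowers c ⊔ Subgroup.zpowers w) := by
    refine good_extend hσ bot_le (good_zpowers hσ c) hwN (fun x hx => by simp [Subgroup.mem_bot.mp hx]) ?_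
      (Nat.coprime_one_left 2) (fun x hx => by simp [Subgroup.mem_bot.mp hx]) fun g hg hgw => ⟨g, hg, by simp, ?_⟩
    · rw [le_bot_iff, Subgroup.eq_bot_iff_forall]
      intro x hx
      refine Subgroup.mem_bot.mp ((Subgroup.commutator_le.mpr fun a ha b hb => ?_) hx)
      obtain ⟨i, rfl⟩ := Subgroup.mem_zpowers_iff.mp ha
      obtain ⟨j, rfl⟩ := Subgroup.mem_zpowers_iff.mp hb
      rw [Subgroup.mem_bot, commutatorElement_eq_one_iff_mul_comm]
      exact (Commute.refl c).zpow_zpow i j
    · intro A B hA hB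
      rw [Subgroup.mem_bot, commutatorElement_eq_one_iff_mul_comm] at hgw
      have hinv : w * g * w⁻¹ = g⁻¹ := by
        obtain ⟨i, rfl⟩ := Subgroup.mem_zpowers_iff.mp hg
        rw [← conj_zpow, hconj, inv_zpow]
      rw [← hgw, mul_inv_cancel_right] at hinv
      have hg2 : g ^ 2 = 1 := by rw [pow_two]; nth_rewrite 1 [hinv]; exact inv_mul_cancel g
      have hcen : ∀ x : H.SIsom, ∀ z ∈ Subgroup.zpowers g, x * z = z * x := by
        intro x z hz
        obtain ⟨i, rfl⟩ := Subgroup.mem_zpowers_iff.mp hz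
        refine (Commute.zpow_right ?_ i).eq
        rcases eq_or_ne g 1 with rfl | hne
        · exact Commute.one_right x
        · refine Subtype.ext (H.isom_ext fun v => ?_)
          show x.1.1 (g.1.1 v) = g.1.1 (x.1.1 v)
          rw [hneg g hg2 hne, hneg g hg2 hne, map_neg]
      have h1 := cross_of_copGen hσ (H₁ := ⊤) (fun x _ => hcen x) hgen B (Subgroup.mem_top _) A
        (show σ A ∈ _ by rw [hA]; exact Subgroup.mem_zpowers g)
      rw [← commutatorElement_inv, h1, inv_one]
  refine hgood.mono fun y hy => ?_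
  have hy' : y = ((e.symm (e ⟨y, hy⟩) : P) : H.SIsom) := by rw [MulEquiv.symm_apply_apply]
  have ha : ∀ i, ((e.symm (QuaternionGroup.a i) : P) : H.SIsom) ∈ Subgroup.zpowers c := fun i => by
    refine Subgroup.mem_zpowers_iff.mpr ⟨(i.val : ℤ), ?_⟩
    rw [zpow_natCast, ← Subgroup.coe_pow, ← map_pow, QuaternionGroup.a_one_pow, ZMod.natCast_rightInverse i]
  rw [hy']
  rcases hcase : e ⟨y, hy⟩ with i | i
  · exact Subgroup.mem_sup_left (ha i)
  · rw [show (QuaternionGroup.xa i : QuaternionGroup (2 ^ n)) = QuaternionGroup.xa 0 * QuaternionGroup.a i by simp,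
      map_mul, Subgroup.coe_mul]
    exact mul_mem (Subgroup.mem_sup_right (Subgroup.mem_zpowers w)) (Subgroup.mem_sup_left (ha i))

/-- No `ℓ`-multiplier away from the characteristic. -/
theorem triv_coprime {p ℓ : ℕ} (hp : p.Prime) [CharP F p] (hℓ : ℓ.Prime) (hne : ℓ ≠ p) :
    ∀ (m : ℕ) {V : Type w} [AddCommGroup V] [Module F V] [FiniteDimensional F V] (H : HermSpace F V),
      Module.finrank F V = m → Triv.{u} ℓ H.SIsom := by
  intro m
  induction m using Nat.strong_induction_on with
  | _ m ih =>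
  intro V _ _ _ H hm
  classical
  haveI := Fact.mk hℓ
  rcases Nat.lt_or_ge m 2 with hm2 | hm2
  · intro Γ _ _ σ hσ
    haveI := sisom_subsingleton H (by omega)
    rw [← good_top_iff]
    refine (good_zpowers hσ (1 : H.SIsom)).mono fun x _ => ?_
    rw [Subsingleton.elim x 1]
    exact one_mem _
  haveI : Nontrivial V := Module.nontrivial_of_finrank_pos (R := F) (by omega)
  have hq2 := H.two_le_q
  have hcop : ∀ (W : Submodule F V) (hW : H.NondegOn W), CopGen ℓ (⊤ : Subgroup (H.restrict W hW).SIsom) :=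
    fun W hW => copGen_sisom _ hℓ hp hne
  have hnd : ¬ ℓ ∣ H.q := by
    intro h
    haveI : Fintype F := Fintype.ofFinite F
    obtain ⟨k, -, hk⟩ := FiniteField.card F p
    have h2 : ℓ ∣ p ^ (k : ℕ) := by
      rw [← hk, ← Nat.card_eq_fintype_card, H.card_field]; exact dvd_pow h two_ne_zero
    exact hne ((Nat.prime_dvd_prime_iff_eq hℓ hp).mp (hℓ.dvd_of_dvd_pow h2))
  have hℓF : (ℓ : F) ≠ 0 := fun h => hne
    ((Nat.prime_dvd_prime_iff_eq hp hℓ).mp ((CharP.cast_eq_zero_iff F p ℓ).mp h)).symm
  have hsmall : ∀ (W : Submodule F V) (hW : H.NondegOn W), Module.finrank F W < m →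
      Triv.{u} ℓ (H.restrict W hW).SIsom := fun W hW h => ih _ h (H.restrict W hW) rfl
  obtain ⟨n, hn, b, hb⟩ : ∃ n, Module.finrank F V = n ∧ ∃ b : Module.Basis (Fin n) F V,
      ∀ i j, H.h (b i) (b j) = if i = j then 1 else 0 := ⟨_, rfl, H.exists_orthonormal⟩
  obtain rfl : n = m := hn.symm.trans hm
  rcases vG_cases (ℓ := ℓ) hq2 hnd hm2 with ⟨k, hk0, hkm, hsum⟩ | ⟨h2, hzero⟩ | ⟨a, ha, hma, hval⟩ | ⟨h2, hm'⟩
  · -- a stabiliser of a subspace contains a Sylow subgroup
    intro Γ _ _ σ hσ
    rw [← good_top_iff]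
    let W := cspan b {i : Fin n | i.val < k}
    have hW : H.NondegOn W := nondegOn_cspan H b hb _
    have hWk : Module.finrank F W = k := by
      rw [finrank_cspan, Nat.card_congr (show {i : Fin n | i.val < k} ≃ Fin k from
        { toFun := fun i => ⟨i.1.val, i.2⟩
          invFun := fun i => ⟨⟨i.val, by omega⟩, i.isLt⟩
          left_inv := fun i => rfl
          right_inv := fun i => rfl }), Nat.card_eq_fintype_card, Fintype.card_fin]
    have hWo : Module.finrank F (H.orth W) = n - k := by rw [H.finrank_orth, hm, hWk]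
    have hgood : Good σ (Stab H W) :=
      good_stab H hℓ hσ hW (by omega) (by omega) (good_SI H hW hσ (hsmall W hW (by omega)))
        (good_SI H (H.nondegOn_orth hW) hσ (hsmall _ (H.nondegOn_orth hW) (by omega)))
        (copGen_SI H hW (hcop _ _)) (copGen_SI H (H.nondegOn_orth hW) (hcop _ (H.nondegOn_orth hW)))
    refine Good.of_relIndex hσ le_top ?_ hgood
    rw [Subgroup.relIndex_top_right, Nat.coprime_comm, hℓ.coprime_iff_not_dvd]
    have h1 := stab_card_mul H hW (by omega)
    rw [hWk, hWo] at h1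
    have h3 : cardGUFormula H.q k * cardGUFormula H.q (n - k) * (Stab H W).index = cardGUFormula H.q n := by
      rw [← h1, mul_assoc, Subgroup.card_mul_index, H.card_SIsom_mul, hm]
    intro hdvd
    have hi0 : (Stab H W).index ≠ 0 := Subgroup.index_ne_zero_of_finite
    have hv := congrArg (padicValNat ℓ) h3
    rw [padicValNat.mul (mul_ne_zero (cardGUFormula_pos hq2 k).ne' (cardGUFormula_pos hq2 _).ne') hi0,
      padicValNat.mul (cardGUFormula_pos hq2 k).ne' (cardGUFormula_pos hq2 _).ne'] at hv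
    have := one_le_padicValNat_of_dvd hi0 hdvd
    unfold vG at hsum
    omega
  · -- cyclic Sylow subgroups
    refine triv_cyclic_case H hℓ h2 hℓF fun W hW hlt hdvd => ?_
    have hd := hdvd.trans (card_sisom_dvd (H.restrict W hW))
    have hz := hzero (Module.finrank F W) (by omega)
    exact absurd (one_le_padicValNat_of_dvd (cardGUFormula_pos hq2 _).ne' hd) (by
      rw [show padicValNat ℓ (cardGUFormula H.q (Module.finrank F W)) = 0 from hz]; omega)
  · -- the wreath product
    subst hma
    let b' : Module.Basis (Fin ℓ × Fin a) F V := b.reindex finProdFinEquiv.symm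
    haveI : NeZero ℓ := ⟨hℓ.ne_zero⟩
    refine triv_wreath H b' (fun i j => ?_) hℓ ha hcop (fun W hW h => hsmall W hW (by omega)) hval
    rw [b.reindex_apply, b.reindex_apply, hb]
    simp only [EmbeddingLike.apply_eq_iff_eq]
  · subst h2
    exact triv_two H (by omega) (by exact_mod_cast hℓF) (copGen_sisom H hℓ hp hne)

end Cfsg.Lib.UnitMult
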