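import Cfsg.Agent.Schur.SylowTransfer

/-!
Central extensions with kernel an `ℓ`-group: subgroups over which the extension has no
commutators in the kernel, and ways to build such subgroups.
-/

set_option autoImplicit false

namespace Cfsg.Lib.UnitMult

open scoped commutatorElement

universe u v w

variable {Γ : Type u} {G : Type v} [Group Γ] [Group G]

/-- A finite central extension whose kernel is an `ℓ`-group. -/
structure Cen (ℓ : ℕ) (σ : Γ →* G) : Prop where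
  surj : Function.Surjective σ
  central : σ.ker ≤ Subgroup.center Γ
  isPGroup : IsPGroup ℓ σ.ker

/-- The commutator subgroup of the preimage of `H` meets the kernel trivially. -/
def Good (σ : Γ →* G) (H : Subgroup G) : Prop :=
  σ.ker ⊓ ⁅H.comap σ, H.comap σ⁆ = ⊥

/-- Every central extension with kernel an `ℓ`-group has no commutators in its kernel. -/
def Triv (ℓ : ℕ) (G : Type v) [Group G] : Prop :=
  ∀ (Γ : Type u) [Group Γ] [Finite Γ] (σ : Γ →* G), Cen ℓ σ → σ.ker ⊓ commutator Γ = ⊥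

/-- Generation by elements of order coprime to `ℓ`. -/
def CopGen (ℓ : ℕ) (K : Subgroup G) : Prop :=
  K ≤ Subgroup.closure {x | x ∈ K ∧ (orderOf x).Coprime ℓ}

variable {σ : Γ →* G} {ℓ : ℕ}

theorem good_top_iff : Good σ ⊤ ↔ σ.ker ⊓ commutator Γ = ⊥ := by
  rw [Good, Subgroup.comap_top, commutator_def]

theorem Good.eq_one {H : Subgroup G} (h : Good σ H) {x : Γ} (h1 : σ x = 1)
    (h2 : x ∈ ⁅H.comap σ, H.comap σ⁆) : x = 1 :=
  (Subgroup.eq_bot_iff_forall _).mp h x ⟨h1, h2⟩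

theorem good_of_forall {H : Subgroup G} (h : ∀ x ∈ ⁅H.comap σ, H.comap σ⁆, σ x = 1 → x = 1) : Good σ H :=
  (Subgroup.eq_bot_iff_forall _).mpr fun x hx => h x hx.2 hx.1

theorem Good.mono {H K : Subgroup G} (hK : K ≤ H) (h : Good σ H) : Good σ K :=
  good_of_forall fun _ hx h1 => h.eq_one h1
    (Subgroup.commutator_mono (Subgroup.comap_mono hK) (Subgroup.comap_mono hK) hx)

/-- Lifts of commuting elements of a good subgroup commute. -/
theorem Good.comm {H : Subgroup G} (h : Good σ H) {a b : Γ} (ha : σ a ∈ H) (hb : σ b ∈ H)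
    (hab : σ a * σ b = σ b * σ a) : ⁅a, b⁆ = 1 :=
  h.eq_one (by rw [map_commutatorElement, commutatorElement_eq_one_iff_mul_comm, hab])
    (Subgroup.commutator_mem_commutator ha hb)

theorem Cen.comm_mul (hσ : Cen ℓ σ) {z : Γ} (hz : σ z = 1) (g : Γ) : g * z = z * g :=
  Subgroup.mem_center_iff.mp (hσ.central hz) g

theorem Cen.exists_pow (hσ : Cen ℓ σ) {z : Γ} (hz : σ z = 1) : ∃ k, z ^ ℓ ^ k = 1 := by
  obtain ⟨k, hk⟩ := hσ.isPGroup ⟨z, hz⟩
  exact ⟨k, by simpa using congrArg Subtype.val hk⟩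

theorem Cen.eq_one_of_pow (hσ : Cen ℓ σ) {z : Γ} (hz : σ z = 1) {n : ℕ} (hn : n.Coprime ℓ) (h : z ^ n = 1) :
    z = 1 := by
  obtain ⟨k, hk⟩ := hσ.exists_pow hz
  have hg := pow_gcd_eq_one.mpr ⟨h, hk⟩
  rwa [show Nat.gcd n (ℓ ^ k) = 1 from hn.pow_right k, pow_one] at hg

theorem Cen.exists_root (hσ : Cen ℓ σ) {z : Γ} (hz : σ z = 1) {n : ℕ} (hn : n.Coprime ℓ) :
    ∃ b : Γ, σ b = 1 ∧ b ^ n = z := by
  obtain ⟨k, hk⟩ := hσ.exists_pow hz
  obtain ⟨m, hm⟩ := exists_pow_eq_self_of_coprime (x := z)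
    ((hn.pow_right k).of_dvd_right (orderOf_dvd_of_pow_eq_one hk))
  exact ⟨z ^ m, by rw [map_pow, hz, one_pow], by rw [← pow_mul, mul_comm, pow_mul, hm]⟩

/-- Commutators of lifts of commuting elements vanish when one order is coprime to `ℓ`. -/
theorem Cen.comm_eq_one (hσ : Cen ℓ σ) {a b : Γ} (hab : σ a * σ b = σ b * σ a)
    (ha : (orderOf (σ a)).Coprime ℓ) : ⁅a, b⁆ = 1 := by
  have h1 : ⁅σ a, σ b⁆ = 1 := commutatorElement_eq_one_iff_mul_comm.mpr hab
  exact hσ.eq_one_of_pow (by rw [map_commutatorElement, h1]) ha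
    (Cfsg.Lib.Schur.commutator_lift_pow hσ.central (pow_orderOf_eq_one (σ a)) h1)

/-- An abelian preimage. -/
theorem good_of_commuting (hσ : Cen ℓ σ) {H : Subgroup G} {T : Set Γ} (hH : H ≤ Subgroup.closure (σ '' T))
    (hT : ∀ t ∈ T, ∀ u ∈ T, t * u = u * t) [Finite Γ] : Good σ H :=
  good_of_forall fun x hx _ => Cfsg.Lib.Schur.eq_one_of_commuting hσ.central (T := T)
    ((Subgroup.map_comap_le σ H).trans hH) hT hx

theorem good_zpowers [Finite Γ] (hσ : Cen ℓ σ) (x : G) : Good σ (Subgroup.zpowers x) := by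
  obtain ⟨X, rfl⟩ := hσ.surj x
  exact good_of_commuting hσ (T := {X}) (by rw [Set.image_singleton, ← Subgroup.zpowers_eq_closure]) (by simp)

/-- An injective image of a group with trivial `ℓ`-multiplier. -/
theorem good_range [Finite Γ] (hσ : Cen ℓ σ) {G' : Type w} [Group G'] (ι : G' →* G)
    (hι : Function.Injective ι) (h : Triv.{u} ℓ G') : Good σ ι.range := by
  let P : Subgroup Γ := ι.range.comap σ
  let r : P →* ι.range := (σ.comp P.subtype).codRestrict ι.range fun x => x.2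
  let e : G' ≃* ι.range := MonoidHom.ofInjective hι
  let σ' : P →* G' := e.symm.toMonoidHom.comp r
  have hker : ∀ x : P, σ' x = 1 ↔ σ x = 1 := fun x => by
    show e.symm (r x) = 1 ↔ _
    rw [MulEquiv.map_eq_one_iff]
    exact Subtype.ext_iff
  have hcen : Cen ℓ σ' := by
    refine ⟨fun g => ?_, fun x hx => Subgroup.mem_center_iff.mpr fun y => ?_, fun x => ?_⟩
    · obtain ⟨a, ha⟩ := hσ.surj (ι g)
      refine ⟨⟨a, ⟨g, ha.symm⟩⟩, ?_⟩
      show e.symm _ = g
      rw [MulEquiv.symm_apply_eq]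
      exact Subtype.ext ha
    · exact Subtype.ext (hσ.comm_mul ((hker x).mp hx) _)
    · obtain ⟨k, hk⟩ := hσ.exists_pow ((hker x.1).mp x.2)
      exact ⟨k, Subtype.ext (Subtype.ext (by simpa using hk))⟩
  refine good_of_forall fun x hx h1 => ?_
  rw [← Subgroup.map_subtype_commutator] at hx
  obtain ⟨y, hy, rfl⟩ := hx
  have := (Subgroup.eq_bot_iff_forall _).mp (h P σ' hcen) y ⟨(hker y).mpr h1, hy⟩
  rw [this]; rfl

/-- Triviality passes to isomorphic groups. -/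
theorem Triv.of_equiv {G' : Type w} [Group G'] (e : G' ≃* G) (h : Triv.{u} ℓ G') : Triv.{u} ℓ G := by
  intro Δ _ _ τ hτ
  have := good_range hτ e.toMonoidHom e.injective h
  rwa [show e.toMonoidHom.range = ⊤ from MonoidHom.range_eq_top.mpr e.surjective, good_top_iff] at this

/-- Going up along an index coprime to `ℓ`. -/
theorem Good.of_relIndex [Finite Γ] (hσ : Cen ℓ σ) {K H : Subgroup G} (hKH : K ≤ H)
    (hi : (K.relIndex H).Coprime ℓ) (hK : Good σ K) : Good σ H := by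
  refine good_of_forall fun z hz h1 => ?_
  let Kc : Subgroup (H.comap σ) := (K.comap σ).subgroupOf (H.comap σ)
  rw [← Subgroup.map_subtype_commutator] at hz
  obtain ⟨y, hy, rfl⟩ := hz
  have hc : ∀ g : H.comap σ, g * y = y * g := fun g => Subtype.ext (hσ.comm_mul h1 g)
  have hyK : y ∈ Kc := Subgroup.mem_subgroupOf.mpr (show σ y ∈ K by
    rw [show σ (y : Γ) = 1 from h1]; exact one_mem K)
  let φ : Kc →* Abelianization Kc := Abelianization.of
  have key : ∀ (k : ℕ) (g₀ : H.comap σ), g₀⁻¹ * y ^ k * g₀ ∈ Kc → g₀⁻¹ * y ^ k * g₀ = y ^ k := by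
    intro k g₀ _
    rw [mul_assoc, ← ((show Commute g₀ y from hc g₀).pow_right k).eq, inv_mul_cancel_left]
  have hV := MonoidHom.transfer_eq_pow φ y key
  have h2 : MonoidHom.transfer φ y = 1 := Abelianization.commutator_subset_ker (MonoidHom.transfer φ) hy
  rw [h2, eq_comm, ← MonoidHom.mem_ker] at hV
  rw [show φ.ker = commutator Kc from Abelianization.ker_of Kc] at hV
  have hcm : (commutator Kc).map ((H.comap σ).subtype.comp Kc.subtype) ≤ ⁅K.comap σ, K.comap σ⁆ := by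
    rw [commutator_def, Subgroup.map_commutator]
    refine Subgroup.commutator_mono ?_ ?_ <;>
    · rintro _ ⟨t, -, rfl⟩
      exact t.2
  have h3 : ((y : Γ)) ^ Kc.index = 1 :=
    hK.eq_one (by rw [map_pow, show σ (y : Γ) = 1 from h1, one_pow]) (hcm ⟨_, hV, rfl⟩)
  refine hσ.eq_one_of_pow h1 ?_ h3
  rw [show Kc.index = (K.comap σ).relIndex (H.comap σ) from rfl, Subgroup.relIndex_comap,
    Subgroup.map_comap_eq_self_of_surjective hσ.surj]
  exact hi

/-- Lifts commute across two commuting subgroups, one of which is generated by elements of order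
coprime to `ℓ`. -/
theorem cross_of_copGen (hσ : Cen ℓ σ) {H₁ H₂ : Subgroup G} (h : ∀ x ∈ H₁, ∀ y ∈ H₂, x * y = y * x)
    (hg : CopGen ℓ H₁) : ∀ a ∈ H₁.comap σ, ∀ b ∈ H₂.comap σ, ⁅a, b⁆ = 1 := by
  intro a ha b hb
  let C : Subgroup Γ := Subgroup.centralizer {b}
  have hle : H₁ ≤ C.map σ := by
    refine hg.trans ((Subgroup.closure_le _).mpr ?_)
    rintro x ⟨hx, hxo⟩
    obtain ⟨c, rfl⟩ := hσ.surj x
    exact ⟨c, Subgroup.mem_centralizer_singleton_iff.mpr
      (commutatorElement_eq_one_iff_mul_comm.mp (hσ.comm_eq_one (h _ hx _ hb) hxo)), rfl⟩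
  obtain ⟨c, hc, he⟩ := hle ha
  have hbc := Subgroup.mem_centralizer_singleton_iff.mp hc
  rw [Cfsg.Lib.Schur.comm_congr σ hσ.central (g := a) (g' := c) (h := b) (h' := b) he.symm rfl]
  exact commutatorElement_eq_one_iff_mul_comm.mpr hbc

/-- The join of two good commuting subgroups. -/
theorem good_sup [Finite Γ] (hσ : Cen ℓ σ) {H₁ H₂ : Subgroup G}
    (h : ∀ x ∈ H₁, ∀ y ∈ H₂, x * y = y * x) (hd : ∀ x ∈ H₁, x ∈ H₂ → x = 1) (g₁ : Good σ H₁) (g₂ : Good σ H₂)
    (hx : ∀ a ∈ H₁.comap σ, ∀ b ∈ H₂.comap σ, ⁅a, b⁆ = 1) : Good σ (H₁ ⊔ H₂) := by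
  refine good_of_forall fun z hz h1 => ?_
  set A := H₁.comap σ with hA
  set B := H₂.comap σ with hB
  have hAB : ∀ a ∈ A, ∀ b ∈ B, Commute a b := fun a ha b hb =>
    commutatorElement_eq_one_iff_mul_comm.mp (hx a ha b hb)
  let N : Subgroup Γ :=
    { carrier := {z | ∃ x ∈ ⁅A, A⁆, ∃ y ∈ ⁅B, B⁆, z = x * y}
      mul_mem' := by
        rintro _ _ ⟨x, hx, y, hy, rfl⟩ ⟨x', hx', y', hy', rfl⟩
        refine ⟨x * x', mul_mem hx hx', y * y', mul_mem hy hy', ?_⟩
        rw [mul_assoc x, ← mul_assoc y, ← (hAB x' (Subgroup.commutator_le_self A hx') y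
          (Subgroup.commutator_le_self B hy)).eq]
        group
      one_mem' := ⟨1, one_mem _, 1, one_mem _, (one_mul 1).symm⟩
      inv_mem' := by
        rintro _ ⟨x, hx, y, hy, rfl⟩
        refine ⟨x⁻¹, inv_mem hx, y⁻¹, inv_mem hy, ?_⟩
        rw [mul_inv_rev, ((hAB x (Subgroup.commutator_le_self A hx) y
          (Subgroup.commutator_le_self B hy)).inv_inv).eq] }
  have hconj : ∀ (D : Subgroup Γ), ∀ d ∈ D, ∀ e ∈ ⁅D, D⁆, d * e * d⁻¹ ∈ ⁅D, D⁆ := by
    intro D d hd e he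
    rw [show d * e * d⁻¹ = ⁅d, e⁆ * e by rw [commutatorElement_def]; group]
    exact mul_mem (Subgroup.commutator_mem_commutator hd (Subgroup.commutator_le_self D he)) he
  have hN : ⁅A ⊔ B, A ⊔ B⁆ ≤ N := by
    rw [← Subgroup.closure_eq A, ← Subgroup.closure_eq B, ← Subgroup.closure_union]
    refine Cfsg.Lib.Schur.commutator_closure_le ?_ ?_
    · rintro t ht _ ⟨x, hx, y, hy, rfl⟩
      rcases ht with ht | ht
      · refine ⟨t * x * t⁻¹, hconj A t ht x hx, y, hy, ?_⟩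
        rw [mul_assoc, mul_assoc x, ← ((hAB t ht y (Subgroup.commutator_le_self B hy)).inv_left).eq]
        group
      · refine ⟨x, hx, t * y * t⁻¹, hconj B t ht y hy, ?_⟩
        rw [← mul_assoc t, ← (hAB x (Subgroup.commutator_le_self A hx) t ht).eq]
        group
    · intro t ht u hu
      rcases ht with ht | ht <;> rcases hu with hu | hu
      · exact ⟨_, Subgroup.commutator_mem_commutator ht hu, 1, one_mem _, (mul_one _).symm⟩
      · exact ⟨1, one_mem _, 1, one_mem _, by rw [hx t ht u hu, one_mul]⟩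
      · exact ⟨1, one_mem _, 1, one_mem _, by
          rw [← commutatorElement_inv, hx u hu t ht, inv_one, one_mul]⟩
      · exact ⟨1, one_mem _, _, Subgroup.commutator_mem_commutator ht hu, (one_mul _).symm⟩
  rw [← Subgroup.comap_sup_eq σ H₁ H₂ hσ.surj] at hz
  obtain ⟨x, hxA, y, hyB, rfl⟩ := hN hz
  have hx1 : σ x = 1 := by
    refine hd _ (Subgroup.commutator_le_self A hxA) ?_
    rw [map_mul] at h1
    rw [eq_inv_of_mul_eq_one_left h1]
    exact inv_mem (Subgroup.commutator_le_self B hyB)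
  have hy1 : σ y = 1 := by rw [map_mul, hx1, one_mul] at h1; exact h1
  rw [g₁.eq_one hx1 hxA, g₂.eq_one hy1 hyB, one_mul]

theorem CopGen.mono_closure {K : Subgroup G} {S : Set G} (hS : K ≤ Subgroup.closure S)
    (hc : ∀ x ∈ S, x ∈ K ∧ (orderOf x).Coprime ℓ) : CopGen ℓ K :=
  hS.trans (Subgroup.closure_mono hc)

theorem CopGen.sup {K L : Subgroup G} (hK : CopGen ℓ K) (hL : CopGen ℓ L) : CopGen ℓ (K ⊔ L) :=
  sup_le (hK.trans (Subgroup.closure_mono fun _ hx => ⟨Subgroup.mem_sup_left hx.1, hx.2⟩))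
    (hL.trans (Subgroup.closure_mono fun _ hx => ⟨Subgroup.mem_sup_right hx.1, hx.2⟩))

theorem CopGen.bot : CopGen ℓ (⊥ : Subgroup G) := bot_le

/-- A subgroup generated by elements of order coprime to `ℓ` has an abelianisation of such exponent. -/
theorem CopGen.exists_exponent [Finite G] (hℓ : ℓ.Prime) {K : Subgroup G} (hK : CopGen ℓ K) :
    ∃ m : ℕ, m.Coprime ℓ ∧ ∀ x ∈ K, x ^ m ∈ ⁅K, K⁆ := by
  set m := ordCompl[ℓ] (Nat.card G) with hm
  have hmc : m.Coprime ℓ := (Nat.coprime_ordCompl hℓ Nat.card_pos.ne').symm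
  refine ⟨m, hmc, fun x hx => ?_⟩
  let P : Subgroup K := ((powMonoidHom m).comp (Abelianization.of (G := K))).ker
  have hle : K ≤ P.map K.subtype := by
    refine hK.trans ((Subgroup.closure_le _).mpr ?_)
    rintro y ⟨hy, hyo⟩
    refine ⟨⟨y, hy⟩, ?_, rfl⟩
    show Abelianization.of (⟨y, hy⟩ : K) ^ m = 1
    rw [← map_pow]
    have hd : orderOf y ∣ m := by
      have h := orderOf_dvd_natCard y
      rw [← Nat.ordProj_mul_ordCompl_eq_self (Nat.card G) ℓ] at h
      exact (hyo.pow_right _).dvd_of_dvd_mul_left h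
    rw [show (⟨y, hy⟩ : K) ^ m = 1 from Subtype.ext (by simpa using orderOf_dvd_iff_pow_eq_one.mp hd), map_one]
  obtain ⟨y, hy, rfl⟩ := hle hx
  rw [← Subgroup.map_subtype_commutator]
  refine ⟨y ^ m, ?_, by simp⟩
  rw [SetLike.mem_coe, ← Abelianization.ker_of, MonoidHom.mem_ker, map_pow]
  exact hy

/-- Adjoining an element `w` to a good subgroup. -/
theorem good_extend [Finite Γ] (hσ : Cen ℓ σ) {N K : Subgroup G} {w : G} (hKN : K ≤ N) (hN : Good σ N)
    (hwN : ∀ x ∈ N, w * x * w⁻¹ ∈ N) (hwK : ∀ x ∈ K, w * x * w⁻¹ ∈ K) (hNK : ⁅N, N⁆ ≤ K)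
    {m : ℕ} (hm : m.Coprime ℓ) (hmK : ∀ x ∈ K, x ^ m ∈ ⁅K, K⁆)
    (hf : ∀ g ∈ N, ⁅g, w⁆ ∈ K → ∃ f ∈ N, g * f⁻¹ ∈ K ∧
      ∀ a b : Γ, σ a = f → σ b = w → ⁅a, b⁆ = 1) :
    Good σ (N ⊔ Subgroup.zpowers w) := by
  obtain ⟨W, rfl⟩ := hσ.surj w
  set P := N.comap σ with hP
  set R := K.comap σ with hR
  have hRP : R ≤ P := Subgroup.comap_mono hKN
  -- the commutator powers
  let K1 : Subgroup Γ := (((powMonoidHom m).comp (Abelianization.of (G := R))).ker).map R.subtype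
  have memK1 : ∀ x, x ∈ K1 ↔ x ∈ R ∧ x ^ m ∈ ⁅R, R⁆ := by
    intro x
    rw [← Subgroup.map_subtype_commutator]
    constructor
    · rintro ⟨y, hy, rfl⟩
      refine ⟨y.2, y ^ m, ?_, by simp⟩
      rw [SetLike.mem_coe, ← Abelianization.ker_of, MonoidHom.mem_ker, map_pow]
      exact hy
    · rintro ⟨hxR, y, hy, he⟩
      refine ⟨⟨x, hxR⟩, ?_, rfl⟩
      show Abelianization.of (⟨x, hxR⟩ : R) ^ m = 1
      rw [← map_pow, show (⟨x, hxR⟩ : R) ^ m = y from Subtype.ext (by simpa using he.symm), ← MonoidHom.mem_ker,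
        Abelianization.ker_of]
      exact hy
  have hK1A : ∀ z ∈ K1, σ z = 1 → z = 1 := by
    intro z hz h1
    refine hσ.eq_one_of_pow h1 hm ((hN.mono hKN).eq_one (by rw [map_pow, h1, one_pow]) ((memK1 z).mp hz).2)
  have hdec : ∀ x ∈ R, ∃ k ∈ K1, ∃ a, σ a = 1 ∧ x = k * a := by
    intro x hx
    have h := hmK _ (show σ x ∈ K from hx)
    rw [← Subgroup.map_comap_eq_self_of_surjective hσ.surj K, ← Subgroup.map_commutator] at h
    obtain ⟨c, hc, he⟩ := h
    obtain ⟨b, hb1, hb⟩ := hσ.exists_root (z := c⁻¹ * x ^ m) (by rw [map_mul, map_inv, he, map_pow, inv_mul_cancel]) hm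
    refine ⟨x * b⁻¹, (memK1 _).mpr ⟨mul_mem hx (inv_mem (show σ b ∈ K by rw [hb1]; exact one_mem K)), ?_⟩, b, hb1,
      by group⟩
    rw [(show Commute x b⁻¹ from (show Commute x b from hσ.comm_mul hb1 x).inv_right).mul_pow, inv_pow, hb,
      mul_inv_rev, inv_inv, mul_inv_cancel_left]
    exact hc
  -- normalisation
  have hconjK1 : ∀ g : Γ, (∀ x ∈ K, σ g * x * (σ g)⁻¹ ∈ K) → ∀ x ∈ K1, g * x * g⁻¹ ∈ K1 := by
    intro g hg x hx
    obtain ⟨hxR, hxm⟩ := (memK1 x).mp hx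
    have hgR : ∀ y ∈ R, g * y * g⁻¹ ∈ R := fun y hy => by
      show σ _ ∈ K
      rw [map_mul, map_mul, map_inv]; exact hg _ hy
    refine (memK1 _).mpr ⟨hgR x hxR, ?_⟩
    rw [conj_pow]
    have hle : (⁅R, R⁆).map (MulAut.conj g).toMonoidHom ≤ ⁅R, R⁆ := by
      rw [Subgroup.map_commutator]
      refine Subgroup.commutator_mono ?_ ?_ <;>
      · rintro _ ⟨y, hy, rfl⟩
        exact hgR y hy
    exact hle ⟨_, hxm, rfl⟩
  have hNnorm : ∀ g ∈ N, ∀ x ∈ K, g * x * g⁻¹ ∈ K := fun g hg x hx => by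
    rw [show g * x * g⁻¹ = ⁅g, x⁆ * x by rw [commutatorElement_def]; group]
    exact mul_mem (hNK (Subgroup.commutator_mem_commutator hg (hKN hx))) hx
  have hPK1 : ⁅P, P⁆ ≤ K1 := by
    intro x hx
    have hxR : x ∈ R := by
      show σ x ∈ K
      refine hNK ?_
      rw [← Subgroup.map_comap_eq_self_of_surjective hσ.surj N, ← Subgroup.map_commutator]
      exact ⟨x, hx, rfl⟩
    obtain ⟨k, hk, a, ha, rfl⟩ := hdec x hxR
    suffices h : a = 1 by rw [h, mul_one]; exact hk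
    refine hσ.eq_one_of_pow ha hm (hN.eq_one (by rw [map_pow, ha, one_pow]) ?_)
    have hkm : k ^ m ∈ ⁅P, P⁆ := Subgroup.commutator_mono hRP hRP ((memK1 k).mp hk).2
    rw [show a ^ m = (k ^ m)⁻¹ * (k * a) ^ m by
      rw [(show Commute k a from hσ.comm_mul ha k).mul_pow, inv_mul_cancel_left]]
    exact mul_mem (inv_mem hkm) (pow_mem hx m)
  have hK1P : K1 ≤ P := fun x hx => hRP ((memK1 x).mp hx).1
  let K1' : Subgroup P := K1.subgroupOf P
  haveI : K1'.Normal := ⟨fun x hx g =>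
    hconjK1 (g : Γ) (hNnorm _ g.2) _ hx⟩
  have habel : ∀ x y : P ⧸ K1', x * y = y * x := by
    intro x y
    obtain ⟨a, rfl⟩ := QuotientGroup.mk'_surjective K1' x
    obtain ⟨b, rfl⟩ := QuotientGroup.mk'_surjective K1' y
    rw [← commutatorElement_eq_one_iff_mul_comm, ← map_commutatorElement]
    exact (QuotientGroup.eq_one_iff _).mpr (hPK1 (Subgroup.commutator_mem_commutator a.2 b.2))
  have hWP : ∀ n ∈ P, W * n * W⁻¹ ∈ P := fun n hn => by
    show σ _ ∈ N
    rw [map_mul, map_mul, map_inv]; exact hwN _ hn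
  have hcP : ∀ n : P, ⁅(n : Γ), W⁆ ∈ P := fun n => by
    rw [show ⁅(n : Γ), W⁆ = n * (W * (n : Γ)⁻¹ * W⁻¹) by rw [commutatorElement_def]; group]
    exact mul_mem n.2 (hWP _ (inv_mem n.2))
  let ψ : P →* P ⧸ K1' := MonoidHom.mk' (fun n => QuotientGroup.mk' K1' ⟨_, hcP n⟩) fun a b => by
    rw [show (⟨_, hcP (a * b)⟩ : P) = a * ⟨_, hcP b⟩ * a⁻¹ * ⟨_, hcP a⟩ from Subtype.ext (by
      simp only [Subgroup.coe_mul, Subgroup.coe_inv, commutatorElement_def]; group),
      map_mul, map_mul, map_mul, map_inv, habel (QuotientGroup.mk' K1' a), mul_inv_cancel_right]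
    exact habel _ _
  let M0 : Subgroup Γ := (ψ.range.comap (QuotientGroup.mk' K1')).map P.subtype
  have memM0 : ∀ x, x ∈ M0 ↔ ∃ k ∈ K1, ∃ n ∈ P, x = k * ⁅n, W⁆ := by
    intro x
    constructor
    · rintro ⟨y, ⟨n, hn⟩, rfl⟩
      refine ⟨(y : Γ) * ⁅(n : Γ), W⁆⁻¹, ?_, n, n.2, (inv_mul_cancel_right _ _).symm⟩
      have : y * (⟨_, hcP n⟩ : P)⁻¹ ∈ K1' := by
        rw [← QuotientGroup.eq_one_iff]
        show QuotientGroup.mk' K1' (y * _⁻¹) = 1
        rw [map_mul, map_inv, mul_inv_eq_one]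
        exact hn.symm
      exact this
    · rintro ⟨k, hk, n, hn, rfl⟩
      refine ⟨⟨k, hK1P hk⟩ * ⟨_, hcP ⟨n, hn⟩⟩, ⟨⟨n, hn⟩, ?_⟩, rfl⟩
      show QuotientGroup.mk' K1' _ = QuotientGroup.mk' K1' _
      rw [map_mul, show QuotientGroup.mk' K1' (⟨k, hK1P hk⟩ : P) = 1 from
        (QuotientGroup.eq_one_iff _).mpr hk, one_mul]
  have hKM : K1 ≤ M0 := fun k hk => (memM0 k).mpr ⟨k, hk, 1, one_mem _, by rw [commutatorElement_one_left, mul_one]⟩
  have hMP : M0 ≤ P := by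
    rintro _ ⟨y, -, rfl⟩; exact y.2
  have hcomap : (N ⊔ Subgroup.zpowers (σ W)).comap σ ≤ Subgroup.closure ((P : Set Γ) ∪ {W}) := by
    rw [← Subgroup.comap_sup_eq σ _ _ hσ.surj]
    refine sup_le (fun x hx => Subgroup.subset_closure (Or.inl hx)) ?_
    intro x hx
    obtain ⟨i, hi⟩ := Subgroup.mem_zpowers_iff.mp hx
    have : x * (W ^ i)⁻¹ ∈ P := by
      show σ _ ∈ N
      rw [map_mul, map_inv, map_zpow, hi, mul_inv_cancel]; exact one_mem N
    rw [show x = x * (W ^ i)⁻¹ * W ^ i by group]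
    have hW : W ∈ Subgroup.closure ((P : Set Γ) ∪ {W}) := Subgroup.subset_closure (Or.inr rfl)
    exact mul_mem (Subgroup.subset_closure (Or.inl this)) (zpow_mem hW i)
  refine good_of_forall fun z hz h1 => ?_
  have hzM : z ∈ M0 := by
    refine ((Subgroup.commutator_mono hcomap hcomap).trans (Cfsg.Lib.Schur.commutator_closure_le ?_ ?_)) hz
    · rintro t (ht | rfl) d hd
      · rw [show t * d * t⁻¹ = ⁅t, d⁆ * d by rw [commutatorElement_def]; group]
        exact mul_mem (hKM (hPK1 (Subgroup.commutator_mem_commutator ht (hMP hd)))) hd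
      · obtain ⟨k, hk, n, hn, rfl⟩ := (memM0 d).mp hd
        refine (memM0 _).mpr ⟨t * k * t⁻¹, hconjK1 t hwK k hk, t * n * t⁻¹, hWP n hn, ?_⟩
        simp only [commutatorElement_def]; group
    · rintro t (ht | rfl) s (hs | rfl)
      · exact hKM (hPK1 (Subgroup.commutator_mem_commutator ht hs))
      · exact (memM0 _).mpr ⟨1, one_mem _, t, ht, (one_mul _).symm⟩
      · rw [← commutatorElement_inv]
        exact inv_mem ((memM0 _).mpr ⟨1, one_mem _, s, hs, (one_mul _).symm⟩)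
      · rw [commutatorElement_self]; exact one_mem _
  obtain ⟨k, hk, n, hn, rfl⟩ := (memM0 z).mp hzM
  have hgw : ⁅σ n, σ W⁆ ∈ K := by
    rw [map_mul, map_commutatorElement] at h1
    rw [eq_inv_of_mul_eq_one_right h1]
    exact inv_mem (show σ k ∈ K from ((memK1 k).mp hk).1)
  obtain ⟨f, hfN, hgf, hfc⟩ := hf _ hn hgw
  obtain ⟨F, rfl⟩ := hσ.surj f
  obtain ⟨k', hk', a, ha, hna⟩ := hdec (n * F⁻¹) (by show σ _ ∈ K; rw [map_mul, map_inv]; exact hgf)
  have hc : ⁅n, W⁆ = k' * (W * k'⁻¹ * W⁻¹) := by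
    have e1 : ⁅n, W⁆ = ⁅k' * F, W⁆ :=
      Cfsg.Lib.Schur.comm_congr σ hσ.central
        (by rw [show n = k' * a * F by rw [← hna]; group, map_mul, map_mul, ha, mul_one, map_mul]) rfl
    rw [e1, show ⁅k' * F, W⁆ = k' * ⁅F, W⁆ * (W * k'⁻¹ * W⁻¹) by simp only [commutatorElement_def]; group,
      hfc F W rfl rfl, mul_one]
  refine hK1A _ ?_ h1
  rw [hc]
  exact mul_mem hk (mul_mem hk' (hconjK1 W hwK _ (inv_mem hk')))

/-- A stem extension of a group all whose `ℓ`-multipliers are trivial has trivial kernel. -/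
theorem ker_eq_bot_of_triv [Finite Γ] (hσ : Cfsg.IsStemExtension σ) (h : ∀ p : ℕ, p.Prime → Triv.{u} p G) :
    σ.ker = ⊥ := by
  by_contra hne
  have hcard : Nat.card σ.ker ≠ 1 := fun e => hne (Subgroup.card_eq_one.mp e)
  obtain ⟨p, hp, hdvd⟩ := Nat.exists_prime_and_dvd hcard
  haveI : Fact p.Prime := ⟨hp⟩
  set k := p ^ (Nat.card σ.ker).factorization p with hk
  let π : σ.ker →* Γ := MonoidHom.mk' (fun z => ((z : Γ)) ^ k) fun a b => by
    rw [Subgroup.coe_mul, Commute.mul_pow (Subgroup.mem_center_iff.mp (hσ.2.1 b.2) (a : Γ))]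
  set N := π.range with hNdef
  have hNker : N ≤ σ.ker := by
    rintro _ ⟨z, rfl⟩
    exact pow_mem z.2 k
  haveI : N.Normal := Cfsg.Lib.Schur.normal_of_le_center (hNker.trans hσ.2.1)
  obtain ⟨hst, hkeq⟩ := (show Cfsg.IsStemExtension (QuotientGroup.lift N σ hNker) ∧ _ from
    ⟨by
      refine ⟨fun q => ?_, ?_, ?_⟩
      · obtain ⟨g, hg⟩ := hσ.1 q
        exact ⟨(g : Γ ⧸ N), hg⟩
      · rw [QuotientGroup.ker_lift]
        rintro _ ⟨z, hz, rfl⟩
        refine Subgroup.mem_center_iff.mpr fun g => ?_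
        obtain ⟨g', rfl⟩ := QuotientGroup.mk'_surjective N g
        rw [← map_mul, ← map_mul, Subgroup.mem_center_iff.mp (hσ.2.1 hz) g']
      · rw [QuotientGroup.ker_lift]
        refine (Subgroup.map_mono hσ.2.2).trans ?_
        rw [commutator_def, commutator_def, Subgroup.map_commutator]
        exact Subgroup.commutator_mono le_top le_top, QuotientGroup.ker_lift N σ hNker⟩)
  have hcen : Cen p (QuotientGroup.lift N σ hNker) := by
    refine ⟨hst.1, hst.2.1, fun x => ⟨(Nat.card σ.ker).factorization p, ?_⟩⟩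
    obtain ⟨z, hz, hzx⟩ := (show (x : Γ ⧸ N) ∈ σ.ker.map (QuotientGroup.mk' N) from hkeq ▸ x.2)
    refine Subtype.ext ?_
    rw [Subgroup.coe_pow, ← hzx, ← map_pow, Subgroup.coe_one]
    exact (QuotientGroup.eq_one_iff _).mpr ⟨⟨z, hz⟩, rfl⟩
  have hbot : σ.ker.map (QuotientGroup.mk' N) = ⊥ := by
    rw [← hkeq, ← le_bot_iff, ← h p hp _ _ hcen]
    exact le_inf le_rfl hst.2.2
  rw [Subgroup.map_eq_bot_iff, QuotientGroup.ker_mk'] at hbot
  -- every element of the kernel is a power, so the prime does not divide the order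
  let π' : σ.ker → σ.ker := fun z => z ^ k
  have hsurj : Function.Surjective π' := fun z => by
    obtain ⟨y, hy⟩ := hbot z.2
    exact ⟨y, Subtype.ext hy⟩
  obtain ⟨z, hz⟩ := exists_prime_orderOf_dvd_card' p hdvd
  have hinj := Finite.injective_iff_surjective.mpr hsurj
  have hk1 : p ∣ k := dvd_pow_self p (by
    have := (Nat.Prime.factorization_pos_of_dvd hp Nat.card_pos.ne' hdvd)
    omega)
  have : z = 1 := hinj (show z ^ k = (1 : σ.ker) ^ k by
    rw [one_pow]; exact orderOf_dvd_iff_pow_eq_one.mp (hz ▸ hk1))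
  rw [this, orderOf_one] at hz
  exact hp.one_lt.ne hz

end Cfsg.Lib.UnitMult
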