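import Cfsg.Agent.UnitMult.Ext
import Cfsg.Agent.Classical.Unitary.Decomp
import Cfsg.Agent.Classical.Unitary.Transv

/-!
Special unitary groups of orthogonal summands, inside the special unitary group.
-/

set_option autoImplicit false

namespace Cfsg.Lib.UnitMult

open Cfsg.Lib.Classical
open scoped commutatorElement

universe u v w

theorem det_of_isCompl {F : Type v} [Field F] {V : Type w} [AddCommGroup V] [Module F V] [FiniteDimensional F V]
    {W U : Submodule F V} (hc : IsCompl W U) (f : V →ₗ[F] V) (fW : W →ₗ[F] W) (fU : U →ₗ[F] U)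
    (h1 : ∀ x : W, f x = fW x) (h2 : ∀ x : U, f x = fU x) :
    LinearMap.det f = LinearMap.det fW * LinearMap.det fU := by
  set e := Submodule.prodEquivOfIsCompl W U hc
  have hf : f = e.toLinearMap ∘ₗ (fW.prodMap fU) ∘ₗ e.symm.toLinearMap := by
    refine LinearMap.ext fun x => ?_
    obtain ⟨⟨a, b⟩, rfl⟩ := e.surjective x
    simp [e, h1, h2]
  rw [hf, LinearMap.det_conj, LinearMap.det_prodMap]

variable {F : Type v} [Field F] [Finite F] {V : Type w} [AddCommGroup V] [Module F V] [FiniteDimensional F V]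
  (H : HermSpace F V)

omit [Finite F] [FiniteDimensional F V] in
theorem smul_isom (g : H.Isom) (x y : V) : H.h (g.1 x) (g.1 y) = H.h x y := H.map_form g x y

instance finite_isom : Finite H.Isom :=
  haveI : Finite V := Module.finite_of_finite F
  Finite.of_injective (fun g : H.Isom => (g.1 : V → V)) fun a b h => H.isom_ext fun x => congrFun h x

/-- Special isometries fixing every vector orthogonal to `W`. -/
def SI (W : Submodule F V) : Subgroup H.SIsom where
  carrier := {g | ∀ x ∈ H.orth W, g.1.1 x = x}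
  mul_mem' {a b} ha hb := fun x hx => by
    show (a.1 * b.1).1 x = x
    rw [H.mul_apply', hb x hx, ha x hx]
  one_mem' := fun x _ => rfl
  inv_mem' {a} ha := fun x hx => by
    show (a.1⁻¹).1 x = x
    conv_lhs => rw [← ha x hx]
    exact H.inv_apply_self a.1 x

theorem mem_SI {W : Submodule F V} {g : H.SIsom} : g ∈ SI H W ↔ ∀ x ∈ H.orth W, g.1.1 x = x := Iff.rfl

omit [Finite F] [FiniteDimensional F V] in
/-- An isometry fixing the orthogonal subspace preserves `W`. -/
theorem maps_of_fix {U : Submodule F V} {g : H.Isom} (hg : ∀ x ∈ U, g.1 x = x) {y : V} (hy : y ∈ H.orth U) :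
    g.1 y ∈ H.orth U := fun w hw => by
  conv_lhs => rw [← hg w hw]
  rw [H.map_form]; exact hy w hw

theorem SI_maps {W : Submodule F V} {g : H.SIsom} (hg : g ∈ SI H W) {y : V} (hy : y ∈ W) : g.1.1 y ∈ W := by
  have := maps_of_fix H hg (H.le_orth_orth W hy)
  rwa [H.orth_orth] at this

theorem SI_mono {W W' : Submodule F V} (h : W ≤ W') : SI H W ≤ SI H W' :=
  fun _ hg x hx => hg x fun w hw => hx w (h hw)

theorem SI_top : SI H ⊤ = ⊤ :=
  eq_top_iff.mpr fun g _ x hx => by
    rw [H.nondeg x fun y => H.eq_zero_symm (hx y Submodule.mem_top), map_zero]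

theorem SI_commute {W U : Submodule F V} (hWU : U ≤ H.orth W) (hW : H.NondegOn W) :
    ∀ a ∈ SI H W, ∀ b ∈ SI H U, a * b = b * a := by
  intro a ha b hb
  have hUW : ∀ x ∈ W, b.1.1 x = x := fun x hx => hb x fun u hu => H.eq_zero_symm (hWU hu x hx)
  refine Subtype.ext (H.eq_of_fix_orth hW (fun x hx => ?_) fun x hx => ?_)
  · show (a.1 * b.1).1 x = (b.1 * a.1).1 x
    rw [H.mul_apply', H.mul_apply', hUW x hx, hUW _ (SI_maps H ha hx)]
  · show (a.1 * b.1).1 x = (b.1 * a.1).1 x
    rw [H.mul_apply', H.mul_apply', ha x hx]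
    exact ha _ (maps_of_fix H hUW hx)

theorem SI_disjoint {W U : Submodule F V} (hWU : U ≤ H.orth W) (hW : H.NondegOn W) :
    ∀ a ∈ SI H W, a ∈ SI H U → a = 1 := fun a ha hb =>
  Subtype.ext (H.eq_of_fix_orth hW (fun x hx => hb x fun u hu => H.eq_zero_symm (hWU hu x hx)) fun x hx => ha x hx)

section Restrict

variable {W : Submodule F V} (hW : H.NondegOn W)

/-- Extend an isometry of a nondegenerate subspace by the identity. -/
noncomputable def extIsom : (H.restrict W hW).Isom →* H.Isom :=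
  ((H.subStab W).subtype.comp (H.subStabEquiv W hW).symm.toMonoidHom).comp (MonoidHom.inl _ _)

theorem extIsom_apply (k : (H.restrict W hW).Isom) (x : W) : (extIsom H hW k).1 x = (k.1 x : V) := by
  have h := (H.subStabEquiv W hW).apply_symm_apply (MonoidHom.inl _ _ k)
  exact congrArg (fun t => ((t.1.1 : W ≃ₗ[F] W) x : V)) h

theorem extIsom_orth (k : (H.restrict W hW).Isom) {x : V} (hx : x ∈ H.orth W) : (extIsom H hW k).1 x = x := by
  have h := (H.subStabEquiv W hW).apply_symm_apply (MonoidHom.inl _ _ k)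
  exact congrArg (fun t => ((t.2.1 : H.orth W ≃ₗ[F] H.orth W) ⟨x, hx⟩ : V)) h

theorem extIsom_injective : Function.Injective (extIsom H hW) :=
  (Subtype.val_injective.comp (H.subStabEquiv W hW).symm.injective).comp fun _ _ h => congrArg Prod.fst h

theorem det_extIsom (k : (H.restrict W hW).Isom) : H.detHom (extIsom H hW k) = (H.restrict W hW).detHom k := by
  refine Units.ext ?_
  show ((LinearEquiv.det (extIsom H hW k).1 : Fˣ) : F) = ((LinearEquiv.det k.1 : Fˣ) : F)
  rw [LinearEquiv.coe_det, LinearEquiv.coe_det]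
  refine (det_of_isCompl (H.isCompl_orth hW) _ k.1.toLinearMap LinearMap.id (fun x => extIsom_apply H hW k x)
    (fun x => extIsom_orth H hW k x.2)).trans ?_
  rw [LinearMap.det_id, mul_one]

/-- Extend a special isometry of a nondegenerate subspace by the identity. -/
noncomputable def extSIsom : (H.restrict W hW).SIsom →* H.SIsom :=
  ((extIsom H hW).comp (H.restrict W hW).SIsom.subtype).codRestrict H.SIsom fun k => by
    show extIsom H hW k.1 ∈ H.detHom.ker
    rw [MonoidHom.mem_ker, det_extIsom]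
    exact k.2

theorem extSIsom_injective : Function.Injective (extSIsom H hW) := fun a b h =>
  Subtype.ext (extIsom_injective H hW (congrArg (fun t : H.SIsom => t.1) h :))

theorem range_extSIsom : (extSIsom H hW).range = SI H W := by
  refine le_antisymm ?_ fun g hg => ?_
  · rintro _ ⟨k, rfl⟩ x hx
    exact extIsom_orth H hW k.1 hx
  · obtain ⟨g₁, g₂⟩ := (⟨(H.subStabEquiv W hW) ⟨g.1, H.mem_subStab_of_map_le fun x hx => SI_maps H hg hx⟩, rfl⟩ :
      ∃ p, p = (H.subStabEquiv W hW) ⟨g.1, H.mem_subStab_of_map_le fun x hx => SI_maps H hg hx⟩)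
    let k : (H.restrict W hW).Isom := g₁.1
    have he : extIsom H hW k = g.1 := by
      refine H.eq_of_fix_orth hW (fun x hx => ?_) fun x hx => ?_
      · rw [extIsom_apply H hW k ⟨x, hx⟩]
        show ((g₁.1.1 : W ≃ₗ[F] W) ⟨x, hx⟩ : V) = _
        rw [g₂]; rfl
      · rw [extIsom_orth H hW k hx]; exact (hg x hx).symm
    refine ⟨⟨k, ?_⟩, Subtype.ext he⟩
    show k ∈ (H.restrict W hW).detHom.ker
    rw [MonoidHom.mem_ker, ← det_extIsom, he]
    exact g.2

theorem good_SI {Γ : Type u} [Group Γ] [Finite Γ] {ℓ : ℕ} {σ : Γ →* H.SIsom} (hσ : Cen ℓ σ)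
    (h : Triv.{u} ℓ (H.restrict W hW).SIsom) : Good σ (SI H W) :=
  range_extSIsom H hW ▸ good_range hσ (extSIsom H hW) (extSIsom_injective H hW) h

theorem copGen_SI {ℓ : ℕ} (h : CopGen ℓ (⊤ : Subgroup (H.restrict W hW).SIsom)) : CopGen ℓ (SI H W) := by
  unfold CopGen at h ⊢
  rw [← range_extSIsom H hW, MonoidHom.range_eq_map]
  refine (Subgroup.map_mono h).trans ?_
  rw [MonoidHom.map_closure]
  refine Subgroup.closure_mono ?_
  rintro _ ⟨x, ⟨-, hx⟩, rfl⟩
  exact ⟨⟨x, trivial, rfl⟩, by rwa [orderOf_injective _ (extSIsom_injective H hW)]⟩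

end Restrict

/-- The stabiliser of a subspace in the special unitary group. -/
noncomputable def Stab (W : Submodule F V) : Subgroup H.SIsom := (H.subStab W).comap H.SIsom.subtype

theorem stab_card_mul {W : Submodule F V} (hW : H.NondegOn W) (hk : 0 < Module.finrank F W) :
    (H.q + 1) * Nat.card (Stab H W) =
      cardGUFormula H.q (Module.finrank F W) * cardGUFormula H.q (Module.finrank F (H.orth W)) := by
  have hcard : Nat.card (H.subStab W) =
      cardGUFormula H.q (Module.finrank F W) * cardGUFormula H.q (Module.finrank F (H.orth W)) := by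
    rw [Nat.card_congr (H.subStabEquiv W hW).toEquiv, Nat.card_prod, HermSpace.card_isom, HermSpace.card_isom]
    rfl
  let f := H.detHom.comp (H.subStab W).subtype
  have hr : f.range = (normUnits H.σ).ker := by
    refine le_antisymm ?_ fun z hz => ?_
    · rintro _ ⟨g, rfl⟩; exact H.det_mem_norm_ker g.1
    · haveI : Nontrivial W := Module.nontrivial_of_finrank_pos hk
      obtain ⟨k, hkd⟩ := (show z ∈ (H.restrict W hW).detHom.range by rw [HermSpace.range_detHom]; exact hz)
      refine ⟨⟨extIsom H hW k, H.mem_subStab_of_map_le fun x hx => ?_⟩, ?_⟩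
      · rw [extIsom_apply H hW k ⟨x, hx⟩]; exact (k.1 ⟨x, hx⟩).2
      · show H.detHom (extIsom H hW k) = z
        rw [det_extIsom, hkd]
  let e : f.ker ≃ Stab H W :=
    { toFun := fun g => ⟨⟨g.1.1, g.2⟩, g.1.2⟩
      invFun := fun g => ⟨⟨g.1.1, g.2⟩, g.1.2⟩
      left_inv := fun g => rfl
      right_inv := fun g => rfl }
  rw [← hcard, ← f.ker.card_mul_index, Subgroup.index_ker, hr, H.conj.card_norm_ker, Nat.card_congr e, mul_comm]
  rfl

/-- Extensions split over the stabiliser of a nondegenerate subspace, once they split over both summands. -/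
theorem good_stab {Γ : Type u} [Group Γ] [Finite Γ] {ℓ : ℕ} (hℓ : ℓ.Prime) {σ : Γ →* H.SIsom} (hσ : Cen ℓ σ)
    {W : Submodule F V} (hW : H.NondegOn W) (hk : 0 < Module.finrank F W)
    (hk' : 0 < Module.finrank F (H.orth W))
    (g₁ : Good σ (SI H W)) (g₂ : Good σ (SI H (H.orth W)))
    (c₁ : CopGen ℓ (SI H W)) (c₂ : CopGen ℓ (SI H (H.orth W))) : Good σ (Stab H W) := by
  classical
  haveI : Nontrivial W := Module.nontrivial_of_finrank_pos hk
  haveI : Nontrivial (H.orth W) := Module.nontrivial_of_finrank_pos hk'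
  have hU := H.nondegOn_orth hW
  set K := SI H W ⊔ SI H (H.orth W) with hK
  have hcm := SI_commute H (le_refl (H.orth W)) hW
  have hKgood : Good σ K :=
    good_sup hσ hcm (SI_disjoint H (le_refl (H.orth W)) hW) g₁ g₂ (cross_of_copGen hσ hcm c₁)
  obtain ⟨v, hv⟩ := (H.restrict W hW).exists_norm_one
  obtain ⟨v', hv'⟩ := (H.restrict (H.orth W) hU).exists_norm_one
  obtain ⟨z, hz⟩ := IsCyclic.exists_generator (α := (normUnits H.σ).ker)
  let a : H.Isom := extIsom H hW ((H.restrict W hW).qrefl hv z)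
  let b : H.Isom := extIsom H hU ((H.restrict (H.orth W) hU).qrefl hv' z)
  have hda : H.detHom a = z.1 := (det_extIsom H hW _).trans ((H.restrict W hW).det_qrefl hv z)
  have hdb : H.detHom b = z.1 := (det_extIsom H hU _).trans ((H.restrict (H.orth W) hU).det_qrefl hv' z)
  let d : H.SIsom := ⟨a * b⁻¹, by
    show _ ∈ H.detHom.ker
    rw [MonoidHom.mem_ker, map_mul, map_inv, hda, hdb, mul_inv_cancel]⟩
  have ha : a ∈ H.subStab W := H.mem_subStab_of_map_le fun x hx => by
    rw [extIsom_apply H hW _ ⟨x, hx⟩]; exact (((H.restrict W hW).qrefl hv z).1 ⟨x, hx⟩).2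
  have hb : b ∈ H.subStab W := H.mem_subStab_of_map_le fun x hx => by
    rw [extIsom_orth H hU _ (H.le_orth_orth W hx)]; exact hx
  have hdS : d ∈ Stab H W := mul_mem ha (inv_mem hb)
  have hStab : Stab H W ≤ K ⊔ Subgroup.zpowers d := by
    intro g hg
    obtain ⟨i, hi⟩ := Subgroup.mem_zpowers_iff.mp
      (hz ⟨(H.restrict W hW).detHom (H.subStabEquiv W hW ⟨g.1, hg⟩).1, (H.restrict W hW).det_mem_norm_ker _⟩)
    have hg' : g * (d ^ i)⁻¹ ∈ Stab H W := mul_mem hg (inv_mem (zpow_mem hdS i))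
    set g' := g * (d ^ i)⁻¹ with hg'def
    obtain ⟨p, hp⟩ : ∃ p, p = H.subStabEquiv W hW ⟨g'.1, hg'⟩ := ⟨_, rfl⟩
    obtain ⟨k, l⟩ := p
    have hk : ∀ x : W, g'.1.1 x = (k.1 x : V) := fun x =>
      (congrArg (fun t => ((t.1.1 : W ≃ₗ[F] W) x : V)) hp).symm
    have hl : ∀ x : H.orth W, g'.1.1 x = (l.1 x : V) := fun x =>
      (congrArg (fun t => ((t.2.1 : H.orth W ≃ₗ[F] H.orth W) x : V)) hp).symm
    have hprod : g'.1 = extIsom H hW k * extIsom H hU l := H.eq_of_fix_orth hW
      (fun x hx => by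
        rw [H.mul_apply', extIsom_orth H hU l (H.le_orth_orth W hx), extIsom_apply H hW k ⟨x, hx⟩]
        exact hk ⟨x, hx⟩)
      (fun x hx => by
        rw [H.mul_apply', extIsom_apply H hU l ⟨x, hx⟩, extIsom_orth H hW k (l.1 ⟨x, hx⟩).2]
        exact hl ⟨x, hx⟩)
    have hda' : H.subStabEquiv W hW ⟨a, ha⟩ = ((H.restrict W hW).qrefl hv z, 1) :=
      Prod.ext (Subtype.ext (LinearEquiv.ext fun x => Subtype.ext (extIsom_apply H hW _ x)))
        (Subtype.ext (LinearEquiv.ext fun x => Subtype.ext (extIsom_orth H hW _ x.2)))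
    have hdb' : (H.subStabEquiv W hW ⟨b, hb⟩).1 = 1 :=
      Subtype.ext (LinearEquiv.ext fun x => Subtype.ext (extIsom_orth H hU _ (H.le_orth_orth W x.2)))
    have hdetk : (H.restrict W hW).detHom k = 1 := by
      let D : H.subStab W →* Fˣ :=
        (H.restrict W hW).detHom.comp ((MonoidHom.fst _ _).comp (H.subStabEquiv W hW).toMonoidHom)
      have e1 : D ⟨g'.1, hg'⟩ = (H.restrict W hW).detHom k := by
        exact congrArg (fun t => (H.restrict W hW).detHom t.1) hp.symm
      rw [← e1, show (⟨g'.1, hg'⟩ : H.subStab W) = ⟨g.1, hg⟩ * ((⟨a, ha⟩ * ⟨b, hb⟩⁻¹) ^ i)⁻¹ from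
        Subtype.ext (by simp [hg'def, d]), map_mul, map_inv, map_zpow, map_mul, map_inv,
        show D ⟨b, hb⟩ = 1 from (congrArg (H.restrict W hW).detHom hdb').trans (map_one _),
        show D ⟨a, ha⟩ = z.1 from
          (congrArg (fun t => (H.restrict W hW).detHom t.1) hda').trans ((H.restrict W hW).det_qrefl hv z),
        inv_one, mul_one, mul_inv_eq_one]
      exact (congrArg Subtype.val hi).symm.trans (by simp)
    have hdetl : (H.restrict (H.orth W) hU).detHom l = 1 := by
      have h := g'.2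
      change H.detHom g'.1 = 1 at h
      rw [hprod, map_mul, det_extIsom, det_extIsom, hdetk, one_mul] at h
      exact h
    have hmem : g' ∈ K := by
      rw [show g' = extSIsom H hW ⟨k, hdetk⟩ * extSIsom H hU ⟨l, hdetl⟩ from Subtype.ext hprod, hK,
        ← range_extSIsom H hW, ← range_extSIsom H hU]
      exact Subgroup.mul_mem_sup ⟨_, rfl⟩ ⟨_, rfl⟩
    rw [show g = g' * d ^ i by rw [hg'def, inv_mul_cancel_right]]
    exact Subgroup.mul_mem_sup hmem (zpow_mem (Subgroup.mem_zpowers d) i)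
  obtain ⟨m, hm, hmK⟩ := (c₁.sup c₂).exists_exponent hℓ
  have hconj : ∀ x ∈ K, d * x * d⁻¹ ∈ K := by
    have h1 : ∀ (U : Submodule F V), (∀ x ∈ H.orth U, (d⁻¹).1.1 x ∈ H.orth U) →
        ∀ g ∈ SI H U, d * g * d⁻¹ ∈ SI H U := by
      intro U hd g hg x hx
      show (d.1 * g.1 * (d⁻¹).1).1 x = x
      rw [H.mul_apply', H.mul_apply', hg _ (hd x hx)]
      exact H.apply_inv_self d.1 x
    have h2 : ∀ x ∈ H.orth W, (d⁻¹).1.1 x ∈ H.orth W := fun x hx =>
      H.subStab_orth ⟨(d⁻¹).1, inv_mem hdS⟩ hx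
    have h3 : ∀ x ∈ H.orth (H.orth W), (d⁻¹).1.1 x ∈ H.orth (H.orth W) := fun x hx => by
      rw [H.orth_orth] at hx ⊢
      exact ((inv_mem hdS : (d⁻¹).1 ∈ H.subStab W) x).mp hx
    have hle : K ≤ K.comap (MulAut.conj d).toMonoidHom :=
      sup_le (fun g hg => Subgroup.mem_sup_left (h1 W h2 g hg))
        fun g hg => Subgroup.mem_sup_right (h1 _ h3 g hg)
    exact fun x hx => hle hx
  refine (good_extend hσ (le_refl K) hKgood hconj hconj (Subgroup.commutator_le_self K) hm hmK
    fun g hg _ => ⟨1, one_mem _, by rw [inv_one, mul_one]; exact hg, fun a b ha _ =>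
      commutatorElement_eq_one_iff_mul_comm.mpr (hσ.comm_mul ha b).symm⟩).mono hStab

end Cfsg.Lib.UnitMult
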