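import Cfsg.Agent.UnitMult.Blocks
import Cfsg.Agent.Classical.Unitary.Simple
import Cfsg.Agent.Classical.Unitary.UThreeTwo

/-!
Special unitary groups are generated by elements of order coprime to `ℓ`, for `ℓ` different from
the characteristic.
-/

set_option autoImplicit false

namespace Cfsg.Lib.UnitMult

open Cfsg.Lib.Classical

universe v w w'

variable {F : Type v} [Field F] {V : Type w} [AddCommGroup V] [Module F V] (H : HermSpace F V)

theorem detHom_isomCongr [FiniteDimensional F V] {V' : Type w'} [AddCommGroup V'] [Module F V']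
    [FiniteDimensional F V'] (H' : HermSpace F V') (e : V ≃ₗ[F] V') (he : ∀ x y, H'.h (e x) (e y) = H.h x y)
    (g : H.Isom) : H'.detHom (H.isomCongr H' e he g) = H.detHom g := by
  refine Units.ext ?_
  show ((LinearEquiv.det (H.isomCongr H' e he g).1 : Fˣ) : F) = ((LinearEquiv.det g.1 : Fˣ) : F)
  rw [LinearEquiv.coe_det, LinearEquiv.coe_det]
  exact LinearMap.det_conj g.1.toLinearMap e

/-- Isometric spaces have isomorphic special unitary groups. -/
noncomputable def sisomCongr [FiniteDimensional F V] {V' : Type w'} [AddCommGroup V'] [Module F V']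
    [FiniteDimensional F V'] (H' : HermSpace F V') (e : V ≃ₗ[F] V') (he : ∀ x y, H'.h (e x) (e y) = H.h x y) :
    H.SIsom ≃* H'.SIsom where
  toFun g := ⟨H.isomCongr H' e he g.1, (detHom_isomCongr H H' e he g.1).trans g.2⟩
  invFun g := ⟨(H.isomCongr H' e he).symm g.1, by
    show H.detHom _ = 1
    rw [← detHom_isomCongr H H' e he, MulEquiv.apply_symm_apply]
    exact g.2⟩
  left_inv g := Subtype.ext ((H.isomCongr H' e he).symm_apply_apply g.1)
  right_inv g := Subtype.ext ((H.isomCongr H' e he).apply_symm_apply g.1)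
  map_mul' a b := Subtype.ext (map_mul (H.isomCongr H' e he) a.1 b.1)

theorem uT_pow [Finite F] {v : V} (hv : H.h v v = 0) {c : F} (hc : c + H.σ c = 0) (n : ℕ) :
    ∀ x, (H.uT hv hc ^ n).1 x = x + ((n : F) * c * H.h x v) • v := by
  induction n with
  | zero => intro x; simp
  | succ n ih =>
    intro x
    rw [pow_succ', H.mul_apply', ih, H.uT_apply, H.add_left, H.smul_left, hv, mul_zero, add_zero, add_assoc,
      ← add_smul]
    push_cast
    ring_nf

/-- Transvections have order dividing the characteristic. -/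
theorem uT_pow_char [Finite F] {p : ℕ} [CharP F p] {v : V} (hv : H.h v v = 0) {c : F} (hc : c + H.σ c = 0) :
    H.uT hv hc ^ p = 1 :=
  H.isom_ext fun x => by rw [uT_pow H hv hc, CharP.cast_eq_zero, zero_mul, zero_mul, zero_smul, add_zero]; rfl

theorem copGen_of_transv [Finite F] [FiniteDimensional F V] {ℓ p : ℕ} (hℓ : ℓ.Prime) (hp : p.Prime) [CharP F p]
    (hne : ℓ ≠ p) (h : H.transvGroup = H.SIsom) : CopGen ℓ (⊤ : Subgroup H.SIsom) := by
  intro g _
  let S : Set H.SIsom := {x | x ∈ (⊤ : Subgroup H.SIsom) ∧ (orderOf x).Coprime ℓ}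
  have hle : H.transvGroup ≤ (Subgroup.closure S).map H.SIsom.subtype := by
    rw [HermSpace.transvGroup, Subgroup.closure_le]
    rintro _ ⟨v, hv, c, hc, rfl⟩
    refine ⟨⟨_, H.uT_mem_SIsom hv hc⟩, Subgroup.subset_closure ⟨trivial, ?_⟩, rfl⟩
    refine Nat.Coprime.of_dvd_left (orderOf_dvd_of_pow_eq_one (n := p) ?_) ((Nat.coprime_primes hp hℓ).mpr hne.symm)
    exact Subtype.ext (uT_pow_char H hv hc)
  obtain ⟨y, hy, he⟩ := hle (show g.1 ∈ H.transvGroup by rw [h]; exact g.2)
  rwa [show g = y from Subtype.ext he.symm]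

theorem sisom_subsingleton [Finite F] [FiniteDimensional F V] (hd : Module.finrank F V ≤ 1) :
    Subsingleton H.SIsom := by
  rcases Nat.le_one_iff_eq_zero_or_eq_one.mp hd with h | h
  · haveI : Subsingleton V := Module.finrank_zero_iff.mp h
    exact ⟨fun a b => Subtype.ext (H.isom_ext fun x => Subsingleton.elim _ _)⟩
  · haveI : Nontrivial V := Module.nontrivial_of_finrank_pos (R := F) (by omega)
    have hc := H.card_SIsom_mul
    rw [h, show cardGUFormula H.q 1 = H.q + 1 by simp [cardGUFormula]] at hc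
    have : Nat.card H.SIsom = 1 := Nat.eq_of_mul_eq_mul_left (by omega) (hc.trans (mul_one _).symm)
    exact (Nat.card_eq_one_iff_unique.mp this).1

theorem transvGroup_two [Finite F] [FiniteDimensional F V] (hd : Module.finrank F V = 2) :
    H.transvGroup = H.SIsom := by
  refine le_antisymm H.transvGroup_le_SIsom fun g hg => ?_
  obtain ⟨v, hv, hvv⟩ := H.exists_isotropic_of_two_le (by omega)
  obtain ⟨u, hvu, huu⟩ := H.exists_hyperbolic hv hvv
  have htop : Submodule.span F ({v, u} : Set V) = ⊤ :=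
    Submodule.eq_top_of_finrank_eq (by rw [H.finrank_hyperbolic hvv hvu, hd])
  refine H.mem_transvGroup_of_plane hvv huu hvu hg (fun x _ => htop ▸ Submodule.mem_top) fun x hx => ?_
  rw [H.nondeg x fun y => H.eq_zero_symm (hx y (htop ▸ Submodule.mem_top)), map_zero]

open Cfsg.Lib.Classical.UThreeTwo in
/-- `SU₃(2)` is generated by its elements of two-power order. -/
theorem su_three_two_gen {K : Type v} [Field K] [Fintype K] (hK : Fintype.card K = 4) :
    Subgroup.closure {x : Cfsg.SU 3 K 2 | ∃ k, orderOf x = 2 ^ k} = ⊤ := by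
  obtain ⟨_, ω, hω⟩ := exists_omega hK
  set S := Subgroup.closure {x : Cfsg.SU 3 K 2 | ∃ k, orderOf x = 2 ^ k} with hS
  haveI : Fact (Nat.Prime 2) := ⟨Nat.prime_two⟩
  have mem2 : ∀ (x : Cfsg.SU 3 K 2) (k : ℕ), x ^ 2 ^ k = 1 → x ∈ S := fun x k h => by
    obtain ⟨i, -, hi⟩ := (Nat.dvd_prime_pow Nat.prime_two).mp (orderOf_dvd_of_pow_eq_one h)
    exact Subgroup.subset_closure ⟨i, hi⟩
  have inv : ∀ (X : Code) (h : UThreeTwo.Good X), mmul X X = scal 1 → el hω X h ∈ S := fun X h e => by
    refine mem2 _ 1 ?_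
    rw [pow_one, pow_two, el_mul hω h h (scal_good 1 (by decide)) e]
    exact Subtype.ext (Subtype.ext (map_scal_one hω))
  have prod : ∀ (X Y Z : Code), UThreeTwo.Good X → UThreeTwo.Good Y → ∀ (hZ : UThreeTwo.Good Z), mmul X X = scal 1 → mmul Y Y = scal 1 →
      mmul X Y = Z → el hω Z hZ ∈ S := fun X Y Z hX hY hZ eX eY e => by
    rw [← el_mul hω hX hY hZ e]; exact mul_mem (inv X hX eX) (inv Y hY eY)
  have hD : el hω mD mD_good ∈ S :=
    prod !![1, 0, 0; 0, 0, 2; 0, 3, 0] !![1, 0, 0; 0, 0, 1; 0, 1, 0] mD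
      (by decide +kernel) (by decide +kernel) _ (by decide +kernel) (by decide +kernel) (by decide +kernel)
  have hC : el hω mC mC_good ∈ S :=
    prod !![0, 1, 0; 1, 0, 0; 0, 0, 1] !![1, 0, 0; 0, 0, 1; 0, 1, 0] mC
      (by decide +kernel) (by decide +kernel) _ (by decide +kernel) (by decide +kernel) (by decide +kernel)
  have hscal : el hω (scal 2) (scal_good 2 (by decide)) ∈ S := by
    have h1 : UThreeTwo.Good (!![2, 0, 0; 0, 3, 0; 0, 0, 1] : Code) := by decide +kernel
    have h2 : UThreeTwo.Good (!![1, 0, 0; 0, 3, 0; 0, 0, 2] : Code) := by decide +kernel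
    rw [← el_mul hω h1 h2 (scal_good 2 (by decide)) (by decide +kernel)]
    exact mul_mem (prod !![0, 2, 0; 3, 0, 0; 0, 0, 1] !![0, 1, 0; 1, 0, 0; 0, 0, 1] _ (by decide +kernel)
      (by decide +kernel) h1 (by decide +kernel) (by decide +kernel) (by decide +kernel))
      (prod !![1, 0, 0; 0, 0, 3; 0, 2, 0] !![1, 0, 0; 0, 0, 1; 0, 1, 0] _ (by decide +kernel)
      (by decide +kernel) h2 (by decide +kernel) (by decide +kernel) (by decide +kernel))
  have hF2 : Fintype.card K = 2 ^ 2 := by rw [hK]; norm_num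
  have hsu : Nat.card (Cfsg.SU 3 K 2) = 216 := by
    have h := Cfsg.Lib.Classical.card_SU_mul hF2 (n := 3) (by norm_num)
    norm_num [Cfsg.Lib.Classical.cardGUFormula, Finset.prod_range_succ, -Nat.card_eq_fintype_card] at h
    omega
  haveI : Finite (Cfsg.SU 3 K 2) := Nat.finite_of_card_ne_zero (by omega)
  -- order divisible by eight
  obtain ⟨P⟩ := (inferInstance : Nonempty (Sylow 2 (Cfsg.SU 3 K 2)))
  have hP : (P : Subgroup (Cfsg.SU 3 K 2)) ≤ S := fun x hx => by
    obtain ⟨k, hk⟩ := P.isPGroup' ⟨x, hx⟩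
    exact mem2 x k (by simpa using congrArg Subtype.val hk)
  have h8 : 8 ∣ Nat.card S := by
    refine dvd_trans (dvd_of_eq ?_) (Subgroup.card_dvd_of_le hP)
    rw [P.card_eq_multiplicity, hsu]
    have : (216 : ℕ).factorization 2 = 3 := by
      rw [Nat.factorization_def _ Nat.prime_two, show (216 : ℕ) = 2 ^ 3 * 27 by norm_num,
        padicValNat.mul (by norm_num) (by norm_num), padicValNat.prime_pow,
        padicValNat.eq_zero_of_not_dvd (by norm_num)]
    rw [this]
    norm_num
  -- order divisible by twenty-seven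
  set π := QuotientGroup.mk' (Subgroup.center (Cfsg.SU 3 K 2)) with hπ
  have hz : Subgroup.center (Cfsg.SU 3 K 2) ≤ S := by
    have hcard : Nat.card (Subgroup.center (Cfsg.SU 3 K 2)) = 3 := by
      rw [Cfsg.Lib.Classical.card_center_SU hF2 (by norm_num : 2 ≤ 3)]; decide
    set s := el hω (scal 2) (scal_good 2 (by decide)) with hs
    have hne : s ≠ 1 := fun e => by
      have h := congrArg (fun g : Cfsg.SU 3 K 2 =>
        ((g : Matrix.SpecialLinearGroup (Fin 3) K) : Matrix (Fin 3) (Fin 3) K)) e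
      change (scal 2).map (ev ω) = 1 at h
      rw [← map_scal_one hω] at h
      exact absurd (Matrix.map_injective (ev_injective hω) h) (by decide +kernel)
    haveI : Fact (Nat.Prime 3) := ⟨Nat.prime_three⟩
    intro x hx
    have hmem : s ∈ Subgroup.center (Cfsg.SU 3 K 2) := el_scal_mem_center hω 2 _
    have := mem_zpowers_of_prime_card (p := 3) hcard (g := (⟨s, hmem⟩ : Subgroup.center (Cfsg.SU 3 K 2)))
      (g' := ⟨x, hx⟩) (fun e => hne (congrArg Subtype.val e))
    obtain ⟨i, hi⟩ := Subgroup.mem_zpowers_iff.mp this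
    rw [show x = s ^ i by simpa using (congrArg Subtype.val hi).symm]
    exact zpow_mem hscal i
  have h9 : 9 ∣ Nat.card (S.map π) := by
    have hN : (nHom hω).range ≤ S.map π := by
      rintro _ ⟨a, rfl⟩
      have hpow : ∀ (X : Code) (hX : UThreeTwo.Good X) (n : ℕ) (h : UThreeTwo.Good (cpow X n)),
          el hω X hX ∈ S → el hω (cpow X n) h ∈ S := by
        intro X hX n
        induction n with
        | zero =>
          intro h _
          rw [show el hω (cpow X 0) h = 1 from Subtype.ext (Subtype.ext (map_scal_one hω))]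
          exact one_mem S
        | succ n ih =>
          intro h hm
          have hp : el hω X hX ^ n ∈ S := pow_mem hm n
          have key : ∀ m : ℕ, (((el hω X hX ^ m : Cfsg.SU 3 K 2) : Matrix.SpecialLinearGroup (Fin 3) K) :
              Matrix (Fin 3) (Fin 3) K) = (cpow X m).map (ev ω) := by
            intro m
            induction m with
            | zero => exact (map_scal_one hω).symm
            | succ m ihm =>
              rw [pow_succ, Subgroup.coe_mul, Matrix.SpecialLinearGroup.coe_mul, ihm, el_coe, cpow, map_mmul hω]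
          rw [show el hω (cpow X (n + 1)) h = el hω X hX ^ (n + 1) from Subtype.ext (Subtype.ext (key (n + 1)).symm)]
          exact pow_mem hm _
      have g1 : ∀ n : ZMod 3, UThreeTwo.Good (cpow mD n.val) ∧ UThreeTwo.Good (cpow mC n.val) := by decide +kernel
      refine ⟨el hω (cpow mD a.toAdd.1.val) (g1 _).1 * el hω (cpow mC a.toAdd.2.val) (g1 _).2,
        mul_mem (hpow _ mD_good _ _ hD) (hpow _ mC_good _ _ hC), ?_⟩
      rw [hπ, el_mul hω (g1 _).1 (g1 _).2 (nX_good a.toAdd) rfl]
      rfl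
    refine dvd_trans (dvd_of_eq ?_) (Subgroup.card_dvd_of_le hN)
    rw [← Nat.card_congr (MonoidHom.ofInjective (nHom_injective hω)).toEquiv, Nat.card_eq_fintype_card]
    rfl
  have h27 : 27 ∣ Nat.card S := by
    have h := (π.subgroupMap S).ker.card_mul_index
    rw [Subgroup.index_ker, MonoidHom.range_eq_top.mpr (π.subgroupMap_surjective S), Subgroup.card_top] at h
    rw [← h, show (27 : ℕ) = 3 * 9 from rfl]
    refine Nat.mul_dvd_mul (dvd_of_eq ?_) h9
    refine ((Cfsg.Lib.Classical.card_center_SU hF2 (by norm_num : 2 ≤ 3)).trans (by decide)).symm.trans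
      (Nat.card_congr ⟨fun x => ⟨⟨x.1, hz x.2⟩, Subtype.ext ((QuotientGroup.eq_one_iff _).mpr x.2)⟩,
        fun x => ⟨x.1.1, (QuotientGroup.eq_one_iff _).mp (congrArg Subtype.val x.2)⟩, fun x => rfl, fun x => rfl⟩)
  refine Subgroup.eq_top_of_card_eq _ (le_antisymm (Subgroup.card_le_card_group _) ?_)
  rw [hsu]
  exact Nat.le_of_dvd Nat.card_pos ((show Nat.Coprime 8 27 by norm_num).mul_dvd_of_dvd_of_dvd h8 h27)

/-- The special unitary group is generated by elements of order coprime to `ℓ`. -/
theorem copGen_sisom [Finite F] [FiniteDimensional F V] {ℓ p : ℕ} (hℓ : ℓ.Prime) (hp : p.Prime) [CharP F p]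
    (hne : ℓ ≠ p) : CopGen ℓ (⊤ : Subgroup H.SIsom) := by
  rcases Nat.lt_or_ge (Module.finrank F V) 2 with hd | hd
  · haveI := sisom_subsingleton H (by omega)
    intro g _
    rw [Subsingleton.elim g 1]
    exact one_mem _
  by_cases h2 : Module.finrank F V = 2
  · exact copGen_of_transv H hℓ hp hne (transvGroup_two H h2)
  by_cases h3 : 4 ≤ Module.finrank F V ∨ (Module.finrank F V = 3 ∧ 3 ≤ H.q)
  · exact copGen_of_transv H hℓ hp hne (H.transvGroup_eq_SIsom h3)
  have hq2 := H.two_le_q
  have hq : H.q = 2 := by omega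
  have hd3 : Module.finrank F V = 3 := by omega
  letI : Fintype F := Fintype.ofFinite F
  have hF : Fintype.card F = 2 ^ 2 := by rw [← Nat.card_eq_fintype_card, H.card_field, hq]
  have hp2 : p = 2 := by
    have hd' : p ∣ 2 ^ 2 := by
      rw [← hF]
      obtain ⟨k, hk, hk'⟩ := FiniteField.card F p
      rw [hk']
      exact dvd_pow_self p k.pos.ne'
    exact (Nat.prime_dvd_prime_iff_eq hp Nat.prime_two).mp (hp.dvd_of_dvd_pow hd')
  have hσ : H.σ = powConj hF := by
    refine RingHom.ext fun x => ?_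
    rw [powConj_apply]
    rcases eq_or_ne x 0 with rfl | hx
    · simp
    have hmem : ∀ a : F, H.σ a = a → a ≠ 0 → a = 1 := by
      intro a ha ha0
      have hc : Nat.card (fixedField H.σ) = 2 := hq
      haveI : Fintype (fixedField H.σ) := Fintype.ofFinite _
      have h1 := FiniteField.pow_card_sub_one_eq_one (⟨a, ha⟩ : fixedField H.σ)
        (fun e => ha0 (congrArg Subtype.val e))
      rw [← Nat.card_eq_fintype_card, hc] at h1
      simpa using congrArg Subtype.val h1
    have hn : x * H.σ x = 1 := hmem _ (H.conj.norm_mem x) (mul_ne_zero hx ((map_ne_zero _).mpr hx))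
    have h3 : x ^ 3 = 1 := by
      have h1 := FiniteField.pow_card_sub_one_eq_one x hx
      rwa [hF] at h1
    refine mul_left_cancel₀ hx (hn.trans ?_)
    rw [← h3]; ring
  obtain ⟨e, he⟩ := H.exists_isometry (stdHerm 3 hF) hσ.symm (by rw [hd3, Module.finrank_fin_fun])
  let E : H.SIsom ≃* Cfsg.SU 3 F 2 := (sisomCongr H (stdHerm 3 hF) e he).trans (suEquiv 3 hF)
  intro g _
  have hg : E g ∈ Subgroup.closure {x : Cfsg.SU 3 F 2 | ∃ k, orderOf x = 2 ^ k} := by
    rw [su_three_two_gen (by rw [hF]; norm_num)]; trivial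
  have hle : Subgroup.closure {x : Cfsg.SU 3 F 2 | ∃ k, orderOf x = 2 ^ k} ≤
      (Subgroup.closure {x : H.SIsom | x ∈ (⊤ : Subgroup H.SIsom) ∧ (orderOf x).Coprime ℓ}).map E.toMonoidHom := by
    rw [Subgroup.closure_le]
    rintro x ⟨k, hk⟩
    refine ⟨E.symm x, Subgroup.subset_closure ⟨trivial, ?_⟩, E.apply_symm_apply x⟩
    rw [MulEquiv.orderOf_eq, hk]
    exact ((Nat.coprime_primes Nat.prime_two hℓ).mpr (by omega)).pow_left k
  obtain ⟨y, hy, hye⟩ := hle hg
  exact E.injective hye ▸ hy

end Cfsg.Lib.UnitMult
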