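import Cfsg.Agent.UnitMult.Blocks
import Cfsg.Agent.UnitMult.Gen

/-!
Coordinate subspaces and monomial isometries for an orthonormal basis.
-/

set_option autoImplicit false

namespace Cfsg.Lib.UnitMult

open Cfsg.Lib.Classical

universe v w

variable {F : Type v} [Field F] [Finite F] {V : Type w} [AddCommGroup V] [Module F V] [FiniteDimensional F V]
  (H : HermSpace F V) {ι : Type} [Fintype ι] [DecidableEq ι] (b : Module.Basis ι F V)

/-- The span of some of the basis vectors. -/
def cspan (s : Set ι) : Submodule F V := Submodule.span F (Set.range fun k : s => b k)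

omit [Finite F] [FiniteDimensional F V] [Fintype ι] [DecidableEq ι] in
theorem basis_mem_cspan {s : Set ι} {k : ι} (hk : k ∈ s) : b k ∈ cspan b s :=
  Submodule.subset_span ⟨⟨k, hk⟩, rfl⟩

omit [Finite F] [FiniteDimensional F V] [DecidableEq ι] in
theorem finrank_cspan (s : Set ι) : Module.finrank F (cspan b s) = Nat.card s := by
  classical
  rw [cspan, finrank_span_eq_card (b := fun k : s => b k) (b.linearIndependent.comp _ Subtype.val_injective),
    Nat.card_eq_fintype_card]

omit [Finite F] [FiniteDimensional F V] in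
/-- Linear maps agreeing on the basis vectors agree on their span. -/
theorem eqOn_cspan {s : Set ι} {f g : V →ₗ[F] V} (h : ∀ k ∈ s, f (b k) = g (b k)) {x : V} (hx : x ∈ cspan b s) :
    f x = g x :=
  LinearMap.eqOn_span (by rintro _ ⟨⟨k, hk⟩, rfl⟩; exact h k hk) hx

variable (hb : ∀ i j, H.h (b i) (b j) = if i = j then 1 else 0)
include hb

omit [Finite F] [FiniteDimensional F V] in
theorem h_basis_right (x : V) (k : ι) : H.h x (b k) = b.repr x k := by
  rw [H.h_eq_sum b hb x (b k), Finset.sum_eq_single k]
  · simp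
  · intro i _ hi
    simp [Finsupp.single_eq_of_ne hi]
  · simp

omit [Finite F] [FiniteDimensional F V] in
theorem mem_orth_cspan {s : Set ι} {x : V} : x ∈ H.orth (cspan b s) ↔ ∀ k ∈ s, b.repr x k = 0 := by
  rw [cspan, H.mem_orth_span]
  refine ⟨fun h k hk => ?_, ?_⟩
  · rw [← h_basis_right H b hb]; exact h _ ⟨⟨k, hk⟩, rfl⟩
  · rintro h _ ⟨⟨k, hk⟩, rfl⟩
    show H.h x (b k) = 0
    rw [h_basis_right H b hb]; exact h k hk

omit [Finite F] [FiniteDimensional F V] in
theorem orth_cspan (s : Set ι) : H.orth (cspan b s) = cspan b sᶜ := by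
  refine le_antisymm (fun x hx => ?_) (Submodule.span_le.mpr ?_)
  · rw [← b.sum_repr x]
    refine Submodule.sum_mem _ fun k _ => ?_
    by_cases hk : k ∈ s
    · rw [(mem_orth_cspan H b hb).mp hx k hk, zero_smul]; exact zero_mem _
    · exact Submodule.smul_mem _ _ (basis_mem_cspan b hk)
  · rintro _ ⟨⟨k, hk⟩, rfl⟩
    exact (mem_orth_cspan H b hb).mpr fun i hi => by
      show b.repr (b k) i = 0
      rw [b.repr_self, Finsupp.single_eq_of_ne (fun e : i = k => hk (e ▸ hi))]

omit [Finite F] [FiniteDimensional F V] in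
theorem nondegOn_cspan (s : Set ι) : H.NondegOn (cspan b s) := by
  rw [H.nondegOn_iff_disjoint, Submodule.disjoint_def]
  intro x hx hxo
  rw [orth_cspan H b hb] at hxo
  refine b.repr.injective (Finsupp.ext fun k => ?_)
  rw [map_zero, Finsupp.zero_apply]
  by_cases hk : k ∈ s
  · rw [← orth_cspan H b hb] at hxo
    exact (mem_orth_cspan H b hb).mp hxo k hk
  · rw [show cspan b s = cspan b sᶜᶜ by rw [compl_compl], ← orth_cspan H b hb] at hx
    exact (mem_orth_cspan H b hb).mp hx k hk

/-- The isometry between two orthonormal bases. -/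
noncomputable def isomOfBasis (b' : Module.Basis ι F V) (hb' : ∀ i j, H.h (b' i) (b' j) = if i = j then 1 else 0) :
    H.Isom :=
  ⟨b.equiv b' (Equiv.refl ι), fun x y => by
    rw [H.h_eq_sum b hb x y, H.h_eq_sum b' hb']
    have : ∀ (x : V) (i : ι), b'.repr (b.equiv b' (Equiv.refl ι) x) i = b.repr x i := fun x i => by
      have : (b'.coord i).comp (b.equiv b' (Equiv.refl ι)).toLinearMap = b.coord i :=
        b.ext fun j => by simp [Finsupp.single_apply]
      exact LinearMap.congr_fun this x
    exact Finset.sum_congr rfl fun i _ => by rw [this, this]⟩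

theorem exists_isom_basis {f : ι → V} (hf : ∀ i j, H.h (f i) (f j) = if i = j then 1 else 0) :
    ∃ g : H.Isom, ∀ i, g.1 (b i) = f i := by
  have hli : LinearIndependent F f := by
    rw [Fintype.linearIndependent_iff]
    intro c hc k
    have := congrArg (fun x => H.h x (f k)) hc
    simp only [H.sum_left, H.smul_left, hf, mul_ite, mul_one, mul_zero, Finset.sum_ite_eq', Finset.mem_univ,
      if_true, H.zero_left] at this
    exact this
  rcases isEmpty_or_nonempty ι with hι | hι
  · exact ⟨1, fun i => (hι.false i).elim⟩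
  let b' := basisOfLinearIndependentOfCardEqFinrank hli (Module.finrank_eq_card_basis b).symm
  refine ⟨isomOfBasis H b hb b' (fun i j => by simp [b', hf]), fun i => ?_⟩
  show b.equiv b' (Equiv.refl ι) (b i) = f i
  simp [b']

/-- Monomial isometries. -/
theorem exists_mono (π : Equiv.Perm ι) (d : ι → (normUnits H.σ).ker) :
    ∃ g : H.Isom, (∀ k, g.1 (b k) = ((d k).1 : F) • b (π k)) ∧
      (H.detHom g : F) = ((Equiv.Perm.sign π : ℤ) : F) * ∏ k, ((d k).1 : F) := by
  obtain ⟨g, hg⟩ := exists_isom_basis H b hb (f := fun k => ((d k).1 : F) • b (π k)) fun i j => by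
    rw [H.smul_left, H.smul_right, hb]
    rcases eq_or_ne i j with rfl | h
    · rw [if_pos rfl, if_pos rfl, mul_one]
      exact congrArg Units.val (MonoidHom.mem_ker.mp (d i).2)
    · rw [if_neg fun e => h (π.injective e), if_neg h, mul_zero, mul_zero]
  refine ⟨g, hg, ?_⟩
  show ((LinearEquiv.det g.1 : Fˣ) : F) = _
  rw [LinearEquiv.coe_det, ← LinearMap.det_toMatrix b]
  have hM : LinearMap.toMatrix b b g.1.toLinearMap =
      (Matrix.diagonal fun k => ((d k).1 : F)).submatrix π.symm id := by
    ext i k
    rw [LinearMap.toMatrix_apply, Matrix.submatrix_apply, id, Matrix.diagonal_apply]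
    show b.repr (g.1 (b k)) i = _
    rw [hg, map_smul, b.repr_self, Finsupp.smul_apply, Finsupp.single_apply, smul_eq_mul]
    by_cases h : π k = i
    · rw [if_pos h, if_pos (by rw [← h, π.symm_apply_apply]), mul_one, ← h, π.symm_apply_apply]
    · rw [if_neg h, if_neg (fun e => h (by rw [← e, π.apply_symm_apply])), mul_zero]
  rw [hM, Matrix.det_permute, Matrix.det_diagonal, Equiv.Perm.sign_symm]

end Cfsg.Lib.UnitMult
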