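import Cfsg.Agent.UnitMult.Torus

/-!
The product of the radical and `L`, over the field with four elements, when no scalar torus element
moves the whole radical.
-/

set_option autoImplicit false
set_option linter.unusedSectionVars false

namespace Cfsg.Lib.UnitMult

open Cfsg.Lib.Classical
open scoped commutatorElement

universe u v w

variable {F : Type v} [Field F] [Finite F] {V : Type w} [AddCommGroup V] [Module F V] [FiniteDimensional F V]

/-- Transitivity of `SI X` on vectors of `X` of given norm. -/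
theorem SI_transitive (K : HermSpace F V) {X : Submodule F V} (hX : K.NondegOn X) (h3 : 3 ≤ Module.finrank F X)
    {x x' : V} (hx : x ∈ X) (hx' : x' ∈ X) (hx0 : x ≠ 0) (hx0' : x' ≠ 0) (h : K.h x x = K.h x' x') :
    ∃ g ∈ SI K X, g.1.1 x = x' := by
  set J := K.restrict X hX
  set a : X := ⟨x, hx⟩ with ha
  set a' : X := ⟨x', hx'⟩ with ha'
  have ha0 : a ≠ 0 := fun e => hx0 (congrArg Subtype.val e)
  have ha0' : a' ≠ 0 := fun e => hx0' (congrArg Subtype.val e)
  obtain ⟨⟨g, hg⟩, y, hy, hyx⟩ : (∃ g : J.Isom, g.1 a = a') ∧ ∃ y : X, J.h y y = 1 ∧ J.h a' y = 0 := by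
    rcases eq_or_ne (J.h a a) 0 with h0 | h0
    · have h0' : J.h a' a' = 0 := h.symm.trans h0
      obtain ⟨v, hv, -⟩ := J.exists_hyperbolic ha0' h0'
      obtain ⟨y, hy, hy1, -⟩ := J.exists_norm_one_orth_pair h3 h0' hv
      exact ⟨J.transitive_isotropic ha0 ha0' h0 h0', y, hy, J.eq_zero_symm hy1⟩
    · refine ⟨J.transitive_anisotropic h0 h.symm, ?_⟩
      have hW := J.nondegOn_span_singleton (v := a') (by rw [show J.h a' a' = J.h a a from h.symm]; exact h0)
      haveI : Nontrivial (J.orth (Submodule.span F {a'})) := Module.nontrivial_of_finrank_pos (R := F) (by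
        rw [J.finrank_orth, finrank_span_singleton ha0']; omega)
      obtain ⟨y, hy⟩ := (J.restrict _ (J.nondegOn_orth hW)).exists_norm_one
      exact ⟨y.1, hy, J.eq_zero_symm (y.2 a' (Submodule.mem_span_singleton_self a'))⟩
  set z : (normUnits J.σ).ker := ⟨(J.detHom g)⁻¹, inv_mem (J.det_mem_norm_ker g)⟩ with hz
  set k : J.SIsom := ⟨J.qrefl hy z * g, by
    show _ ∈ J.detHom.ker
    rw [MonoidHom.mem_ker, map_mul, J.det_qrefl]; exact inv_mul_cancel _⟩ with hk
  refine ⟨extSIsom K hX k, by rw [← range_extSIsom K hX]; exact ⟨k, rfl⟩, ?_⟩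
  refine (extIsom_apply K hX k.1 a).trans (congrArg Subtype.val (?_ : k.1.1 a = a'))
  show (J.qrefl hy z * g).1 a = a'
  rw [J.mul_apply', hg]
  exact J.qrefl_orth hy z hyx

/-- Subgroups containing the special groups of all coordinate complements of pairs are everything. -/
theorem eq_top_of_pairs (K : HermSpace F V) {k : ℕ} (b : Module.Basis (Fin k) F V)
    (hb : ∀ i j, K.h (b i) (b j) = if i = j then 1 else 0) (hk : 7 ≤ k) (h2 : (2 : F) = 0)
    (hfix : ∀ c : F, K.σ c = c → c = 0 ∨ c = 1) {M : Subgroup K.SIsom}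
    (hM : ∀ i j : Fin k, i ≠ j → SI K (cspan b ({i, j} : Set (Fin k))ᶜ) ≤ M) : M = ⊤ := by
  classical
  let i0 : Fin k := ⟨0, by omega⟩
  let i1 : Fin k := ⟨1, by omega⟩
  let i2 : Fin k := ⟨2, by omega⟩
  let i3 : Fin k := ⟨3, by omega⟩
  let i4 : Fin k := ⟨4, by omega⟩
  let i5 : Fin k := ⟨5, by omega⟩
  have hdim : ∀ i j : Fin k, i ≠ j → Module.finrank F (cspan b ({i, j} : Set (Fin k))ᶜ) = k - 2 := by
    intro i j hij
    rw [← orth_cspan K b hb, K.finrank_orth, finrank_cspan, Module.finrank_eq_card_basis b, Fintype.card_fin,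
      Nat.card_coe_set_eq, Set.ncard_pair hij]
  set u₀ := b i0 + b i1 with hu₀
  have hu : K.h u₀ u₀ = 0 := by
    simp only [hu₀, K.add_left, K.add_right, hb, if_true, if_neg (show i0 ≠ i1 from by simp [i0, i1]),
      if_neg (show i1 ≠ i0 from by simp [i0, i1])]
    linear_combination h2
  have hu0 : u₀ ≠ 0 := fun e => by
    have := congrArg (fun x => K.h x (b i0)) e
    simp [hu₀, K.add_left, hb, K.zero_left, show i1 ≠ i0 from by simp [i0, i1]] at this
  have hu45 : u₀ ∈ cspan b ({i4, i5} : Set (Fin k))ᶜ :=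
    add_mem (basis_mem_cspan b (by simp [i0, i4, i5])) (basis_mem_cspan b (by simp [i1, i4, i5]))
  -- move every isotropic vector to `u₀`
  have hmove : ∀ v, v ≠ 0 → K.h v v = 0 → ∃ m ∈ M, m.1.1 v = u₀ := by
    intro v hv0 hv
    set a := b.repr v i0 • b i0 + b.repr v i1 • b i1 with ha
    set w := v - a with hw
    have haW : a ∈ cspan b ({i0, i1} : Set (Fin k)) :=
      add_mem (Submodule.smul_mem _ _ (basis_mem_cspan b (by simp))) (Submodule.smul_mem _ _ (basis_mem_cspan b (by simp)))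
    have hwW : w ∈ cspan b ({i0, i1} : Set (Fin k))ᶜ := by
      rw [← orth_cspan K b hb, mem_orth_cspan K b hb]
      rintro i (rfl | rfl)
      · simp [hw, ha, i0, i1]
      · simp [hw, ha, i0, i1]
    have ha45 : a ∈ cspan b ({i4, i5} : Set (Fin k))ᶜ := by
      refine add_mem (Submodule.smul_mem _ _ (basis_mem_cspan b ?_)) (Submodule.smul_mem _ _ (basis_mem_cspan b ?_))
      · simp [i0, i4, i5]
      · simp [i1, i4, i5]
    have hfinish : ∀ v', v' ∈ cspan b ({i4, i5} : Set (Fin k))ᶜ → v' ≠ 0 → K.h v' v' = 0 →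
        ∃ m ∈ M, m.1.1 v' = u₀ := by
      intro v' hv' hv'0 hv''
      obtain ⟨g, hg, hgv⟩ := SI_transitive K (nondegOn_cspan K b hb _)
        (by rw [hdim i4 i5 (by simp [i4, i5])]; omega) hv' hu45 hv'0 hu0 (hv''.trans hu.symm)
      exact ⟨g, hM i4 i5 (by simp [i4, i5]) hg, hgv⟩
    rcases eq_or_ne w 0 with hw0 | hw0
    · have hva : v = a := sub_eq_zero.mp hw0
      exact hfinish v (hva ▸ ha45) hv0 hv
    obtain ⟨w', hw'23, hw'0, hw'n, hw'a⟩ : ∃ w', w' ∈ cspan b ({i2, i3} : Set (Fin k)) ∧ w' ≠ 0 ∧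
        K.h w w = K.h w' w' ∧ w' ∈ cspan b ({i0, i1} : Set (Fin k))ᶜ := by
      have hsub : cspan b ({i2, i3} : Set (Fin k)) ≤ cspan b ({i0, i1} : Set (Fin k))ᶜ := by
        refine Submodule.span_mono ?_
        rintro _ ⟨⟨i, hi⟩, rfl⟩
        refine ⟨⟨i, ?_⟩, rfl⟩
        rcases hi with rfl | rfl <;> simp [i0, i1, i2, i3]
      rcases hfix _ (K.self_fixed w) with hn | hn
      · refine ⟨b i2 + b i3, ?_, fun e => ?_, ?_, hsub (add_mem (basis_mem_cspan b (by simp)) (basis_mem_cspan b (by simp)))⟩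
        · exact add_mem (basis_mem_cspan b (by simp)) (basis_mem_cspan b (by simp))
        · have := congrArg (fun x => K.h x (b i2)) e
          simp [K.add_left, hb, K.zero_left, show i3 ≠ i2 from by simp [i2, i3]] at this
        · rw [hn]
          simp only [K.add_left, K.add_right, hb, if_true, if_neg (show i2 ≠ i3 from by simp [i2, i3]),
            if_neg (show i3 ≠ i2 from by simp [i2, i3])]
          linear_combination -h2
      · exact ⟨b i2, basis_mem_cspan b (by simp), b.ne_zero _, by rw [hn, hb, if_pos rfl],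
          hsub (basis_mem_cspan b (by simp))⟩
    obtain ⟨g, hg, hgw⟩ := SI_transitive K (nondegOn_cspan K b hb _)
      (by rw [hdim i0 i1 (by simp [i0, i1])]; omega) hwW hw'a hw0 hw'0 hw'n
    have hga : g.1.1 a = a := hg a (by rw [orth_cspan K b hb, compl_compl]; exact haW)
    have hgv : g.1.1 v = a + w' := by
      rw [show v = a + w by rw [hw, add_sub_cancel], map_add, hga, hgw]
    have hgv0 : g.1.1 v ≠ 0 := fun e => hv0 ((LinearEquiv.map_eq_zero_iff _).mp e)
    have hw'45 : w' ∈ cspan b ({i4, i5} : Set (Fin k))ᶜ := by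
      refine Submodule.span_mono ?_ hw'23
      rintro _ ⟨⟨i, hi⟩, rfl⟩
      refine ⟨⟨i, ?_⟩, rfl⟩
      rcases hi with rfl | rfl <;> simp [i2, i3, i4, i5]
    obtain ⟨m, hm, hmv⟩ := hfinish _ (by rw [hgv]; exact add_mem ha45 hw'45) hgv0 (by rw [K.map_form]; exact hv)
    exact ⟨m * g, mul_mem hm (hM i0 i1 (by simp [i0, i1]) hg), hmv⟩
  -- transvections
  have hu23 : ∀ {c : F} (hc : c + K.σ c = 0), (⟨K.uT hu hc, K.uT_mem_SIsom hu hc⟩ : K.SIsom) ∈ M := by
    intro c hc
    refine hM i2 i3 (by simp [i2, i3]) fun x hx => ?_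
    show (K.uT hu hc).1 x = x
    have hux : u₀ ∈ cspan b ({i2, i3} : Set (Fin k))ᶜ :=
      add_mem (basis_mem_cspan b (by simp [i0, i2, i3])) (basis_mem_cspan b (by simp [i1, i2, i3]))
    rw [K.uT_apply, hx u₀ hux, mul_zero, zero_smul, add_zero]
  have hle : K.transvGroup ≤ M.map K.SIsom.subtype := by
    rw [HermSpace.transvGroup, Subgroup.closure_le]
    rintro _ ⟨v, hv, c, hc, rfl⟩
    rcases eq_or_ne v 0 with rfl | hv0
    · exact ⟨1, one_mem M, (K.uT_eq_one_of_zero hc).symm⟩
    obtain ⟨m, hm, hmv⟩ := hmove v hv0 hv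
    refine ⟨m⁻¹ * ⟨K.uT hu hc, K.uT_mem_SIsom hu hc⟩ * m, mul_mem (mul_mem (inv_mem hm) (hu23 hc)) hm, ?_⟩
    show m.1⁻¹ * K.uT hu hc * m.1 = _
    have h := K.uT_conj m.1⁻¹ hu hc
    rw [inv_inv] at h
    rw [h]
    refine K.isom_ext fun x => ?_
    rw [K.uT_apply, K.uT_apply, ← hmv, K.inv_apply_self]
  rw [K.transvGroup_eq_SIsom (Or.inl (by rw [Module.finrank_eq_card_basis b, Fintype.card_fin]; omega))] at hle
  rw [eq_top_iff]
  intro g _
  obtain ⟨m, hm, he⟩ := hle g.2
  rwa [← show m = g from Subtype.ext he]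

variable {H : HermSpace F V} (P : HPair H) {Γ : Type u} [Group Γ] [Finite Γ] {ℓ : ℕ} {σ : Γ →* H.SIsom}

namespace HPair

/-- Splitting over the product when no scalar works. -/
theorem good_QL_pairs (hσ : Cen ℓ σ) (hQ : Good σ P.Q) (hL : Good σ P.L) (hq : H.q = 2)
    (hk : 7 ≤ Module.finrank F P.U) (hmod : Module.finrank F P.U % 3 = 1) : Good σ (P.Q ⊔ P.L) := by
  classical
  obtain ⟨h2, ω, hω0, hω1, hσω, hNω, hall⟩ := four_facts H.conj hq
  set K := H.restrict P.U P.nondegU
  obtain ⟨k, hn, b, hb⟩ : ∃ n, Module.finrank F P.U = n ∧ ∃ b : Module.Basis (Fin n) F P.U,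
      ∀ i j, K.h (b i) (b j) = if i = j then 1 else 0 := ⟨_, rfl, K.exists_orthonormal⟩
  rw [hn] at hk hmod
  have hU : 0 < Module.finrank F P.U := by omega
  let z : (normUnits K.σ).ker := ⟨Units.mk0 ω hω0, by
    rw [MonoidHom.mem_ker]; refine Units.ext ?_; rw [coe_normUnits]; exact hNω⟩
  have hω3 : ω ^ 3 = 1 := by
    rw [hσω] at hNω
    linear_combination (ω - 1) * hNω + (ω - 1) * h2
  -- the pair elements
  have hexists : ∀ i j : Fin k, i ≠ j → ∃ g : K.SIsom,
      ∀ l, g.1.1 (b l) = (if l ∈ ({i, j} : Set (Fin k)) then ω else ω * ω) • b l := by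
    intro i j hij
    obtain ⟨g, hg, hgd⟩ := exists_mono K b hb 1 (fun l => if l ∈ ({i, j} : Set (Fin k)) then z else z * z)
    refine ⟨⟨g, ?_⟩, fun l => ?_⟩
    · show g ∈ K.detHom.ker
      rw [MonoidHom.mem_ker]
      refine Units.ext ?_
      rw [hgd, Equiv.Perm.sign_one, Units.val_one, Int.cast_one, one_mul,
        ← Finset.prod_mul_prod_compl ({i, j} : Finset (Fin k)),
        Finset.prod_congr rfl (g := fun _ => ω) (fun l hl => by
          have hl' : l ∈ ({i, j} : Set (Fin k)) := by simpa using hl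
          simp [hl', z]),
        Finset.prod_congr rfl (s₁ := ({i, j} : Finset (Fin k))ᶜ) (g := fun _ => ω * ω) (fun l hl => by
          have hl' : l ∉ ({i, j} : Set (Fin k)) := by simpa using hl
          simp [hl', z]),
        Finset.prod_const, Finset.prod_const, Finset.card_compl, Finset.card_pair hij, Fintype.card_fin]
      obtain ⟨r, hr⟩ : ∃ r, k - 2 = 3 * r + 2 := ⟨(k - 2) / 3, by omega⟩
      rw [hr, pow_add, pow_mul, show (ω * ω) ^ 3 = (ω ^ 3) ^ 2 by ring, hω3, one_pow, one_pow, one_mul,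
        show ω ^ 2 * (ω * ω) ^ 2 = (ω ^ 3) ^ 2 by ring, hω3, one_pow, Units.val_one]
    · show g.1 (b l) = _
      rw [hg]
      split_ifs <;> rfl
  choose g hg using hexists
  let t : ∀ i j : Fin k, i ≠ j → H.SIsom := fun i j h => extSIsom H P.nondegU (g i j h)
  have htL : ∀ i j h, t i j h ∈ P.L := fun i j h => by
    show _ ∈ SI H P.U
    rw [← range_extSIsom H P.nondegU]; exact ⟨_, rfl⟩
  have hfp : ∀ i j h, Fpf P.Q (t i j h) := fun i j h => by
    refine P.fpf_of_torus hU (d := 1) (by rw [one_smul]; exact P.L_e (htL i j h)) (k := (g i j h).1.1)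
      (fun x => extIsom_apply H P.nondegU (g i j h).1 x) fun x hx => ?_
    rw [map_one, one_smul] at hx
    refine b.repr.injective (Finsupp.ext fun l => ?_)
    have hc : (b.coord l).comp (g i j h).1.1.toLinearMap =
        (if l ∈ ({i, j} : Set (Fin k)) then ω else ω * ω) • b.coord l := b.ext fun m => by
      show b.repr ((g i j h).1.1 (b m)) l = _
      rw [hg, map_smul, LinearMap.smul_apply, Module.Basis.coord_apply, Finsupp.smul_apply, b.repr_self,
        Finsupp.single_apply]
      rcases eq_or_ne m l with rfl | hml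
      · rfl
      · simp [hml]
    have he := LinearMap.congr_fun hc x
    rw [LinearMap.smul_apply] at he
    change b.repr ((g i j h).1.1 x) l = _ * b.repr x l at he
    rw [hx] at he
    rw [map_zero, Finsupp.zero_apply]
    refine ((mul_eq_zero).mp (show ((if l ∈ ({i, j} : Set (Fin k)) then ω else ω * ω) - 1) * b.repr x l = 0 by
      linear_combination -he)).resolve_left (sub_ne_zero.mpr ?_)
    split_ifs
    · exact hω1
    · intro e
      exact hω1 (by linear_combination (-ω) * e + hω3)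
  have hcomm : ∀ i j h i' j' h', t i j h * t i' j' h' = t i' j' h' * t i j h := by
    intro i j h i' j' h'
    show extSIsom H P.nondegU (g i j h) * extSIsom H P.nondegU (g i' j' h') = _
    rw [← map_mul, ← map_mul]
    refine congrArg _ (Subtype.ext (K.isom_ext fun x => LinearMap.congr_fun
      (b.ext (f₁ := ((g i j h) * (g i' j' h')).1.1.toLinearMap) (f₂ := ((g i' j' h') * (g i j h)).1.1.toLinearMap)
        fun l => ?_) x))
    show (g i j h).1.1 ((g i' j' h').1.1 (b l)) = (g i' j' h').1.1 ((g i j h).1.1 (b l))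
    rw [hg, hg, map_smul, map_smul, hg, hg, smul_smul, smul_smul, mul_comm]
  let i0 : Fin k := ⟨0, by omega⟩
  let i1 : Fin k := ⟨1, by omega⟩
  have h01 : i0 ≠ i1 := by simp [i0, i1]
  obtain ⟨T, hT⟩ := hσ.surj (t i0 i1 h01)
  have hfp0 : Fpf P.Q (σ T) := by rw [hT]; exact hfp i0 i1 h01
  set D := radComp σ P.Q T hfp0.norm with hD
  have hall' : ∀ i j h r, r ∈ P.L → r * t i j h = t i j h * r → r ∈ (Subgroup.normalizer (D : Set Γ)).map σ := by
    intro i j h r hr hrt
    obtain ⟨S, hS⟩ := hσ.surj (t i j h)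
    have hfpS : Fpf P.Q (σ S) := by rw [hS]; exact hfp i j h
    have hDS : D = radComp σ P.Q S hfpS.norm :=
      radComp_eq hfp0.norm hσ hfpS.norm hfp0 hfpS (by rw [hS, hT]; exact hcomm _ _ _ _ _ _)
    obtain ⟨R, rfl⟩ := hσ.surj r
    have hR : ∀ x ∈ P.Q, σ R * x * (σ R)⁻¹ ∈ P.Q := P.L_normalises _ hr
    have hR' : ∀ x ∈ P.Q, σ R⁻¹ * x * (σ R⁻¹)⁻¹ ∈ P.Q := P.L_normalises _ (by rw [map_inv]; exact inv_mem hr)
    refine ⟨R, ?_, rfl⟩
    rw [hDS]
    refine Subgroup.mem_normalizer_iff.mpr fun z => ⟨radComp_conj hfpS.norm hσ hR (by rw [hS]; exact hrt) z, fun hz => ?_⟩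
    have := radComp_conj hfpS.norm hσ hR' (by
      rw [map_inv, hS]; exact ((show Commute (σ R) (t i j h) from hrt).inv_left).eq) _ hz
    simpa [mul_assoc] using this
  have htop : ((Subgroup.normalizer (D : Set Γ)).map σ).comap (extSIsom H P.nondegU) = ⊤ := by
    refine eq_top_of_pairs K b hb hk h2 (fun c hc => ?_) fun i j hij r hr => ?_
    · change H.σ c = c at hc
      rcases hall c with rfl | h | h | h
      · exact Or.inl rfl
      · exact Or.inr h
      · rw [h, hσω] at hc; exact absurd (by linear_combination hc : (1 : F) = 0) one_ne_zero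
      · rw [h, map_add, map_one, hσω] at hc; exact absurd (by linear_combination hc : (1 : F) = 0) one_ne_zero
    · refine hall' i j hij _ (by show _ ∈ SI H P.U; rw [← range_extSIsom H P.nondegU]; exact ⟨r, rfl⟩) ?_
      show extSIsom H P.nondegU r * extSIsom H P.nondegU (g i j hij) = _
      rw [← map_mul, ← map_mul]
      refine congrArg _ (Subtype.ext (K.eq_of_fix_orth (nondegOn_cspan K b hb ({i, j} : Set (Fin k))ᶜ)
        (fun x hx => ?_) fun x hx => ?_))
      · show r.1.1 ((g i j hij).1.1 x) = (g i j hij).1.1 (r.1.1 x)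
        have hsc : ∀ y ∈ cspan b ({i, j} : Set (Fin k))ᶜ, (g i j hij).1.1 y = (ω * ω) • y := fun y hy =>
          eqOn_cspan b (f := (g i j hij).1.1.toLinearMap) (g := (ω * ω) • LinearMap.id) (fun l hl => by
            show (g i j hij).1.1 (b l) = (ω * ω) • b l
            rw [hg, if_neg hl]) hy
        rw [hsc x hx, hsc _ (SI_maps K hr hx), map_smul]
      · show r.1.1 ((g i j hij).1.1 x) = (g i j hij).1.1 (r.1.1 x)
        rw [hr x hx]
        refine hr _ ?_
        have hx' := hx
        rw [orth_cspan K b hb, compl_compl] at hx' ⊢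
        have hsc : (g i j hij).1.1 x = ω • x :=
          eqOn_cspan b (f := (g i j hij).1.1.toLinearMap) (g := ω • LinearMap.id) (fun l hl => by
            show (g i j hij).1.1 (b l) = ω • b l
            rw [hg, if_pos hl]) hx'
        rw [hsc]
        exact Submodule.smul_mem _ _ hx'
  refine good_semidirect hσ P.Q_disjoint_L hL (radComp_le hfp0.norm) (radComp_surj hfp0.norm hσ hfp0)
    (radComp_disjoint hfp0.norm hσ hQ hfp0) fun r hr x hx => ?_
  rw [HPair.L, ← range_extSIsom H P.nondegU] at hr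
  obtain ⟨r', hr'⟩ := hr
  have hmem : r' ∈ ((Subgroup.normalizer (D : Set Γ)).map σ).comap (extSIsom H P.nondegU) := by
    rw [htop]; trivial
  obtain ⟨R, hR, hRe⟩ := hmem
  have hz : σ (R⁻¹ * r) = 1 := by rw [map_mul, map_inv, hRe, hr', inv_mul_cancel]
  have he : r * x * r⁻¹ = R * x * R⁻¹ := by
    rw [show r = R * (R⁻¹ * r) by group, mul_assoc R, ← hσ.comm_mul hz x]
    group
  rw [he]
  exact (Subgroup.mem_normalizer_iff.mp hR x).mp hx

end HPair

end Cfsg.Lib.UnitMult
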