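import Cfsg.Agent.UnitMult.Siegel

/-!
The extension over the radical: the commutator pairing on `U`.
-/

set_option autoImplicit false
set_option linter.unusedSectionVars false

namespace Cfsg.Lib.UnitMult

open Cfsg.Lib.Classical
open scoped commutatorElement

universe u v w

section Abstract

variable {Γ : Type u} {G : Type v} [Group Γ] [Group G] {σ : Γ →* G} {ℓ : ℕ}

/-- The commutator subgroup of `Q` lifts centrally once `Q` is generated by it and commutators with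
elements centralising it. -/
theorem central_lift (hσ : Cen ℓ σ) {Q : Subgroup G} {R : Set G}
    (hcl : ∀ x ∈ Q, ∀ z ∈ ⁅Q, Q⁆, x * z = z * x) (hRQ : ∀ r ∈ R, ∀ x ∈ Q, r * x * r⁻¹ ∈ Q)
    (hRZ : ∀ r ∈ R, ∀ z ∈ ⁅Q, Q⁆, r * z = z * r)
    (hgen : Q ≤ Subgroup.closure (((⁅Q, Q⁆ : Subgroup G) : Set G) ∪ {g | ∃ r ∈ R, ∃ y ∈ Q, g = ⁅r, y⁆})) :
    ∀ x ∈ Q.comap σ, ∀ z ∈ (⁅Q, Q⁆).comap σ, ⁅x, z⁆ = 1 := by
  intro x hx z hz
  set Qc := Q.comap σ with hQc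
  have hval : ∀ y ∈ Qc, σ ⁅y, z⁆ = 1 := fun y hy => by
    rw [map_commutatorElement, commutatorElement_eq_one_iff_mul_comm]
    exact hcl _ hy _ hz
  have hmul : ∀ a ∈ Qc, ∀ b ∈ Qc, ⁅a * b, z⁆ = ⁅a, z⁆ * ⁅b, z⁆ := fun a ha b hb => by
    rw [show ⁅a * b, z⁆ = a * ⁅b, z⁆ * a⁻¹ * ⁅a, z⁆ by simp only [commutatorElement_def]; group,
      hσ.comm_mul (hval b hb) a, mul_inv_cancel_right, hσ.comm_mul (hval a ha)]
  let φ : Qc →* σ.ker := MonoidHom.mk' (fun y => ⟨⁅(y : Γ), z⁆, hval _ y.2⟩) fun a b =>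
    Subtype.ext (hmul _ a.2 _ b.2)
  have hab : ∀ s t : σ.ker, Commute s t := fun s t => Subtype.ext (hσ.comm_mul t.2 s)
  let M : Subgroup G := (φ.ker.map Qc.subtype).map σ
  have hQM : Q ≤ M := by
    refine hgen.trans ((Subgroup.closure_le _).mpr ?_)
    rintro g (hg | ⟨r, hr, y, hy, rfl⟩)
    · have hle : ⁅Qc, Qc⁆ ≤ φ.ker.map Qc.subtype := by
        rw [Subgroup.commutator_le]
        intro a ha b hb
        refine ⟨⁅(⟨a, ha⟩ : Qc), ⟨b, hb⟩⁆, ?_, rfl⟩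
        rw [SetLike.mem_coe, MonoidHom.mem_ker, map_commutatorElement, commutatorElement_eq_one_iff_mul_comm]
        exact hab _ _
      rw [← map_comap_commutator (Q := Q) hσ] at hg
      exact Subgroup.map_mono hle hg
    · obtain ⟨R', rfl⟩ := hσ.surj r
      obtain ⟨Y, rfl⟩ := hσ.surj y
      have hRY : R' * Y * R'⁻¹ ∈ Qc := comap_conj (hRQ _ hr) Y hy
      refine ⟨⁅R', Y⁆, ⟨⟨⁅R', Y⁆, by rw [commutatorElement_def]; exact mul_mem hRY (inv_mem hy)⟩, ?_, rfl⟩,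
        map_commutatorElement σ R' Y⟩
      refine Subtype.ext ?_
      show ⁅⁅R', Y⁆, z⁆ = 1
      have h1 : ⁅R' * Y * R'⁻¹, z⁆ = ⁅Y, z⁆ := by
        rw [Cfsg.Lib.Schur.comm_congr σ hσ.central (g := R' * Y * R'⁻¹) (g' := R' * Y * R'⁻¹) (h := z)
          (h' := R' * z * R'⁻¹) rfl (by rw [map_mul, map_mul, map_inv, hRZ _ hr _ hz, mul_inv_cancel_right]),
          ← conjugate_commutatorElement, hσ.comm_mul (hval Y hy) R', mul_inv_cancel_right]
      rw [show ⁅R', Y⁆ = R' * Y * R'⁻¹ * Y⁻¹ from commutatorElement_def R' Y, hmul _ hRY _ (inv_mem hy), h1,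
        ← hmul _ hy _ (inv_mem hy), mul_inv_cancel, commutatorElement_one_left]
  obtain ⟨_, ⟨⟨y, hy⟩, hyker, rfl⟩, he⟩ := hQM hx
  have hker : ⁅y, z⁆ = 1 := congrArg Subtype.val hyker
  exact (Cfsg.Lib.Schur.comm_congr σ hσ.central he.symm rfl).trans hker

/-- A perfect subgroup centralising `S` lifts to elements centralising the preimage. -/
theorem perfect_lift (hσ : Cen ℓ σ) {L : Subgroup G} (hperf : L ≤ ⁅L, L⁆) {z : Γ}
    (hz : ∀ r ∈ L, r * σ z = σ z * r) : ∀ r ∈ L.comap σ, r * z = z * r := by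
  intro r hr
  set Lc := L.comap σ with hLc
  have hval : ∀ y ∈ Lc, σ ⁅y, z⁆ = 1 := fun y hy => by
    rw [map_commutatorElement, commutatorElement_eq_one_iff_mul_comm]
    exact hz _ hy
  let φ : Lc →* σ.ker := MonoidHom.mk' (fun y => ⟨⁅(y : Γ), z⁆, hval _ y.2⟩) fun a b => Subtype.ext (by
    show ⁅(a : Γ) * b, z⁆ = ⁅(a : Γ), z⁆ * ⁅(b : Γ), z⁆
    rw [show ⁅(a : Γ) * b, z⁆ = a * ⁅(b : Γ), z⁆ * (a : Γ)⁻¹ * ⁅(a : Γ), z⁆ by
      simp only [commutatorElement_def]; group,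
      hσ.comm_mul (hval _ b.2) (a : Γ), mul_inv_cancel_right, hσ.comm_mul (hval _ a.2)])
  have hker : ⁅Lc, Lc⁆ ≤ φ.ker.map Lc.subtype := by
    rw [Subgroup.commutator_le]
    intro a ha b hb
    refine ⟨⁅(⟨a, ha⟩ : Lc), ⟨b, hb⟩⁆, ?_, rfl⟩
    rw [SetLike.mem_coe, MonoidHom.mem_ker, map_commutatorElement, commutatorElement_eq_one_iff_mul_comm]
    exact Subtype.ext (hσ.comm_mul (φ ⟨b, hb⟩).2 _)
  obtain ⟨c, hc, hce⟩ := (show σ r ∈ (⁅Lc, Lc⁆).map σ by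
    rw [hLc, map_comap_commutator (Q := L) hσ]; exact hperf hr)
  obtain ⟨⟨c', hc'⟩, hcker, rfl⟩ := hker hc
  have h1 : ⁅c', z⁆ = 1 := congrArg Subtype.val hcker
  exact commutatorElement_eq_one_iff_mul_comm.mp
    ((Cfsg.Lib.Schur.comm_congr σ hσ.central hce.symm rfl).trans h1)

end Abstract

variable {F : Type v} [Field F] [Finite F] {V : Type w} [AddCommGroup V] [Module F V] [FiniteDimensional F V]
  {H : HermSpace F V} (P : HPair H) {Γ : Type u} [Group Γ] {ℓ : ℕ} {σ : Γ →* H.SIsom}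

namespace HPair

theorem zpar_comm (hU : 0 < Module.finrank F P.U) :
    ∀ x ∈ P.Q, ∀ z ∈ ⁅P.Q, P.Q⁆, x * z = z * x := by
  rintro _ ⟨p, rfl⟩ z hz
  obtain ⟨c, hc, rfl⟩ := (P.commutator_Q hU).mp hz
  rw [sg_mul, sg_mul]
  exact congrArg P.sg (Par.ext' P (by simp [pmul, zpar]) (by simp [pmul, zpar, H.zero_left, H.zero_right]; ring))

/-- The commutator pairing. -/
noncomputable def bet (hσ : Cen ℓ σ) (u w : P.U) : Γ :=
  ⁅(hσ.surj (P.sg (P.wpar u))).choose, (hσ.surj (P.sg (P.wpar w))).choose⁆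

variable (hσ : Cen ℓ σ) (hU : 0 < Module.finrank F P.U)
  (hcen : ∀ x ∈ P.Q.comap σ, ∀ z ∈ (⁅P.Q, P.Q⁆).comap σ, ⁅x, z⁆ = 1)

include hU hcen in
theorem bet_eq {X Y : Γ} {p p' : P.Par} (hX : σ X = P.sg p) (hY : σ Y = P.sg p') :
    ⁅X, Y⁆ = P.bet hσ p.w p'.w := by
  have key : ∀ (X L Y : Γ) (p : P.Par), σ X = P.sg p → σ L = P.sg (P.wpar p.w) → σ Y ∈ P.Q →
      ⁅X, Y⁆ = ⁅L, Y⁆ := by
    intro X L Y p hX hL hY
    have hz : L⁻¹ * X ∈ (⁅P.Q, P.Q⁆).comap σ := by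
      show σ (L⁻¹ * X) ∈ ⁅P.Q, P.Q⁆
      rw [map_mul, map_inv, hX, hL, sg_inv, sg_mul, P.sg_mem_commutator_iff hU]
      refine Subtype.ext ?_
      simp [pmul, pinv, wpar]
    have h1 : ⁅L⁻¹ * X, Y⁆ = 1 := by
      rw [← commutatorElement_inv, hcen Y hY _ hz, inv_one]
    calc ⁅X, Y⁆ = ⁅L * (L⁻¹ * X), Y⁆ := by rw [mul_inv_cancel_left]
      _ = L * ⁅L⁻¹ * X, Y⁆ * L⁻¹ * ⁅L, Y⁆ := by simp only [commutatorElement_def]; group
      _ = ⁅L, Y⁆ := by rw [h1]; group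
  unfold bet
  rw [key X _ Y p hX (hσ.surj (P.sg (P.wpar p.w))).choose_spec ⟨p', hY.symm⟩, ← commutatorElement_inv,
    key Y _ _ p' hY (hσ.surj (P.sg (P.wpar p'.w))).choose_spec
      ⟨_, (hσ.surj (P.sg (P.wpar p.w))).choose_spec.symm⟩, commutatorElement_inv]

include hU hcen in
theorem bet_eq_of {X Y : Γ} {p p' : P.Par} (hX : σ X = P.sg p) (hY : σ Y = P.sg p') {u w : P.U}
    (hu : (p.w : V) = u) (hw : (p'.w : V) = w) : ⁅X, Y⁆ = P.bet hσ u w := by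
  rw [P.bet_eq hσ hU hcen hX hY, Subtype.ext hu, Subtype.ext hw]

include hU hcen in
theorem map_bet (u w : P.U) : σ (P.bet hσ u w) = P.sg (P.zpar (H.h (u : V) w - H.h (w : V) u) (by
    simp only [map_sub, ← H.symm]; ring)) := by
  rw [bet, map_commutatorElement, (hσ.surj (P.sg (P.wpar u))).choose_spec,
    (hσ.surj (P.sg (P.wpar w))).choose_spec, comm_sg]
  rfl

include hU hcen in
theorem bet_mem (u w : P.U) : P.bet hσ u w ∈ (⁅P.Q, P.Q⁆).comap σ := by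
  show σ (P.bet hσ u w) ∈ ⁅P.Q, P.Q⁆
  rw [P.map_bet hσ hU hcen]
  exact P.zpar_mem_commutator hU _ _

include hU hcen in
theorem bet_comm (u w : P.U) {x : Γ} (hx : x ∈ P.Q.comap σ) : x * P.bet hσ u w = P.bet hσ u w * x :=
  commutatorElement_eq_one_iff_mul_comm.mp (hcen x hx _ (P.bet_mem hσ hU hcen u w))

include hU hcen in
theorem bet_add_left (u u' w : P.U) : P.bet hσ (u + u') w = P.bet hσ u w * P.bet hσ u' w := by
  obtain ⟨X, hX⟩ := hσ.surj (P.sg (P.wpar u))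
  obtain ⟨X', hX'⟩ := hσ.surj (P.sg (P.wpar u'))
  obtain ⟨Y, hY⟩ := hσ.surj (P.sg (P.wpar w))
  have h := P.bet_eq hσ hU hcen (X := X * X') (Y := Y) (p := P.pmul (P.wpar u) (P.wpar u')) (p' := P.wpar w)
    (by rw [map_mul, hX, hX', sg_mul]) hY
  change _ = P.bet hσ (u + u') w at h
  rw [← h, show ⁅X * X', Y⁆ = X * ⁅X', Y⁆ * X⁻¹ * ⁅X, Y⁆ by simp only [commutatorElement_def]; group,
    P.bet_eq hσ hU hcen hX' hY, P.bet_eq hσ hU hcen hX hY]
  show X * P.bet hσ u' w * X⁻¹ * P.bet hσ u w = _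
  rw [P.bet_comm hσ hU hcen u' w (show σ X ∈ P.Q from ⟨_, hX.symm⟩), mul_inv_cancel_right,
    ← P.bet_comm hσ hU hcen u' w (x := P.bet hσ u w)]
  exact show σ (P.bet hσ u w) ∈ P.Q from Subgroup.commutator_le_self _ (P.bet_mem hσ hU hcen u w)

theorem bet_swap (u w : P.U) : P.bet hσ w u = (P.bet hσ u w)⁻¹ := by
  rw [bet, bet, commutatorElement_inv]

include hU hcen in
theorem bet_add_right (u w w' : P.U) : P.bet hσ u (w + w') = P.bet hσ u w * P.bet hσ u w' := by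
  rw [P.bet_swap hσ (w + w') u, P.bet_add_left hσ hU hcen, mul_inv_rev, ← P.bet_swap hσ w u, ← P.bet_swap hσ w' u]
  exact P.bet_comm hσ hU hcen u w (show σ (P.bet hσ u w') ∈ P.Q from Subgroup.commutator_le_self _ (P.bet_mem hσ hU hcen u w'))

include hU hcen in
theorem bet_zero_left (w : P.U) : P.bet hσ 0 w = 1 := by
  have h := P.bet_add_left hσ hU hcen 0 0 w
  rw [add_zero] at h
  exact left_eq_mul.mp h

include hU hcen in
theorem bet_zero_right (u : P.U) : P.bet hσ u 0 = 1 := by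
  rw [P.bet_swap hσ 0 u, P.bet_zero_left hσ hU hcen, inv_one]

include hU hcen in
theorem bet_neg_right (u w : P.U) : P.bet hσ u (-w) = (P.bet hσ u w)⁻¹ := by
  refine eq_inv_of_mul_eq_one_right ?_
  rw [← P.bet_add_right hσ hU hcen, add_neg_cancel, P.bet_zero_right hσ hU hcen]

include hU hcen in
/-- A subgroup containing all values of the pairing and meeting the kernel trivially. -/
theorem good_Q_of_values {D : Subgroup Γ} (hD : ∀ x ∈ D, σ x = 1 → x = 1) (hv : ∀ u w, P.bet hσ u w ∈ D) :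
    Good σ P.Q := by
  refine good_of_forall fun z hz h1 => hD z ?_ h1
  refine (Subgroup.commutator_le.mpr ?_ : ⁅P.Q.comap σ, P.Q.comap σ⁆ ≤ D) hz
  intro x ⟨p, hp⟩ y ⟨p', hp'⟩
  rw [P.bet_eq hσ hU hcen hp.symm hp'.symm]
  exact hv _ _

include hU hcen in
/-- Conjugation of the pairing. -/
theorem bet_conj {R : Γ} {d : F} (hge : (σ R).1.1 P.e = d • P.e) (hgU : ∀ x ∈ P.U, (σ R).1.1 x ∈ P.U)
    (u w : P.U) : R * P.bet hσ u w * R⁻¹ =
      P.bet hσ ⟨H.σ d • (σ R).1.1 u, P.U.smul_mem _ (hgU _ u.2)⟩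
        ⟨H.σ d • (σ R).1.1 w, P.U.smul_mem _ (hgU _ w.2)⟩ := by
  obtain ⟨X, hX⟩ := hσ.surj (P.sg (P.wpar u))
  obtain ⟨Y, hY⟩ := hσ.surj (P.sg (P.wpar w))
  have hXY : P.bet hσ u w = ⁅X, Y⁆ := (P.bet_eq hσ hU hcen hX hY).symm
  rw [hXY, show R * ⁅X, Y⁆ * R⁻¹ = ⁅R * X * R⁻¹, R * Y * R⁻¹⁆ by simp only [commutatorElement_def]; group]
  have hX' := (show σ (R * X * R⁻¹) = σ R * P.sg (P.wpar u) * (σ R)⁻¹ by
    rw [map_mul, map_mul, map_inv, hX]).trans (P.conj_sg (σ R) hge (P.wpar u) (P.U.smul_mem _ (hgU _ u.2)))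
  have hY' := (show σ (R * Y * R⁻¹) = σ R * P.sg (P.wpar w) * (σ R)⁻¹ by
    rw [map_mul, map_mul, map_inv, hY]).trans (P.conj_sg (σ R) hge (P.wpar w) (P.U.smul_mem _ (hgU _ w.2)))
  exact P.bet_eq_of hσ hU hcen hX' hY' rfl rfl

include hU hcen in
/-- Invariance under elements of `L` centralising the lifted centre. -/
theorem bet_inv {g : H.SIsom} (hg : g ∈ P.L)
    (hfix : ∀ z ∈ (⁅P.Q, P.Q⁆).comap σ, ∀ R, σ R = g → R * z = z * R) (u w : P.U) :
    P.bet hσ ⟨g.1.1 u, P.L_U hg u.2⟩ ⟨g.1.1 w, P.L_U hg w.2⟩ = P.bet hσ u w := by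
  obtain ⟨R, rfl⟩ := hσ.surj g
  have h := P.bet_conj hσ hU hcen (R := R) (d := 1) (by rw [one_smul]; exact P.L_e hg) (fun x hx => P.L_U hg hx) u w
  rw [hfix _ (P.bet_mem hσ hU hcen u w) R rfl, mul_inv_cancel_right] at h
  rw [h]
  congr 1 <;> exact Subtype.ext (by simp)

theorem L_fix_commutator (hU : 0 < Module.finrank F P.U) : ∀ r ∈ P.L, ∀ z ∈ ⁅P.Q, P.Q⁆, r * z = z * r := by
  intro r hr z hz
  obtain ⟨c, hc, rfl⟩ := (P.commutator_Q hU).mp hz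
  rw [← mul_inv_eq_iff_eq_mul, P.L_conj_sg hr]
  exact congrArg P.sg (Par.ext' P (by simp [actL, zpar]) rfl)

/-- The transvection along an isotropic vector of `U`. -/
theorem uT_mem_L {u : P.U} (hu : H.h (u : V) u = 0) {c : F} (hc : c + H.σ c = 0) :
    (⟨H.uT hu hc, H.uT_mem_SIsom hu hc⟩ : H.SIsom) ∈ P.L := fun x hx => by
  rw [P.orth_U] at hx
  show (H.uT hu hc).1 x = x
  rw [H.uT_apply, H.eq_zero_symm (show H.h (u : V) x = 0 from u.2 x hx)]
  simp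

/-- An additive subset containing every isotropic vector is everything. -/
theorem all_of_isotropic (h2 : 2 ≤ Module.finrank F P.U) (S : P.U → Prop) (h0 : S 0)
    (hadd : ∀ a b, S a → S b → S (a + b)) (hiso : ∀ u : P.U, H.h (u : V) u = 0 → S u) : ∀ u, S u := by
  intro u
  have h : u ∈ Submodule.span F {x : P.U | (H.restrict P.U P.nondegU).h x x = 0} := by
    rw [(H.restrict P.U P.nondegU).span_isotropic h2]; trivial
  suffices key : ∀ c : F, S (c • u) by simpa using key 1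
  induction h using Submodule.span_induction with
  | mem x hx =>
    intro c
    refine hiso _ ?_
    rw [Submodule.coe_smul, H.smul_left, H.smul_right, show H.h (x : V) x = 0 from hx, mul_zero, mul_zero]
  | zero => intro c; rwa [smul_zero]
  | add a b _ _ ha hb => intro c; rw [smul_add]; exact hadd _ _ (ha c) (hb c)
  | smul r a _ ha => intro c; rw [smul_smul]; exact ha _

theorem L_gen (h2 : 2 ≤ Module.finrank F P.U) : P.Q ≤ Subgroup.closure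
    (((⁅P.Q, P.Q⁆ : Subgroup H.SIsom) : Set H.SIsom) ∪ {g | ∃ r ∈ (P.L : Set H.SIsom), ∃ y ∈ P.Q, g = ⁅r, y⁆}) := by
  set S := Subgroup.closure
    (((⁅P.Q, P.Q⁆ : Subgroup H.SIsom) : Set H.SIsom) ∪ {g | ∃ r ∈ (P.L : Set H.SIsom), ∃ y ∈ P.Q, g = ⁅r, y⁆}) with hS
  have hU : 0 < Module.finrank F P.U := by omega
  have hmod : ∀ (p p' : P.Par), p.w = p'.w → P.sg p ∈ S → P.sg p' ∈ S := by
    intro p p' h hp
    have hz : (P.sg p)⁻¹ * P.sg p' ∈ ⁅P.Q, P.Q⁆ := by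
      rw [sg_inv, sg_mul, P.sg_mem_commutator_iff hU]
      exact Subtype.ext (by simp [pmul, pinv, h])
    rw [← mul_inv_cancel_left (P.sg p) (P.sg p')]
    exact mul_mem hp (Subgroup.subset_closure (Or.inl hz))
  have key : ∀ u : P.U, P.sg (P.wpar u) ∈ S := by
    refine P.all_of_isotropic h2 _ ?_ (fun a b ha hb => ?_) fun u hu => ?_
    · refine hmod (P.zpar 0 (by simp)) _ rfl ?_
      rw [sg_zero]; exact one_mem S
    · refine hmod (P.pmul (P.wpar a) (P.wpar b)) _ rfl ?_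
      rw [← sg_mul]; exact mul_mem ha hb
    rcases eq_or_ne u 0 with rfl | hu0
    · refine hmod (P.zpar 0 (by simp)) _ rfl ?_
      rw [sg_zero]; exact one_mem S
    obtain ⟨v, huv, -⟩ := (H.restrict P.U P.nondegU).exists_hyperbolic hu0 hu
    have hvu : H.h (v : V) u = 1 := by rw [H.symm, show H.h (u : V) v = 1 from huv, map_one]
    obtain ⟨c, hc0, hc⟩ := H.conj.exists_skew
    set g : H.SIsom := ⟨H.uT hu hc, H.uT_mem_SIsom hu hc⟩ with hg
    have hgL : g ∈ P.L := P.uT_mem_L hu hc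
    refine hmod (P.pmul (P.actL g hgL (P.wpar (c⁻¹ • v))) (P.pinv (P.wpar (c⁻¹ • v)))) _ (Subtype.ext ?_) ?_
    · show g.1.1 ((c⁻¹ • v : P.U) : V) + ((-(c⁻¹ • v) : P.U) : V) = (u : V)
      rw [show g.1.1 ((c⁻¹ • v : P.U) : V) = _ from H.uT_apply hu hc _, Submodule.coe_neg, Submodule.coe_smul,
        H.smul_left, hvu, mul_one, mul_inv_cancel₀ hc0]
      module
    · rw [← sg_mul, ← P.L_conj_sg hgL, ← sg_inv, ← commutatorElement_def]
      exact Subgroup.subset_closure (Or.inr ⟨g, hgL, _, P.sg_mem _, rfl⟩)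
  rintro _ ⟨p, rfl⟩
  exact hmod (P.wpar p.w) p rfl (key p.w)

theorem central_of_two_le (hσ : Cen ℓ σ) (h2 : 2 ≤ Module.finrank F P.U) :
    ∀ x ∈ P.Q.comap σ, ∀ z ∈ (⁅P.Q, P.Q⁆).comap σ, ⁅x, z⁆ = 1 :=
  central_lift hσ (R := (P.L : Set H.SIsom)) (P.zpar_comm (by omega)) P.L_normalises
    (P.L_fix_commutator (by omega)) (P.L_gen h2)

end HPair

end Cfsg.Lib.UnitMult
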