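import Cfsg.Agent.UnitMult.RadComm

/-!
The extension splits over the radical.
-/

set_option autoImplicit false
set_option linter.unusedSectionVars false

namespace Cfsg.Lib.UnitMult

open Cfsg.Lib.Classical
open scoped commutatorElement

universe u v w

variable {F : Type v} [Field F] [Finite F] {V : Type w} [AddCommGroup V] [Module F V] [FiniteDimensional F V]
  {H : HermSpace F V} (P : HPair H) {Γ : Type u} [Group Γ] [Finite Γ] {ℓ : ℕ} {σ : Γ →* H.SIsom}

namespace HPair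

variable (hσ : Cen ℓ σ)
  (hfix : ∀ g ∈ P.L, ∀ z ∈ (⁅P.Q, P.Q⁆).comap σ, ∀ R, σ R = g → R * z = z * R)

include hσ hfix in
theorem bet_move (h2 : 2 ≤ Module.finrank F P.U) {g : H.SIsom} (hg : g ∈ P.L) {u : P.U} (hu : g.1.1 (u : V) = u)
    {x d : P.U} (hd : g.1.1 (x : V) = x + d) : P.bet hσ u d = 1 := by
  have hU : 0 < Module.finrank F P.U := by omega
  have hcen := P.central_of_two_le hσ h2
  have h := P.bet_inv hσ hU hcen hg (hfix g hg) u x
  rw [show (⟨g.1.1 (u : V), P.L_U hg u.2⟩ : P.U) = u from Subtype.ext hu,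
    show (⟨g.1.1 (x : V), P.L_U hg x.2⟩ : P.U) = x + d from Subtype.ext hd, P.bet_add_right hσ hU hcen] at h
  exact mul_eq_left.mp h

include hσ hfix in
/-- Isotropic vectors pair trivially with their orthogonal. -/
theorem bet_perp (h2 : 2 ≤ Module.finrank F P.U) {u : P.U} (hu : H.h (u : V) u = 0) (hu0 : u ≠ 0) {y : P.U}
    (hy : H.h (u : V) y = 0) : P.bet hσ u y = 1 := by
  have hU : 0 < Module.finrank F P.U := by omega
  have hcen := P.central_of_two_le hσ h2
  obtain ⟨v, huv, -⟩ := (H.restrict P.U P.nondegU).exists_hyperbolic hu0 hu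
  have hvu : H.h (v : V) u = 1 := by rw [H.symm, show H.h (u : V) v = 1 from huv, map_one]
  obtain ⟨c, hc0, hc⟩ := H.conj.exists_skew
  have hline : ∀ r : F, P.bet hσ u (r • u) = 1 := fun r => by
    refine P.bet_move hσ hfix h2 (P.uT_mem_L hu hc) (x := (r * c⁻¹) • v) ?_ ?_
    · show (H.uT hu hc).1 (u : V) = u
      rw [H.uT_apply, hu, mul_zero, zero_smul, add_zero]
    · show (H.uT hu hc).1 _ = _
      rw [H.uT_apply, Submodule.coe_smul, Submodule.coe_smul, H.smul_left, hvu, mul_one,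
        show c * (r * c⁻¹) = r by field_simp]
  have hyu : H.h (y : V) u = 0 := H.eq_zero_symm hy
  set a := -(theta (H := H) * H.h (y : V) y) with ha'
  have ha : a + H.σ a = -H.h (y : V) y := (P.wpar y).cond
  set g : H.SIsom := ⟨H.siegel hu hyu ha, H.siegel_mem_SIsom hu hyu ha⟩ with hg
  have hgL : g ∈ P.L := fun x hx => by
    rw [P.orth_U] at hx
    show (H.siegel hu hyu ha).1 x = x
    rw [H.siegel_apply, H.eq_zero_symm (u.2 x hx), H.eq_zero_symm (y.2 x hx)]
    simp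
  have h1 := P.bet_move hσ hfix h2 hgL (u := u) (x := v) (d := y + (a - H.h (v : V) y) • u) (by
      show (H.siegel hu hyu ha).1 (u : V) = u
      rw [H.siegel_apply, hu, hy]; simp)
    (by
      show (H.siegel hu hyu ha).1 (v : V) = _
      rw [H.siegel_apply, hvu, Submodule.coe_add, Submodule.coe_smul]
      module)
  rwa [P.bet_add_right hσ hU hcen, hline, mul_one] at h1

include hσ hfix in
theorem bet_partner (h2 : 2 ≤ Module.finrank F P.U) {u v : P.U} (hu : H.h (u : V) u = 0)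
    (huv : H.h (u : V) v = 1) (w : P.U) : P.bet hσ u w = P.bet hσ u (H.σ (H.h (u : V) w) • v) := by
  have hU : 0 < Module.finrank F P.U := by omega
  have hcen := P.central_of_two_le hσ h2
  have hu0 : u ≠ 0 := fun e => by rw [e, Submodule.coe_zero, H.zero_left] at huv; exact zero_ne_one huv
  have h := P.bet_perp hσ hfix h2 hu hu0 (y := w - H.σ (H.h (u : V) w) • v) (by
    rw [Submodule.coe_sub, H.sub_right, Submodule.coe_smul, H.smul_right, huv, mul_one, H.conj.invol, sub_self])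
  conv_lhs => rw [← sub_add_cancel w (H.σ (H.h (u : V) w) • v)]
  rw [P.bet_add_right hσ hU hcen, h, one_mul]

/-- Transitivity of `L` on isotropic vectors. -/
theorem L_transitive (h3 : 3 ≤ Module.finrank F P.U) {u u' : P.U} (hu : H.h (u : V) u = 0) (hu0 : u ≠ 0)
    (hu' : H.h (u' : V) u' = 0) (hu0' : u' ≠ 0) : ∃ g ∈ P.L, g.1.1 (u : V) = u' := by
  set K := H.restrict P.U P.nondegU
  obtain ⟨g, hg⟩ := K.transitive_isotropic hu0 hu0' hu hu'
  obtain ⟨v, huv, hvv⟩ := K.exists_hyperbolic hu0' hu'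
  obtain ⟨x, hx, hxu, -⟩ := K.exists_norm_one_orth_pair h3 hu' huv
  set z : (normUnits K.σ).ker := ⟨(K.detHom g)⁻¹, inv_mem (K.det_mem_norm_ker g)⟩ with hz
  set k : K.SIsom := ⟨K.qrefl hx z * g, by
    show _ ∈ K.detHom.ker
    rw [MonoidHom.mem_ker, map_mul, K.det_qrefl]; exact inv_mul_cancel _⟩ with hk
  refine ⟨extSIsom H P.nondegU k, by
    show _ ∈ SI H P.U
    rw [← range_extSIsom H P.nondegU]; exact ⟨k, rfl⟩, ?_⟩
  refine (extIsom_apply H P.nondegU k.1 u).trans (congrArg Subtype.val ?_)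
  show (K.qrefl hx z * g).1 u = u'
  rw [K.mul_apply', hg]
  exact K.qrefl_orth hx z (K.eq_zero_symm hxu)

include hσ hfix in
/-- Splitting over the radical in dimension at least five. -/
theorem good_Q_large (h3 : 3 ≤ Module.finrank F P.U) : Good σ P.Q := by
  have h2 : 2 ≤ Module.finrank F P.U := by omega
  have hU : 0 < Module.finrank F P.U := by omega
  have hcen := P.central_of_two_le hσ h2
  obtain ⟨u₀, hu0, hu⟩ := (H.restrict P.U P.nondegU).exists_isotropic_of_two_le h2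
  obtain ⟨v₀, huv, -⟩ := (H.restrict P.U P.nondegU).exists_hyperbolic hu0 hu
  have hu' : H.h (u₀ : V) u₀ = 0 := hu
  have huv' : H.h (u₀ : V) v₀ = 1 := huv
  let Φ : F → Γ := fun x => P.bet hσ u₀ (H.σ x • v₀)
  have Φadd : ∀ x y, Φ (x + y) = Φ x * Φ y := fun x y => by
    simp only [Φ]; rw [map_add, add_smul, P.bet_add_right hσ hU hcen]
  have hiso : ∀ u : P.U, H.h (u : V) u = 0 → ∀ w, P.bet hσ u w = Φ (H.h (u : V) w) := by
    intro u hu w
    rcases eq_or_ne u 0 with rfl | hu1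
    · rw [P.bet_zero_left hσ hU hcen, Submodule.coe_zero, H.zero_left]
      simp only [Φ]
      rw [map_zero, zero_smul, P.bet_zero_right hσ hU hcen]
    obtain ⟨g, hg, hgu⟩ := P.L_transitive h3 hu' hu0 hu hu1
    have hginv : g⁻¹ ∈ P.L := inv_mem hg
    set w' : P.U := ⟨(g⁻¹).1.1 w, P.L_U hginv w.2⟩
    have h := P.bet_inv hσ hU hcen hg (hfix g hg) u₀ w'
    rw [show (⟨g.1.1 (u₀ : V), P.L_U hg u₀.2⟩ : P.U) = u from Subtype.ext hgu,
      show (⟨g.1.1 (w' : V), P.L_U hg w'.2⟩ : P.U) = w from Subtype.ext (H.apply_inv_self g.1 _),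
      P.bet_partner hσ hfix h2 hu' huv' w'] at h
    rw [h]
    show P.bet hσ u₀ _ = P.bet hσ u₀ _
    rw [show H.h (u₀ : V) w' = H.h (u : V) w by
      rw [← H.map_form g.1, hgu, show g.1.1 (w' : V) = w from H.apply_inv_self g.1 _]]
  have hall : ∀ u w, P.bet hσ u w = Φ (H.h (u : V) w) := by
    refine P.all_of_isotropic h2 (fun u => ∀ w, P.bet hσ u w = Φ (H.h (u : V) w)) (fun w => ?_)
      (fun a b ha hb w => ?_) hiso
    · exact hiso 0 (by simp [H.zero_left]) w
    · rw [P.bet_add_left hσ hU hcen, ha, hb, ← Φadd, Submodule.coe_add, H.add_left]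
  have Φanti : ∀ x, Φ (H.σ x) = (Φ x)⁻¹ := fun x => by
    have h1 := hall u₀ (H.σ x • v₀)
    have h2' := hall (H.σ x • v₀) u₀
    rw [P.bet_swap hσ u₀, h1] at h2'
    rw [Submodule.coe_smul, H.smul_right, huv', mul_one, H.conj.invol, H.smul_left, H.symm (v₀ : V) u₀, huv',
      map_one, mul_one] at h2'
    exact h2'.symm
  have Φzero : Φ 0 = 1 := by
    simp only [Φ]; rw [map_zero, zero_smul, P.bet_zero_right hσ hU hcen]
  have Φtheta : ∀ x, Φ x = Φ (theta (H := H) * (x - H.σ x)) := fun x => by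
    set a := x - theta (H := H) * (x - H.σ x) with ha
    have hfixed : H.σ a = a := by
      simp only [ha, map_sub, map_mul, H.conj.invol]
      linear_combination (x - H.σ x) * theta_spec (H := H)
    have h0 : Φ a = 1 := by
      have h := Φanti (theta (H := H) * a)
      rw [map_mul, hfixed, eq_inv_iff_mul_eq_one, ← Φadd, ← add_mul, add_comm (H.σ _), theta_spec, one_mul] at h
      exact h
    conv_lhs => rw [show x = a + theta (H := H) * (x - H.σ x) by simp [a]]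
    rw [Φadd, h0, one_mul]
  let D : Subgroup Γ :=
    { carrier := Set.range Φ
      mul_mem' := by rintro _ _ ⟨x, rfl⟩ ⟨y, rfl⟩; exact ⟨x + y, Φadd x y⟩
      one_mem' := ⟨0, Φzero⟩
      inv_mem' := by rintro _ ⟨x, rfl⟩; exact ⟨H.σ x, Φanti x⟩ }
  refine P.good_Q_of_values hσ hU hcen (D := D) ?_ fun u w => ⟨_, (hall u w).symm⟩
  rintro _ ⟨x, rfl⟩ h1
  have hmap := P.map_bet hσ hU hcen u₀ (H.σ x • v₀)
  rw [show σ (P.bet hσ u₀ (H.σ x • v₀)) = 1 from h1, ← P.sg_zero] at hmap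
  have hc : x - H.σ x = 0 := by
    have := congrArg HPair.Par.a (P.sg_injective hmap)
    simp only [zpar, Submodule.coe_smul, H.smul_left, H.smul_right, huv', H.conj.invol,
      H.symm (v₀ : V) u₀, map_one, mul_one] at this
    exact this.symm
  rw [Φtheta, hc, mul_zero, Φzero]

include hσ hfix in
/-- Splitting over the radical in dimension four. -/
theorem good_Q_two (h2 : 2 ≤ Module.finrank F P.U) {s : F} (hs0 : s ≠ 0) (hs : H.σ s = s) (hs2 : s ^ 2 ≠ 1) :
    Good σ P.Q := by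
  have hU : 0 < Module.finrank F P.U := by omega
  have hcen := P.central_of_two_le hσ h2
  obtain ⟨t₀, ht1, -, ht3, htd⟩ := exists_torus P hs0
  have ht : t₀ ∈ H.SIsom := by
    show t₀ ∈ H.detHom.ker
    rw [MonoidHom.mem_ker]
    refine Units.ext ?_
    rw [htd, hs, mul_inv_cancel₀ hs0]; rfl
  obtain ⟨T, hT⟩ := hσ.surj ⟨t₀, ht⟩
  have hTe : (σ T).1.1 P.e = s • P.e := by rw [hT]; exact ht1
  have hTU : ∀ x ∈ P.U, (σ T).1.1 x = x := fun x hx => by rw [hT]; exact ht3 x hx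
  have hTQ : ∀ z ∈ ⁅P.Q, P.Q⁆, σ T * z * (σ T)⁻¹ ∈ ⁅P.Q, P.Q⁆ := by
    intro z hz
    obtain ⟨c, hc, rfl⟩ := (P.commutator_Q hU).mp hz
    rw [P.conj_sg (σ T) hTe (P.zpar c hc) (by simp [zpar]), P.sg_mem_commutator_iff hU]
    exact Subtype.ext (by simp [zpar])
  set Zc := (⁅P.Q, P.Q⁆).comap σ with hZc
  have hZQ : ∀ z ∈ Zc, σ z ∈ P.Q := fun z hz => Subgroup.commutator_le_self _ hz
  have hTz : ∀ z ∈ Zc, ⁅T, z⁆ ∈ Zc := fun z hz => by
    rw [commutatorElement_def]; exact mul_mem (comap_conj hTQ z hz) (inv_mem hz)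
  have hTmul : ∀ x ∈ Zc, ∀ y ∈ Zc, ⁅T, x * y⁆ = ⁅T, x⁆ * ⁅T, y⁆ := fun x hx y hy => by
    rw [show ⁅T, x * y⁆ = ⁅T, x⁆ * (x * ⁅T, y⁆ * x⁻¹) by simp only [commutatorElement_def]; group,
      commutatorElement_eq_one_iff_mul_comm.mp (hcen x (hZQ x hx) _ (hTz y hy)), mul_inv_cancel_right]
  let D : Subgroup Γ :=
    { carrier := {d | ∃ z ∈ Zc, d = ⁅T, z⁆}
      mul_mem' := by rintro _ _ ⟨x, hx, rfl⟩ ⟨y, hy, rfl⟩; exact ⟨x * y, mul_mem hx hy, (hTmul x hx y hy).symm⟩
      one_mem' := ⟨1, one_mem _, (commutatorElement_one_right T).symm⟩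
      inv_mem' := by
        rintro _ ⟨x, hx, rfl⟩
        refine ⟨x⁻¹, inv_mem hx, inv_eq_of_mul_eq_one_right ?_⟩
        rw [← hTmul x hx _ (inv_mem hx), mul_inv_cancel, commutatorElement_one_right] }
  refine P.good_Q_of_values hσ hU hcen (D := D) ?_ ?_
  · rintro _ ⟨z, hz, rfl⟩ h1
    obtain ⟨c, hc, hzc⟩ := (P.commutator_Q hU).mp hz
    have h2' : (s * H.σ s) * c = c := by
      rw [map_commutatorElement, hzc, commutatorElement_def, mul_inv_eq_one,
        P.conj_sg (σ T) hTe (P.zpar c hc) (by simp [zpar])] at h1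
      exact congrArg HPair.Par.a (P.sg_injective h1)
    rw [hs, ← pow_two] at h2'
    have hc0 : c = 0 := by
      by_contra h
      exact hs2 ((mul_eq_right₀ h).mp h2')
    subst hc0
    have hz1 : σ z = 1 := hzc.trans P.sg_zero
    exact commutatorElement_eq_one_iff_mul_comm.mpr (hσ.comm_mul hz1 T)
  refine P.all_of_isotropic h2 (fun u => ∀ w, P.bet hσ u w ∈ D) (fun w => ?_) (fun a b ha hb w => ?_) ?_
  · rw [P.bet_zero_left hσ hU hcen]; exact one_mem D
  · rw [P.bet_add_left hσ hU hcen]; exact mul_mem (ha w) (hb w)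
  intro u hu w
  rcases eq_or_ne u 0 with rfl | hu0
  · rw [P.bet_zero_left hσ hU hcen]; exact one_mem D
  obtain ⟨v, huv, hvv⟩ := (H.restrict P.U P.nondegU).exists_hyperbolic hu0 hu
  have huv' : H.h (u : V) v = 1 := huv
  -- a torus element of `L` scaling `u`
  let K := H.restrict P.U P.nondegU
  let PK : HPair K := ⟨u, v, hu, hvv, huv⟩
  obtain ⟨l₀, hl1, hl2, -, hld⟩ := exists_torus PK hs0
  have hl : l₀ ∈ K.SIsom := by
    show l₀ ∈ K.detHom.ker
    rw [MonoidHom.mem_ker]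
    refine Units.ext ?_
    rw [hld, show K.σ s = s from hs, mul_inv_cancel₀ hs0]; rfl
  set l := extSIsom H P.nondegU ⟨l₀, hl⟩ with hldef
  have hlL : l ∈ P.L := by
    show l ∈ SI H P.U
    rw [← range_extSIsom H P.nondegU]; exact ⟨_, rfl⟩
  have hlu : l.1.1 (u : V) = s • (u : V) := (extIsom_apply H P.nondegU l₀ u).trans (congrArg Subtype.val hl1)
  have hlinv : l⁻¹ ∈ P.L := inv_mem hlL
  set x := H.h (u : V) w with hx
  set y := x / (s ^ 2 - 1) with hy
  have hy' : x = s ^ 2 * y - y := by rw [hy]; field_simp [sub_ne_zero.mpr hs2]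
  -- conjugation by `T`
  have key : P.bet hσ u (H.σ (s ^ 2 * y) • v) = T * P.bet hσ u (H.σ y • v) * T⁻¹ := by
    rw [P.bet_conj hσ hU hcen (R := T) hTe (fun x hx => by rw [hTU x hx]; exact hx)]
    set w' : P.U := H.σ y • v
    set su : P.U := ⟨H.σ s • (σ T).1.1 u, P.U.smul_mem _ (by rw [hTU _ u.2]; exact u.2)⟩
    set sw : P.U := ⟨H.σ s • (σ T).1.1 w', P.U.smul_mem _ (by rw [hTU _ w'.2]; exact w'.2)⟩
    have h := P.bet_inv hσ hU hcen hlL (hfix l hlL) u ⟨(l⁻¹).1.1 sw, P.L_U hlinv sw.2⟩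
    rw [show (⟨l.1.1 (u : V), P.L_U hlL u.2⟩ : P.U) = su from Subtype.ext (by
        show l.1.1 (u : V) = H.σ s • (σ T).1.1 (u : V)
        rw [hlu, hs, hTU _ u.2]),
      show (⟨l.1.1 ((l⁻¹).1.1 sw), P.L_U hlL (P.L_U hlinv sw.2)⟩ : P.U) = sw from
        Subtype.ext (H.apply_inv_self l.1 _),
      P.bet_partner hσ hfix h2 hu huv' ⟨(l⁻¹).1.1 sw, P.L_U hlinv sw.2⟩] at h
    rw [h]
    congr 3
    rw [← H.map_form l.1, hlu, show l.1.1 ((l⁻¹).1.1 (sw : V)) = sw from H.apply_inv_self l.1 _]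
    show s ^ 2 * y = H.h (s • (u : V)) (H.σ s • (σ T).1.1 (w' : V))
    rw [hTU _ w'.2, hs]
    show s ^ 2 * y = H.h (s • (u : V)) (s • (H.σ y • (v : V)))
    rw [H.smul_left, H.smul_right, H.smul_right, huv', H.conj.invol, hs]
    ring
  rw [P.bet_partner hσ hfix h2 hu huv' w, ← hx, hy', map_sub, sub_smul, sub_eq_add_neg,
    P.bet_add_right hσ hU hcen, P.bet_neg_right hσ hU hcen, key]
  exact ⟨_, P.bet_mem hσ hU hcen _ _, (commutatorElement_def T _).symm⟩

end HPair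

end Cfsg.Lib.UnitMult
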