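import Cfsg.Agent.UnitMult.RadGood

/-!
The extension splits over the radical in dimension three.
-/

set_option autoImplicit false
set_option linter.unusedSectionVars false

namespace Cfsg.Lib.UnitMult

open Cfsg.Lib.Classical
open scoped commutatorElement

universe u v w

section Field

variable {F : Type v} [Field F] [Finite F]

/-- An involutory automorphism is the power map. -/
theorem sigma_eq_pow {σ : F →+* F} (hσ : Cfsg.Lib.Classical.IsConj σ) (x : F) :
    σ x = x ^ Nat.card (fixedField σ) := by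
  classical
  letI : Fintype F := Fintype.ofFinite F
  letI : Fintype (fixedField σ) := Fintype.ofFinite _
  set q := Nat.card (fixedField σ) with hqdef
  have hF : Fintype.card F = q ^ 2 := by rw [← Nat.card_eq_fintype_card]; exact hσ.card_eq_sq
  have hfix : ∀ a, σ a = a → a ^ q = a := fun a ha => by
    have h := congrArg Subtype.val (FiniteField.pow_card (⟨a, ha⟩ : fixedField σ))
    rw [hqdef, Nat.card_eq_fintype_card]
    simpa using h
  have hq : 1 < q := hσ.two_le_card_fixed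
  have hroots : ∀ a : F, a ^ q = a → σ a = a := by
    intro a ha
    let S : Finset F := Finset.univ.filter fun b => b ^ q = b
    let T : Finset F := Finset.univ.filter fun b => σ b = b
    have hTS : T ⊆ S := fun b hb => Finset.mem_filter.mpr ⟨Finset.mem_univ b, hfix b (Finset.mem_filter.mp hb).2⟩
    have hT : T.card = q := by
      rw [hqdef, Nat.card_eq_fintype_card, ← Fintype.card_subtype]
      exact Fintype.card_congr (Equiv.subtypeEquivRight fun b => by rfl)
    have hne : (Polynomial.X ^ q - Polynomial.X : Polynomial F) ≠ 0 := FiniteField.X_pow_card_sub_X_ne_zero F hq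
    have hS : S.card ≤ q := by
      have h1 : S ⊆ (Polynomial.X ^ q - Polynomial.X : Polynomial F).roots.toFinset := fun b hb => by
        rw [Multiset.mem_toFinset, Polynomial.mem_roots hne, Polynomial.IsRoot]
        simp [(Finset.mem_filter.mp hb).2]
      refine (Finset.card_le_card h1).trans ((Multiset.toFinset_card_le _).trans ?_)
      exact (Polynomial.card_roots' _).trans_eq (FiniteField.X_pow_card_sub_X_natDegree_eq F hq)
    have hmem : a ∈ T := by
      rw [Finset.eq_of_subset_of_card_le hTS (by omega)]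
      exact Finset.mem_filter.mpr ⟨Finset.mem_univ a, ha⟩
    exact (Finset.mem_filter.mp hmem).2
  obtain ⟨φ, -, hφ, -⟩ := exists_conj_pow hF
  have h1 : φ (x + σ x) = x + σ x := (hφ _).trans (hfix _ (hσ.trace_mem x))
  have h2 : φ (x * σ x) = x * σ x := (hφ _).trans (hfix _ (hσ.norm_mem x))
  rw [map_add] at h1
  rw [map_mul] at h2
  have h3 : (φ x - x) * (φ x - σ x) = 0 := by linear_combination (φ x) * h1 - h2
  rw [hφ] at h3
  rcases mul_eq_zero.mp h3 with h | h
  · rw [hroots x (sub_eq_zero.mp h)]; exact (sub_eq_zero.mp h).symm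
  · exact (sub_eq_zero.mp h).symm

theorem not_dvd_small {q m : ℕ} (hq : 3 ≤ q) (hm1 : 2 ≤ m) (hm : m ≤ q + 1) : ¬ q ^ 2 - 1 ∣ (2 * q - 1) * m := by
  intro h
  rcases Nat.lt_or_ge q 5 with h5 | h5
  · interval_cases q <;> interval_cases m <;> omega
  obtain ⟨r, rfl⟩ : ∃ r, q = r + 1 := ⟨q - 1, by omega⟩
  rw [show (r + 1) ^ 2 - 1 = r * (r + 2) by rw [show (r + 1) ^ 2 = r * (r + 2) + 1 by ring]; rfl,
    show 2 * (r + 1) - 1 = 2 * r + 1 by omega] at h
  -- the two factors are coprime up to three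
  have h3 : r * (r + 2) ∣ 3 * m := by
    have e : r * (r + 2) ∣ 4 * (r * (r + 2)) * m := ⟨4 * m, by ring⟩
    have e2 : r * (r + 2) ∣ (2 * r + 3) * ((2 * r + 1) * m) := h.trans (Dvd.intro_left _ rfl)
    rw [show (2 * r + 3) * ((2 * r + 1) * m) = 4 * (r * (r + 2)) * m + 3 * m by ring] at e2
    exact (Nat.dvd_add_right e).mp e2
  have h4 := Nat.le_of_dvd (by omega) h3
  have h5' : 4 * (r + 2) ≤ r * (r + 2) := Nat.mul_le_mul_right _ (by omega)
  omega

/-- No automorphism inverts the weight of the torus. -/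
theorem no_inverting {σ : F →+* F} (hσ : Cfsg.Lib.Classical.IsConj σ) {p : ℕ} [hp : Fact p.Prime] [CharP F p]
    [Algebra (ZMod p) F] (hq : 3 ≤ Nat.card (fixedField σ)) {d : Fˣ} (hd : orderOf d = Nat.card F - 1)
    (τ : F ≃ₐ[ZMod p] F) : τ (σ d * σ d / d) ≠ (σ d * σ d / d)⁻¹ := by
  classical
  intro hτ
  letI : Fintype F := Fintype.ofFinite F
  set q := Nat.card (fixedField σ) with hqdef
  set c : F := σ d * σ d / d with hc
  obtain ⟨⟨i, hi⟩, hiτ⟩ := (FiniteField.bijective_frobeniusAlgEquivOfAlgebraic_pow (ZMod p) F).2 τ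
  have hτpow : τ c = c ^ p ^ i := by
    rw [← hiτ, AlgEquiv.coe_pow, FiniteField.coe_frobeniusAlgEquivOfAlgebraic_iterate, ZMod.card]
  rw [hτpow] at hτ
  set N := Module.finrank (ZMod p) F with hN
  have hcardF : Nat.card F = p ^ N := by
    rw [Module.natCard_eq_pow_finrank (K := ZMod p) (V := F), Nat.card_zmod]
  have hq2 : Nat.card F = q ^ 2 := hσ.card_eq_sq
  obtain ⟨k, -, hk⟩ := (Nat.dvd_prime_pow hp.out).mp (show q ∣ p ^ N by
    rw [← hcardF, hq2]; exact dvd_pow_self q two_ne_zero)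
  have hNk : N = 2 * k := by
    have h := hcardF.symm.trans hq2
    rw [hk, ← pow_mul] at h
    rw [Nat.pow_right_injective hp.out.two_le h]; ring
  -- the reflected exponent
  obtain ⟨j, hjk, hjc⟩ : ∃ j, j ≤ k ∧ c ^ p ^ j = c⁻¹ := by
    rcases Nat.lt_or_ge k i with h | h
    · refine ⟨N - i, by omega, ?_⟩
      have hcard : c ^ p ^ N = c := by
        rw [← hcardF, Nat.card_eq_fintype_card]; exact FiniteField.pow_card c
      have h1 := congrArg (fun x => x ^ p ^ (N - i)) hτ
      simp only [← pow_mul, ← pow_add] at h1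
      rw [show i + (N - i) = N by omega, hcard, inv_pow] at h1
      conv_rhs => rw [h1, inv_inv]
    · exact ⟨i, h, hτ⟩
  -- compare orders
  have hcd : c = ((d ^ (2 * q - 1) : Fˣ) : F) := by
    rw [hc, sigma_eq_pow hσ, ← hqdef, Units.val_pow_eq_pow_val, div_eq_iff d.ne_zero, ← pow_succ, ← pow_add]
    congr 1
    omega
  have hone : d ^ ((2 * q - 1) * (p ^ j + 1)) = 1 := by
    refine Units.ext ?_
    rw [pow_mul, Units.val_pow_eq_pow_val, ← hcd, pow_succ, hjc, Units.val_one, inv_mul_cancel₀]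
    rw [hcd]; exact Units.ne_zero _
  have hdvd := orderOf_dvd_of_pow_eq_one hone
  rw [hd, hq2] at hdvd
  have hple : p ^ j ≤ q := hk ▸ Nat.pow_le_pow_right hp.out.pos hjk
  exact not_dvd_small hq (by have := Nat.one_le_pow j p hp.out.pos; omega) (by omega) hdvd

end Field

variable {F : Type v} [Field F] [Finite F] {V : Type w} [AddCommGroup V] [Module F V] [FiniteDimensional F V]
  {H : HermSpace F V} (P : HPair H) {Γ : Type u} [Group Γ] [Finite Γ] {ℓ : ℕ} {σ : Γ →* H.SIsom}

namespace HPair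

/-- Torus elements in dimension three. -/
theorem exists_torus_three {v₀ : P.U} (hv : H.h (v₀ : V) v₀ = 1) (d : Fˣ) :
    ∃ g : H.SIsom, g.1.1 P.e = (d : F) • P.e ∧ g.1.1 (v₀ : V) = (H.σ d / d) • (v₀ : V) := by
  obtain ⟨t, hte, htf, htU, htd⟩ := exists_torus P d.ne_zero
  have hσd : H.σ (d : F) ≠ 0 := (map_ne_zero _).mpr d.ne_zero
  set z : Fˣ := Units.mk0 (H.σ (d : F) / d) (div_ne_zero hσd d.ne_zero) with hz
  have hzk : z ∈ (normUnits H.σ).ker := by
    rw [MonoidHom.mem_ker]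
    refine Units.ext ?_
    rw [coe_normUnits, Units.val_one, hz, Units.val_mk0, map_div₀, H.conj.invol]
    field_simp
  set r := H.qrefl hv ⟨z, hzk⟩ with hr
  refine ⟨⟨t * r, ?_⟩, ?_, ?_⟩
  · show _ ∈ H.detHom.ker
    rw [MonoidHom.mem_ker, map_mul, H.det_qrefl]
    refine Units.ext ?_
    rw [Units.val_mul, htd, Units.val_one]
    show (d : F) * (H.σ d)⁻¹ * (H.σ (d : F) / d) = 1
    field_simp
  · show (t * r).1 P.e = _
    rw [H.mul_apply', H.qrefl_orth hv _ (H.eq_zero_symm (P.U_e v₀)), hte]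
  · show (t * r).1 (v₀ : V) = _
    rw [H.mul_apply', H.qrefl_self, map_smul, htU _ v₀.2]
    rfl

variable (hσ : Cen ℓ σ)

include hσ in
/-- Splitting over the radical in dimension three. -/
theorem good_Q_one {p : ℕ} [Fact p.Prime] [CharP F p] (h1 : Module.finrank F P.U = 1) (hq : 3 ≤ H.q) :
    Good σ P.Q := by
  classical
  letI : Algebra (ZMod p) F := ZMod.algebra F p
  letI : Fintype F := Fintype.ofFinite F
  have hU : 0 < Module.finrank F P.U := by omega
  haveI : Nontrivial P.U := Module.nontrivial_of_finrank_pos hU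
  obtain ⟨v₀, hv⟩ := (H.restrict P.U P.nondegU).exists_norm_one
  have hv' : H.h (v₀ : V) v₀ = 1 := hv
  have hv0 : v₀ ≠ 0 := fun e => by rw [e, Submodule.coe_zero, H.zero_left] at hv'; exact zero_ne_one hv'
  have hspan : ∀ w : P.U, ∃ x : F, x • v₀ = w := fun w =>
    (finrank_eq_one_iff_of_nonzero' v₀ hv0).mp h1 w
  -- conjugation by torus elements
  have hact : ∀ (d : Fˣ) (g : H.SIsom), g.1.1 P.e = (d : F) • P.e → g.1.1 (v₀ : V) = (H.σ d / d) • (v₀ : V) →
      ∀ w : P.U, H.σ d • g.1.1 (w : V) = ((H.σ d * H.σ d / d) • w : P.U) := by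
    intro d g hge hgv w
    obtain ⟨x, rfl⟩ := hspan w
    rw [Submodule.coe_smul, map_smul, hgv, Submodule.coe_smul, Submodule.coe_smul, smul_smul, smul_smul, smul_smul]
    congr 1
    field_simp
  have hnorm : ∀ (d : Fˣ) (g : H.SIsom), g.1.1 P.e = (d : F) • P.e → g.1.1 (v₀ : V) = (H.σ d / d) • (v₀ : V) →
      ∀ p : P.Par, ∃ p' : P.Par, g * P.sg p * g⁻¹ = P.sg p' ∧ p'.w = (H.σ d * H.σ d / d) • p.w ∧
        p'.a = d * H.σ d * p.a := fun d g hge hgv p =>
    ⟨_, P.conj_sg g hge p (by rw [hact d g hge hgv]; exact Subtype.prop _), Subtype.ext (hact d g hge hgv p.w), rfl⟩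
  -- the centre lifts centrally
  have hcen : ∀ x ∈ P.Q.comap σ, ∀ z ∈ (⁅P.Q, P.Q⁆).comap σ, ⁅x, z⁆ = 1 := by
    obtain ⟨d, hd⟩ := IsCyclic.exists_generator (α := (normUnits H.σ).ker)
    have hod : orderOf (d.1 : Fˣ) = H.q + 1 := by
      rw [Subgroup.orderOf_coe, orderOf_eq_card_of_forall_mem_zpowers hd, H.conj.card_norm_ker]; rfl
    obtain ⟨g, hge, hgv⟩ := P.exists_torus_three hv' d.1
    have hN : (d.1 : F) * H.σ (d.1 : F) = 1 := congrArg Units.val (MonoidHom.mem_ker.mp d.2)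
    have hc1 : H.σ (d.1 : F) * H.σ (d.1 : F) / (d.1 : F) ≠ 1 := fun e => by
      rw [eq_inv_of_mul_eq_one_right hN, div_eq_one_iff_eq d.1.ne_zero] at e
      have h3 : d.1 ^ 3 = 1 := Units.ext (by
        rw [Units.val_pow_eq_pow_val, Units.val_one]
        field_simp at e
        linear_combination -e)
      have := Nat.le_of_dvd (by norm_num) (hod ▸ orderOf_dvd_of_pow_eq_one h3)
      omega
    refine central_lift hσ (R := {g}) (P.zpar_comm hU) ?_ ?_ ?_
    · rintro r (rfl : r = g) _ ⟨p, rfl⟩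
      obtain ⟨p', hp', -, -⟩ := hnorm d.1 r hge hgv p
      exact ⟨p', hp'.symm⟩
    · rintro r (rfl : r = g) z hz
      obtain ⟨a, ha, rfl⟩ := (P.commutator_Q hU).mp hz
      obtain ⟨p', hp', hw', ha'⟩ := hnorm d.1 r hge hgv (P.zpar a ha)
      rw [← mul_inv_eq_iff_eq_mul, hp']
      refine congrArg P.sg (Par.ext' P (by rw [hw']; simp [zpar]) ?_)
      rw [ha', hN, one_mul]
    · rintro _ ⟨p, rfl⟩
      set c := H.σ (d.1 : F) * H.σ (d.1 : F) / (d.1 : F) with hc
      obtain ⟨p', hp', hw', -⟩ := hnorm d.1 g hge hgv (P.wpar ((c - 1)⁻¹ • p.w))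
      have hy : ⁅g, P.sg (P.wpar ((c - 1)⁻¹ • p.w))⁆ = P.sg (P.pmul p' (P.pinv (P.wpar ((c - 1)⁻¹ • p.w)))) := by
        rw [commutatorElement_def, hp', sg_inv, sg_mul]
      rw [← mul_inv_cancel_left ⁅g, P.sg (P.wpar ((c - 1)⁻¹ • p.w))⁆ (P.sg p)]
      refine mul_mem (Subgroup.subset_closure (Or.inr ⟨g, rfl, _, P.sg_mem _, rfl⟩)) (Subgroup.subset_closure (Or.inl ?_))
      rw [hy, SetLike.mem_coe, sg_inv, sg_mul, P.sg_mem_commutator_iff hU]
      rw [← hc] at hw'
      simp only [pmul, pinv, wpar] at hw' ⊢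
      rw [hw']
      have hne : c - 1 ≠ 0 := sub_ne_zero.mpr hc1
      match_scalars
      field_simp
      ring
  -- a torus element moving the centre
  obtain ⟨d, hd⟩ := IsCyclic.exists_generator (α := Fˣ)
  have hod : orderOf d = Nat.card F - 1 := by rw [orderOf_eq_card_of_forall_mem_zpowers hd, Nat.card_units]
  obtain ⟨g, hge, hgv⟩ := P.exists_torus_three hv' d
  obtain ⟨T, hT⟩ := hσ.surj g
  set N := (d : F) * H.σ d with hN
  have hN1 : N ≠ 1 := fun e => by
    have h1 : d ∈ (normUnits H.σ).ker := by rw [MonoidHom.mem_ker]; exact Units.ext e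
    have h2 := Subgroup.orderOf_coe (⟨d, h1⟩ : (normUnits H.σ).ker)
    have h3 := orderOf_dvd_natCard (⟨d, h1⟩ : (normUnits H.σ).ker)
    rw [← h2, hod, H.conj.card_norm_ker] at h3
    have h4 := Nat.le_of_dvd (by omega) h3
    have h5 : Nat.card F = H.q ^ 2 := H.card_field
    have h6 : 3 * H.q ≤ H.q ^ 2 := by rw [pow_two]; exact Nat.mul_le_mul_right _ hq
    change Nat.card F - 1 ≤ H.q + 1 at h4
    omega
  set Zc := (⁅P.Q, P.Q⁆).comap σ with hZc
  have hZQ : ∀ z ∈ Zc, σ z ∈ P.Q := fun z hz => Subgroup.commutator_le_self _ hz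
  have hTz : ∀ z ∈ Zc, ⁅T, z⁆ ∈ Zc := fun z hz => by
    rw [commutatorElement_def]
    refine mul_mem (comap_conj (fun y hy => ?_) z hz) (inv_mem hz)
    obtain ⟨a, ha, rfl⟩ := (P.commutator_Q hU).mp hy
    obtain ⟨p', hp', hw', -⟩ := hnorm d g hge hgv (P.zpar a ha)
    rw [hT, hp', P.sg_mem_commutator_iff hU, hw']
    simp [zpar]
  have hTmul : ∀ x ∈ Zc, ∀ y ∈ Zc, ⁅T, x * y⁆ = ⁅T, x⁆ * ⁅T, y⁆ := fun x hx y hy => by
    rw [show ⁅T, x * y⁆ = ⁅T, x⁆ * (x * ⁅T, y⁆ * x⁻¹) by simp only [commutatorElement_def]; group,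
      commutatorElement_eq_one_iff_mul_comm.mp (hcen x (hZQ x hx) _ (hTz y hy)), mul_inv_cancel_right]
  let D : Subgroup Γ :=
    { carrier := {t | ∃ z ∈ Zc, t = ⁅T, z⁆}
      mul_mem' := by rintro _ _ ⟨x, hx, rfl⟩ ⟨y, hy, rfl⟩; exact ⟨x * y, mul_mem hx hy, (hTmul x hx y hy).symm⟩
      one_mem' := ⟨1, one_mem _, (commutatorElement_one_right T).symm⟩
      inv_mem' := by
        rintro _ ⟨x, hx, rfl⟩
        refine ⟨x⁻¹, inv_mem hx, inv_eq_of_mul_eq_one_right ?_⟩
        rw [← hTmul x hx _ (inv_mem hx), mul_inv_cancel, commutatorElement_one_right] }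
  refine P.good_Q_of_values hσ hU hcen (D := D) ?_ ?_
  · rintro _ ⟨z, hz, rfl⟩ h1
    obtain ⟨a, ha, hza⟩ := (P.commutator_Q hU).mp hz
    obtain ⟨p', hp', hw', ha'⟩ := hnorm d g hge hgv (P.zpar a ha)
    rw [map_commutatorElement, hza, hT, commutatorElement_def, mul_inv_eq_one, hp'] at h1
    have h2 := congrArg HPair.Par.a (P.sg_injective h1)
    rw [ha'] at h2
    have ha0 : a = 0 := by
      by_contra h
      exact hN1 ((mul_eq_right₀ h).mp h2)
    subst ha0
    exact commutatorElement_eq_one_iff_mul_comm.mpr (hσ.comm_mul (hza.trans P.sg_zero) T)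
  -- the pairing modulo `D`
  let Dz : Subgroup Zc := D.subgroupOf Zc
  haveI : Dz.Normal := ⟨fun n hn x => by
    rw [show x * n * x⁻¹ = n from Subtype.ext (by
      show (x : Γ) * n * (x : Γ)⁻¹ = n
      rw [commutatorElement_eq_one_iff_mul_comm.mp (hcen _ (hZQ _ x.2) _ n.2), mul_inv_cancel_right])]
    exact hn⟩
  let B : P.U → P.U → Zc ⧸ Dz := fun u w => QuotientGroup.mk' Dz ⟨P.bet hσ u w, P.bet_mem hσ hU hcen u w⟩
  have Badd : ∀ u u' w, B (u + u') w = B u w * B u' w := fun u u' w => by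
    simp only [B]
    rw [← map_mul]
    exact congrArg _ (Subtype.ext (P.bet_add_left hσ hU hcen u u' w))
  have Badd' : ∀ u w w', B u (w + w') = B u w * B u w' := fun u w w' => by
    simp only [B]
    rw [← map_mul]
    exact congrArg _ (Subtype.ext (P.bet_add_right hσ hU hcen u w w'))
  set c := H.σ (d : F) * H.σ (d : F) / (d : F) with hc
  have hc0 : c ≠ 0 := div_ne_zero (mul_ne_zero ((map_ne_zero _).mpr d.ne_zero) ((map_ne_zero _).mpr d.ne_zero)) d.ne_zero
  have hgU : ∀ x ∈ P.U, g.1.1 x ∈ P.U := fun x hx => by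
    obtain ⟨r, hr⟩ := hspan ⟨x, hx⟩
    rw [← show ((r • v₀ : P.U) : V) = x from congrArg Subtype.val hr, Submodule.coe_smul, map_smul, hgv, smul_smul]
    exact P.U.smul_mem _ v₀.2
  have Binv : ∀ u w, B (c • u) (c • w) = B u w := fun u w => by
    have h := P.bet_conj hσ hU hcen (R := T) (d := (d : F)) (by rw [hT]; exact hge)
      (fun x hx => by rw [hT]; exact hgU x hx) u w
    have e : ∀ u : P.U, (⟨H.σ d • (σ T).1.1 u, P.U.smul_mem _ (by rw [hT]; exact hgU _ u.2)⟩ : P.U) = c • u :=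
      fun u => Subtype.ext (show H.σ d • (σ T).1.1 (u : V) = _ by rw [hT]; exact hact d g hge hgv u)
    rw [e u, e w] at h
    simp only [B]
    refine (QuotientGroup.eq (s := Dz)).mpr ?_
    show (P.bet hσ (c • u) (c • w))⁻¹ * P.bet hσ u w ∈ D
    rw [← h]
    have hD : ⁅T, P.bet hσ u w⁆⁻¹ ∈ D := inv_mem ⟨_, P.bet_mem hσ hU hcen u w, rfl⟩
    refine (show (T * P.bet hσ u w * T⁻¹)⁻¹ * P.bet hσ u w ∈ D from ?_)
    rw [commutatorElement_def, mul_inv_rev, inv_inv] at hD
    have hcomm : (T * P.bet hσ u w * T⁻¹)⁻¹ * P.bet hσ u w = P.bet hσ u w * (T * P.bet hσ u w * T⁻¹)⁻¹ := by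
      have hmem : T * P.bet hσ u w * T⁻¹ ∈ Zc := by rw [h]; exact P.bet_mem hσ hU hcen _ _
      exact commutatorElement_eq_one_iff_mul_comm.mp
        (hcen _ (hZQ _ (inv_mem hmem)) _ (P.bet_mem hσ hU hcen u w))
    rw [hcomm]; exact hD
  have Bnat : ∀ (n : ℕ) u w, B ((n : F) • u) w = B u w ^ n ∧ B u ((n : F) • w) = B u w ^ n := by
    intro n u w
    induction n with
    | zero =>
      rw [Nat.cast_zero, zero_smul, zero_smul, pow_zero]
      constructor
      · have h := Badd 0 0 w; rw [add_zero] at h; exact left_eq_mul.mp h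
      · have h := Badd' u 0 0; rw [add_zero] at h; exact left_eq_mul.mp h
    | succ n ih =>
      rw [Nat.cast_succ, add_smul, add_smul, one_smul, one_smul, Badd, Badd', ih.1, ih.2, pow_succ]
      exact ⟨rfl, rfl⟩
  have key : ∀ P' : Polynomial (ZMod p), ∀ u w,
      B (Polynomial.aeval c P' • u) w = B u (Polynomial.aeval c⁻¹ P' • w) := by
    intro P'
    induction P' using Polynomial.induction_on with
    | C a =>
      intro u w
      rw [Polynomial.aeval_C, Polynomial.aeval_C, ← ZMod.natCast_rightInverse a, map_natCast, (Bnat _ u w).1,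
        (Bnat _ u w).2]
    | add f g hf hg =>
      intro u w
      rw [map_add, map_add, add_smul, add_smul, Badd, Badd', hf, hg]
    | monomial n a ih =>
      intro u w
      rw [pow_succ, ← mul_assoc, map_mul (Polynomial.aeval c) (Polynomial.C a * Polynomial.X ^ n) Polynomial.X,
        map_mul (Polynomial.aeval c⁻¹) (Polynomial.C a * Polynomial.X ^ n) Polynomial.X, Polynomial.aeval_X, Polynomial.aeval_X,
        ← smul_smul (b := u), ← smul_smul (b := w), ih]
      conv_lhs => rw [show (Polynomial.aeval c⁻¹) (Polynomial.C a * Polynomial.X ^ n) • w =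
        c • ((Polynomial.aeval c⁻¹) (Polynomial.C a * Polynomial.X ^ n) • (c⁻¹ • w)) by
          simp only [smul_smul]; congr 1; field_simp, Binv]
  intro u w
  have hint : IsIntegral (ZMod p) c := Algebra.IsIntegral.isIntegral c
  set e := Polynomial.aeval c⁻¹ (minpoly (ZMod p) c) with he
  have hne : e ≠ 0 := fun h0 => by
    obtain ⟨τ, hτ⟩ := minpoly.exists_algEquiv_of_root' hint.isAlgebraic h0
    exact no_inverting H.conj (show 3 ≤ Nat.card (fixedField H.σ) from hq) hod τ hτ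
  have h0 : B u w = 1 := by
    have h := key (minpoly (ZMod p) c) u (e⁻¹ • w)
    rw [minpoly.aeval, zero_smul, smul_smul, ← he, mul_inv_cancel₀ hne, one_smul] at h
    have h' := Badd 0 0 (e⁻¹ • w)
    rw [add_zero] at h'
    rw [← h]
    exact left_eq_mul.mp h'
  exact (QuotientGroup.eq_one_iff (N := Dz) _).mp h0

end HPair

end Cfsg.Lib.UnitMult
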