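import Cfsg.Agent.UnitMult.RadSmall

/-!
The extension splits over the radical for the field with four elements in small dimension.
-/

set_option autoImplicit false
set_option linter.unusedSectionVars false
set_option linter.unusedSimpArgs false

namespace Cfsg.Lib.UnitMult

open Cfsg.Lib.Classical
open scoped commutatorElement

universe u v w

section Four

variable {F : Type v} [Field F] [Finite F] {σ : F →+* F}

theorem four_facts (hσ : Cfsg.Lib.Classical.IsConj σ) (hq : Nat.card (fixedField σ) = 2) :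
    (2 : F) = 0 ∧ ∃ ω : F, ω ≠ 0 ∧ ω ≠ 1 ∧ σ ω = 1 + ω ∧ ω * σ ω = 1 ∧
      (∀ x : F, x = 0 ∨ x = 1 ∨ x = ω ∨ x = 1 + ω) := by
  classical
  letI : Fintype F := Fintype.ofFinite F
  have hF : Fintype.card F = 4 := by rw [← Nat.card_eq_fintype_card, hσ.card_eq_sq, hq]; rfl
  obtain ⟨_, ω, hω⟩ := Cfsg.Lib.Classical.UThreeTwo.exists_omega hF
  have h2 : (2 : F) = 0 := CharTwo.two_eq_zero
  have hω0 : ω ≠ 0 := fun h => by rw [h] at hω; simp at hω
  have hω1 : ω ≠ 1 := fun h => by
    rw [h] at hω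
    exact one_ne_zero (by linear_combination -hω : (1 : F) = 0)
  have hωω : ω + 1 ≠ 0 := fun h => hω1 (by linear_combination h - h2)
  have hσω : σ ω = 1 + ω := by rw [sigma_eq_pow hσ, hq, pow_two, hω, add_comm]
  refine ⟨h2, ω, hω0, hω1, hσω, by rw [hσω]; linear_combination hω + ω * h2, fun x => ?_⟩
  have hs : ({0, 1, ω, 1 + ω} : Finset F) = Finset.univ := by
    refine Finset.eq_univ_of_card _ ?_
    have d1 : ω ≠ 1 + ω := fun h => one_ne_zero (by linear_combination -h : (1 : F) = 0)
    have d2 : (1 : F) ≠ 1 + ω := fun h => hω0 (by linear_combination -h)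
    have d3 : (0 : F) ≠ 1 + ω := fun h => hωω (by linear_combination -h)
    rw [Finset.card_insert_of_notMem (by simp [Ne.symm hω0, d3]), Finset.card_insert_of_notMem (by simp [Ne.symm hω1, d2]),
      Finset.card_pair d1, hF]
  have := hs ▸ Finset.mem_univ x
  simpa using this

end Four

variable {F : Type v} [Field F] [Finite F] {V : Type w} [AddCommGroup V] [Module F V] [FiniteDimensional F V]
  {H : HermSpace F V} (P : HPair H) {Γ : Type u} [Group Γ] [Finite Γ] {ℓ : ℕ} {σ : Γ →* H.SIsom}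

namespace HPair

variable (hσ : Cen ℓ σ) (hU : 0 < Module.finrank F P.U)
  (hcen : ∀ x ∈ P.Q.comap σ, ∀ z ∈ (⁅P.Q, P.Q⁆).comap σ, ⁅x, z⁆ = 1)

theorem bet_self (u : P.U) : P.bet hσ u u = 1 := commutatorElement_self _

include hσ hU hcen in
theorem line_mem {ω : F} (h2 : (2 : F) = 0) (hall : ∀ x : F, x = 0 ∨ x = 1 ∨ x = ω ∨ x = 1 + ω) (v : P.U)
    (x y : F) : P.bet hσ (x • v) (y • v) ∈ Subgroup.zpowers (P.bet hσ v (ω • v)) := by
  have hadd : ∀ a, (1 + ω) • a = a + ω • a := fun a : P.U => by rw [add_smul, one_smul]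
  have hsw : P.bet hσ (ω • v) v ∈ Subgroup.zpowers (P.bet hσ v (ω • v)) := by
    rw [P.bet_swap hσ v]; exact inv_mem (Subgroup.mem_zpowers _)
  rcases hall x with rfl | rfl | rfl | rfl <;> rcases hall y with rfl | rfl | rfl | rfl <;>
    simp [hadd, P.bet_add_left hσ hU hcen, P.bet_add_right hσ hU hcen, P.bet_zero_left hσ hU hcen,
      P.bet_zero_right hσ hU hcen, P.bet_self hσ, hsw, Subgroup.mem_zpowers, Subgroup.mul_mem_cancel_left,
      Subgroup.mul_mem_cancel_right]

include hσ hU hcen in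
theorem good_Q_of_line {ω : F} (h2 : (2 : F) = 0) (hσω : H.σ ω = 1 + ω) {v : P.U} (hv : H.h (v : V) v = 1)
    (hv' : ∀ u w, P.bet hσ u w ∈ Subgroup.zpowers (P.bet hσ v (ω • v))) : Good σ P.Q := by
  refine P.good_Q_of_values hσ hU hcen (D := Subgroup.zpowers (P.bet hσ v (ω • v))) ?_ hv'
  intro z hz h1
  set z₀ := P.bet hσ v (ω • v) with hz0
  have hsq : z₀ ^ (2 : ℤ) = 1 := by
    rw [zpow_two, hz0, ← P.bet_add_left hσ hU hcen, ← two_smul F v, h2, zero_smul, P.bet_zero_left hσ hU hcen]
  have hne : σ z₀ ≠ 1 := by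
    rw [hz0, P.map_bet hσ hU hcen, ← P.sg_zero]
    intro h
    have ha := congrArg HPair.Par.a (P.sg_injective h)
    simp only [zpar, Submodule.coe_smul, H.smul_left, H.smul_right, hv, mul_one, hσω] at ha
    exact one_ne_zero (by linear_combination ha : (1 : F) = 0)
  obtain ⟨i, rfl⟩ := Subgroup.mem_zpowers_iff.mp hz
  rcases Int.even_or_odd' i with ⟨j, rfl | rfl⟩
  · rw [zpow_mul, hsq, one_zpow]
  · rw [zpow_add, zpow_mul, hsq, one_zpow, one_mul, zpow_one] at h1
    exact absurd h1 hne

include hσ in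
/-- Splitting over the radical of `SU₃(2)`. -/
theorem good_Q_one_two (h1 : Module.finrank F P.U = 1) (hq : H.q = 2) : Good σ P.Q := by
  obtain ⟨h2, ω, hω0, hω1, hσω, hNω, hall⟩ := four_facts H.conj hq
  have hU : 0 < Module.finrank F P.U := by omega
  haveI : Nontrivial P.U := Module.nontrivial_of_finrank_pos hU
  obtain ⟨v, hv⟩ := (H.restrict P.U P.nondegU).exists_norm_one
  have hv' : H.h (v : V) v = 1 := hv
  have hv0 : v ≠ 0 := fun e => by rw [e, Submodule.coe_zero, H.zero_left] at hv'; exact zero_ne_one hv'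
  have hspan : ∀ w : P.U, ∃ x : F, x • v = w := fun w => (finrank_eq_one_iff_of_nonzero' v hv0).mp h1 w
  have hfix : ∀ c : F, c + H.σ c = 0 → c = 0 ∨ c = 1 := by
    intro c hc
    rcases hall c with h | h | h | h <;> rw [h] at hc
    · exact Or.inl h
    · exact Or.inr h
    · rw [hσω] at hc; exact absurd (by linear_combination hc - ω * h2 : (1 : F) = 0) one_ne_zero
    · rw [map_add, map_one, hσω] at hc
      exact absurd (by linear_combination hc - (1 + ω) * h2 : (1 : F) = 0) one_ne_zero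
  have hsquare : ∀ p : P.Par, p.w ≠ 0 → P.sg p * P.sg p = P.sg (P.zpar 1 (by rw [map_one]; linear_combination h2)) := by
    intro p hp
    rw [sg_mul]
    refine congrArg P.sg (Par.ext' P ?_ ?_)
    · show ((p.w + p.w : P.U) : V) = 0
      rw [← two_smul F p.w, h2, zero_smul, Submodule.coe_zero]
    · show p.a + p.a - H.h (p.w : V) p.w = 1
      obtain ⟨x, hx⟩ := hspan p.w
      rw [← hx, Submodule.coe_smul, H.smul_left, H.smul_right, hv', mul_one]
      rcases hall x with h | h | h | h <;> rw [h] at hx ⊢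
      · exact absurd (by rw [← hx, zero_smul]) hp
      · rw [map_one]; linear_combination (p.a - 1) * h2
      · rw [hNω]; linear_combination (p.a - 1) * h2
      · rw [map_add, map_one, hσω]
        rw [hσω] at hNω
        linear_combination hNω * (-1) + (p.a - 2 - ω) * h2
  have hcen : ∀ x ∈ P.Q.comap σ, ∀ z ∈ (⁅P.Q, P.Q⁆).comap σ, ⁅x, z⁆ = 1 := by
    intro x hx z hz
    obtain ⟨c, hc, hzc⟩ := (P.commutator_Q hU).mp hz
    obtain ⟨p, hp⟩ := hx
    rcases hfix c hc with rfl | rfl
    · exact commutatorElement_eq_one_iff_mul_comm.mpr (hσ.comm_mul (hzc.trans P.sg_zero) x)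
    by_cases hw : p.w = 0
    · rcases hfix p.a (by rw [p.cond, hw, Submodule.coe_zero, H.zero_left, neg_zero]) with ha | ha
      · have hx1 : σ x = 1 := by
          rw [← hp, ← P.sg_zero]
          exact congrArg P.sg (Par.ext' P (by rw [hw]; rfl) ha)
        exact commutatorElement_eq_one_iff_mul_comm.mpr (hσ.comm_mul hx1 z).symm
      · have hxz : σ x = σ z := by
          rw [← hp, hzc]
          exact congrArg P.sg (Par.ext' P (by rw [hw]; rfl) ha)
        rw [Cfsg.Lib.Schur.comm_congr σ hσ.central (g := x) (g' := z) (h := z) (h' := z) hxz rfl, commutatorElement_self]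
    · have hxz : σ z = σ (x * x) := by rw [map_mul, ← hp, hsquare p hw, hzc]
      rw [Cfsg.Lib.Schur.comm_congr σ hσ.central (g := x) (g' := x) (h := z) (h' := x * x) rfl hxz,
        commutatorElement_eq_one_iff_mul_comm, mul_assoc]
  refine P.good_Q_of_line hσ hU hcen h2 hσω hv' fun u w => ?_
  obtain ⟨x, rfl⟩ := hspan u
  obtain ⟨y, rfl⟩ := hspan w
  exact P.line_mem hσ hU hcen h2 hall v x y

include hσ in
/-- Splitting over the radical of `SU₅(2)`. -/
theorem good_Q_three_two (hℓ : ℓ = 2) (h3 : Module.finrank F P.U = 3) (hq : H.q = 2) : Good σ P.Q := by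
  classical
  obtain ⟨h2, ω, hω0, hω1, hσω, hNω, hall⟩ := four_facts H.conj hq
  have hU : 0 < Module.finrank F P.U := by omega
  have hcen := P.central_of_two_le hσ (by omega)
  obtain ⟨n, hn, b, hb⟩ : ∃ n, Module.finrank F P.U = n ∧ ∃ b : Module.Basis (Fin n) F P.U,
      ∀ i j, (H.restrict P.U P.nondegU).h (b i) (b j) = if i = j then 1 else 0 :=
    ⟨_, rfl, (H.restrict P.U P.nondegU).exists_orthonormal⟩
  obtain rfl : n = 3 := hn.symm.trans h3
  set K := H.restrict P.U P.nondegU with hK
  let z : (normUnits K.σ).ker := ⟨Units.mk0 ω hω0, by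
    rw [MonoidHom.mem_ker]; refine Units.ext ?_; rw [coe_normUnits]; exact hNω⟩
  have hω3 : ω ^ 3 = 1 := by
    rw [hσω] at hNω
    linear_combination (ω - 1) * hNω + (ω - 1) * h2
  -- odd elements of `L` preserve the pairing
  have hinv : ∀ (π : Equiv.Perm (Fin 3)) (d : Fin 3 → (normUnits K.σ).ker),
      ((Equiv.Perm.sign π : ℤ) : F) * ∏ k, ((d k).1 : F) = 1 →
      (∀ k, π (π (π k)) = k ∧ ((d k).1 : F) * (d (π k)).1 * (d (π (π k))).1 = 1) →
      ∀ x y i j, P.bet hσ ((x * ((d i).1 : F)) • b (π i)) ((y * ((d j).1 : F)) • b (π j)) =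
        P.bet hσ (x • b i) (y • b j) := by
    intro π d hdet h3 x y i j
    obtain ⟨k, hk, hkd⟩ := exists_mono K b hb π d
    let k' : K.SIsom := ⟨k, by
      show k ∈ K.detHom.ker
      rw [MonoidHom.mem_ker]
      exact Units.ext (hkd.trans hdet)⟩
    set g := extSIsom H P.nondegU k' with hg
    have hgL : g ∈ P.L := by
      show g ∈ SI H P.U
      rw [← range_extSIsom H P.nondegU]; exact ⟨k', rfl⟩
    have hg3 : g ^ 3 = 1 := by
      rw [hg, ← map_pow]
      suffices h : k' ^ 3 = 1 by rw [h, map_one]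
      refine Subtype.ext (K.isom_ext fun u => LinearMap.congr_fun
        (b.ext (f₁ := (k' ^ 3).1.1.toLinearMap) (f₂ := LinearMap.id) fun l => ?_) u)
      show (k' ^ 3).1.1 (b l) = b l
      rw [show (k' ^ 3) = k' * (k' * k') from pow_succ' k' 2 |>.trans (by rw [pow_two])]
      show k.1 (k.1 (k.1 (b l))) = b l
      rw [hk, map_smul, hk, map_smul, map_smul, hk, smul_smul, smul_smul, (h3 l).1, (h3 l).2, one_smul]
    have h := P.bet_inv hσ hU hcen hgL (fun w hw R hR => by
      refine commutatorElement_eq_one_iff_mul_comm.mp (hσ.comm_eq_one ?_ ?_)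
      · rw [hR]; exact P.L_fix_commutator hU g hgL _ hw
      · rw [hR, hℓ]
        exact Nat.Coprime.of_dvd_left (orderOf_dvd_of_pow_eq_one hg3) (by norm_num)) (x • b i) (y • b j)
    rw [← h]
    congr 1
    · refine Subtype.ext ?_
      show ((x * ((d i).1 : F)) • b (π i) : P.U).1 = g.1.1 ((x • b i : P.U) : V)
      rw [hg]
      refine ((congrArg Subtype.val ?_).trans (extIsom_apply H P.nondegU k (x • b i)).symm)
      rw [map_smul, hk, smul_smul]
    · refine Subtype.ext ?_
      show ((y * ((d j).1 : F)) • b (π j) : P.U).1 = g.1.1 ((y • b j : P.U) : V)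
      rw [hg]
      refine ((congrArg Subtype.val ?_).trans (extIsom_apply H P.nondegU k (y • b j)).symm)
      rw [map_smul, hk, smul_smul]
  have hz3 : ((z.1 : F)) * z.1 * z.1 = 1 := by
    show ω * ω * ω = 1
    rw [← hω3]; ring
  have hzi : ((z⁻¹).1 : F) * (z⁻¹).1 * (z⁻¹).1 = 1 := by
    have h : z ^ 3 = 1 := Subtype.ext (Units.ext (by rw [Subgroup.coe_pow, Units.val_pow_eq_pow_val]; exact hω3))
    have h' : (z⁻¹) ^ 3 = 1 := by rw [inv_pow, h, inv_one]
    simpa [pow_succ] using congrArg (fun t => ((t : (normUnits K.σ).ker).1 : F)) h'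
  -- distinct coordinates pair trivially
  have hoff : ∀ i j, i ≠ j → ∀ x y : F, P.bet hσ (x • b i) (y • b j) = 1 := by
    intro i j hij x y
    obtain ⟨k, hki, hkj⟩ := (by decide : ∀ i j : Fin 3, ∃ k, k ≠ i ∧ k ≠ j) i j
    let d : Fin 3 → (normUnits K.σ).ker := fun l => if l = i then z else if l = k then z⁻¹ else 1
    have hd : ∀ x y : F, P.bet hσ ((x * ω) • b i) (y • b j) = P.bet hσ (x • b i) (y • b j) := by
      intro x y
      have h := hinv 1 d (by
        rw [Equiv.Perm.sign_one, Units.val_one, Int.cast_one, one_mul,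
          Finset.prod_eq_mul i k hki.symm (fun l _ hl => by simp [d, hl.1, hl.2]) (by simp) (by simp)]
        simp only [d, if_true, if_neg hki]
        rw [← Units.val_mul, ← Subgroup.coe_mul, mul_inv_cancel]; rfl)
        (fun l => ⟨rfl, by
          simp only [Equiv.Perm.coe_one, id_eq, d]
          split_ifs
          · exact hz3
          · exact hzi
          · simp⟩) x y i j
      simpa [d, z, hij.symm, hkj.symm] using h
    have hω' : ω - 1 ≠ 0 := sub_ne_zero.mpr hω1
    have h := hd (x / (ω - 1)) y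
    rw [show x / (ω - 1) * ω = x + x / (ω - 1) by field_simp; ring, add_smul, P.bet_add_left hσ hU hcen] at h
    exact mul_eq_right.mp h
  -- all coordinates give the same element
  have hcyc : ∀ i, P.bet hσ (b i) (ω • b i) = P.bet hσ (b 0) (ω • b 0) := by
    let π : Equiv.Perm (Fin 3) := finRotate 3
    have hstep : ∀ i, P.bet hσ (b (π i)) (ω • b (π i)) = P.bet hσ (b i) (ω • b i) := by
      intro i
      have hs : Equiv.Perm.sign π = 1 := by decide
      have h := hinv π (fun _ => 1) (by rw [hs]; simp)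
        (fun l => ⟨(by decide : ∀ l : Fin 3, finRotate 3 (finRotate 3 (finRotate 3 l)) = l) l, by simp⟩) 1 ω i i
      simpa using h
    intro i
    fin_cases i
    · rfl
    · exact hstep 0
    · exact (hstep 1).trans (hstep 0)
  refine P.good_Q_of_line hσ hU hcen h2 hσω (v := b 0) (show H.h ((b 0 : P.U) : V) (b 0 : P.U) = 1 from (hb 0 0).trans (if_pos rfl)) fun u w => ?_
  set D := Subgroup.zpowers (P.bet hσ (b 0) (ω • b 0))
  rw [← b.sum_repr u, ← b.sum_repr w]
  refine Finset.sum_induction _ (fun u => P.bet hσ u _ ∈ D) (fun a c ha hc => by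
    rw [P.bet_add_left hσ hU hcen]; exact mul_mem ha hc) (by rw [P.bet_zero_left hσ hU hcen]; exact one_mem D) ?_
  intro i _
  refine Finset.sum_induction _ (fun w => P.bet hσ _ w ∈ D) (fun a c ha hc => by
    rw [P.bet_add_right hσ hU hcen]; exact mul_mem ha hc) (by rw [P.bet_zero_right hσ hU hcen]; exact one_mem D) ?_
  intro j _
  rcases eq_or_ne i j with rfl | hij
  · have := P.line_mem hσ hU hcen h2 hall (b i) (b.repr u i) (b.repr w i)
    rwa [hcyc i] at this
  · rw [hoff i j hij]; exact one_mem D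

end HPair

end Cfsg.Lib.UnitMult
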