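import Cfsg.Agent.UnitMult.Ext

/-!
Extensions over semidirect products with a radical of class two.
-/

set_option autoImplicit false

namespace Cfsg.Lib.UnitMult

open scoped commutatorElement

universe u v

variable {Γ : Type u} {G : Type v} [Group Γ] [Group G] {σ : Γ →* G} {ℓ : ℕ}

theorem conj_mem_commutator {Δ : Type*} [Group Δ] {D : Subgroup Δ} {d e : Δ}
    (hd : ∀ x ∈ D, d * x * d⁻¹ ∈ D) (he : e ∈ ⁅D, D⁆) : d * e * d⁻¹ ∈ ⁅D, D⁆ := by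
  have hle : (⁅D, D⁆).map (MulAut.conj d).toMonoidHom ≤ ⁅D, D⁆ := by
    rw [Subgroup.map_commutator]
    refine Subgroup.commutator_mono ?_ ?_ <;>
    · rintro _ ⟨x, hx, rfl⟩
      exact hd x hx
  exact hle ⟨e, he, rfl⟩

theorem comap_conj {Q : Subgroup G} {r : Γ} (h : ∀ x ∈ Q, σ r * x * (σ r)⁻¹ ∈ Q) :
    ∀ x ∈ Q.comap σ, r * x * r⁻¹ ∈ Q.comap σ := fun x hx => by
  show σ _ ∈ Q
  rw [map_mul, map_mul, map_inv]
  exact h _ hx

theorem self_conj (Q : Subgroup G) {g : G} (hg : g ∈ Q) : ∀ x ∈ Q, g * x * g⁻¹ ∈ Q :=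
  fun _ hx => mul_mem (mul_mem hg hx) (inv_mem hg)

/-- Splitting over a product from an invariant complement of the kernel over the normal factor. -/
theorem good_semidirect [Finite Γ] (hσ : Cen ℓ σ) {Q R : Subgroup G} {D : Subgroup Γ} (hQR : ∀ x ∈ Q, x ∈ R → x = 1)
    (hR : Good σ R) (hDQ : D ≤ Q.comap σ) (hsurj : Q ≤ D.map σ) (hDA : ∀ x ∈ D, σ x = 1 → x = 1)
    (hnorm : ∀ r : Γ, σ r ∈ R → ∀ x ∈ D, r * x * r⁻¹ ∈ D) : Good σ (Q ⊔ R) := by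
  set S := R.comap σ with hS
  let N : Subgroup Γ :=
    { carrier := {z | ∃ x ∈ D, ∃ y ∈ ⁅S, S⁆, z = x * y}
      mul_mem' := by
        rintro _ _ ⟨x, hx, y, hy, rfl⟩ ⟨x', hx', y', hy', rfl⟩
        refine ⟨x * (y * x' * y⁻¹), mul_mem hx (hnorm y (Subgroup.commutator_le_self S hy) x' hx'), y * y',
          mul_mem hy hy', by group⟩
      one_mem' := ⟨1, one_mem _, 1, one_mem _, (one_mul 1).symm⟩
      inv_mem' := by
        rintro _ ⟨x, hx, y, hy, rfl⟩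
        exact ⟨y⁻¹ * x⁻¹ * y⁻¹⁻¹, hnorm y⁻¹ (inv_mem (Subgroup.commutator_le_self S hy)) _ (inv_mem hx), y⁻¹,
          inv_mem hy, by group⟩ }
  refine good_of_forall fun z hz h1 => ?_
  -- the preimage is `D · S`
  have hdec : (Q ⊔ R).comap σ ≤ D ⊔ S := by
    rw [← Subgroup.comap_sup_eq σ Q R hσ.surj]
    refine sup_le (fun x hx => ?_) le_sup_right
    obtain ⟨d, hd, he⟩ := hsurj hx
    rw [show x = d * (d⁻¹ * x) by group]
    exact Subgroup.mul_mem_sup hd (show σ _ ∈ R by rw [map_mul, map_inv, he, inv_mul_cancel]; exact one_mem R)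
  have hzN : z ∈ N := by
    refine ((Subgroup.commutator_mono hdec hdec).trans ?_) hz
    rw [← Subgroup.closure_eq D, ← Subgroup.closure_eq S, ← Subgroup.closure_union]
    refine Cfsg.Lib.Schur.commutator_closure_le ?_ ?_
    · rintro t (ht | ht) _ ⟨x, hx, y, hy, rfl⟩
      · refine ⟨t * x * (y * t⁻¹ * y⁻¹), mul_mem (mul_mem ht hx) (hnorm y (Subgroup.commutator_le_self S hy) _
          (inv_mem ht)), y, hy, by group⟩
      · exact ⟨t * x * t⁻¹, hnorm t ht x hx, t * y * t⁻¹, conj_mem_commutator (fun a ha =>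
          mul_mem (mul_mem ht ha) (inv_mem ht)) hy, by group⟩
    · rintro t (ht | ht) u (hu | hu)
      · exact ⟨_, mul_mem (mul_mem (mul_mem ht hu) (inv_mem ht)) (inv_mem hu), 1, one_mem _, (mul_one _).symm⟩
      · exact ⟨t * (u * t⁻¹ * u⁻¹), mul_mem ht (hnorm u hu _ (inv_mem ht)), 1, one_mem _, by
          rw [commutatorElement_def, mul_one]; group⟩
      · exact ⟨t * u * t⁻¹ * u⁻¹, mul_mem (hnorm t ht u hu) (inv_mem hu), 1, one_mem _, by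
          rw [commutatorElement_def, mul_one]⟩
      · exact ⟨1, one_mem _, _, Subgroup.commutator_mem_commutator ht hu, (one_mul _).symm⟩
  obtain ⟨x, hx, y, hy, rfl⟩ := hzN
  have hx1 : σ x = 1 := by
    refine hQR _ (hDQ hx) ?_
    rw [map_mul] at h1
    rw [eq_inv_of_mul_eq_one_left h1]
    exact inv_mem (Subgroup.commutator_le_self S hy)
  have hy1 : σ y = 1 := by rw [map_mul, hx1, one_mul] at h1; exact h1
  rw [hDA x hx hx1, hR.eq_one hy1 hy, one_mul]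

/-- An element of `G` acting on `Q` fixed-point-freely modulo the commutator subgroup. -/
structure Fpf (Q : Subgroup G) (t : G) : Prop where
  norm : ∀ x ∈ Q, t * x * t⁻¹ ∈ Q
  inj : ∀ x ∈ Q, ⁅t, x⁆ ∈ ⁅Q, Q⁆ → x ∈ ⁅Q, Q⁆
  surj : ∀ x ∈ Q, ∃ y ∈ Q, ⁅t, y⁆⁻¹ * x ∈ ⁅Q, Q⁆

variable {Q : Subgroup G} {T : Γ}

theorem comm_mem_comap (hT : ∀ x ∈ Q, σ T * x * (σ T)⁻¹ ∈ Q) {x : Γ} (hx : x ∈ Q.comap σ) :
    ⁅T, x⁆ ∈ Q.comap σ := by
  rw [commutatorElement_def]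
  exact mul_mem (comap_conj hT x hx) (inv_mem hx)

theorem comm_congr_mod {D : Subgroup Γ} {x a : Γ} (hx : x ∈ D) (ha : a ∈ D) :
    ∃ c ∈ ⁅D, D⁆, x * a * x⁻¹ = c * a :=
  ⟨⁅x, a⁆, Subgroup.commutator_mem_commutator hx ha, by rw [commutatorElement_def]; group⟩

/-- The image of `x ↦ ⁅T, x⁆` on the preimage of `Q`, modulo commutators. -/
def radComp (σ : Γ →* G) (Q : Subgroup G) (T : Γ) (hT : ∀ x ∈ Q, σ T * x * (σ T)⁻¹ ∈ Q) : Subgroup Γ where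
  carrier := {z | ∃ x ∈ Q.comap σ, ∃ c ∈ ⁅Q.comap σ, Q.comap σ⁆, z = ⁅T, x⁆ * c}
  mul_mem' := by
    rintro _ _ ⟨x, hx, c, hc, rfl⟩ ⟨y, hy, d, hd, rfl⟩
    have hTy := comm_mem_comap hT hy
    obtain ⟨e, he, hxy⟩ := comm_congr_mod hx hTy
    have hcc : ∀ u ∈ Q.comap σ, ∀ f ∈ ⁅Q.comap σ, Q.comap σ⁆, u * f * u⁻¹ ∈ ⁅Q.comap σ, Q.comap σ⁆ :=
      fun u hu f hf => conj_mem_commutator (fun a ha => mul_mem (mul_mem hu ha) (inv_mem hu)) hf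
    refine ⟨x * y, mul_mem hx hy, ⁅T, y⁆⁻¹ * (e⁻¹ * c) * ⁅T, y⁆ * d, mul_mem ?_ hd, ?_⟩
    · have := hcc ⁅T, y⁆⁻¹ (inv_mem hTy) _ (mul_mem (inv_mem he) hc)
      rwa [inv_inv] at this
    · rw [show ⁅T, x * y⁆ = ⁅T, x⁆ * (x * ⁅T, y⁆ * x⁻¹) by simp only [commutatorElement_def]; group, hxy]
      group
  one_mem' := ⟨1, one_mem _, 1, one_mem _, by rw [commutatorElement_one_right, mul_one]⟩
  inv_mem' := by
    rintro _ ⟨x, hx, c, hc, rfl⟩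
    have hTx := comm_mem_comap hT hx
    have hcc : ∀ u ∈ Q.comap σ, ∀ f ∈ ⁅Q.comap σ, Q.comap σ⁆, u * f * u⁻¹ ∈ ⁅Q.comap σ, Q.comap σ⁆ :=
      fun u hu f hf => conj_mem_commutator (fun a ha => mul_mem (mul_mem hu ha) (inv_mem hu)) hf
    obtain ⟨e, he, hxe⟩ := comm_congr_mod hx (comm_mem_comap hT (inv_mem hx))
    -- `⁅T, x⁻¹⁆` is the inverse of `⁅T, x⁆` modulo commutators
    have h1 : ⁅T, x⁆ * (e * ⁅T, x⁻¹⁆) = 1 := by
      rw [← hxe]; simp only [commutatorElement_def]; group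
    have h2 : ⁅T, x⁆⁻¹ = e * ⁅T, x⁻¹⁆ := (eq_inv_of_mul_eq_one_right h1).symm
    refine ⟨x⁻¹, inv_mem hx, ⁅T, x⁻¹⁆⁻¹ * (c⁻¹ * e) * ⁅T, x⁻¹⁆, ?_, ?_⟩
    · have := hcc ⁅T, x⁻¹⁆⁻¹ (inv_mem (comm_mem_comap hT (inv_mem hx))) _ (mul_mem (inv_mem hc) he)
      rwa [inv_inv] at this
    · rw [mul_inv_rev, h2]; group

variable (hT : ∀ x ∈ Q, σ T * x * (σ T)⁻¹ ∈ Q)

theorem mem_radComp {z : Γ} : z ∈ radComp σ Q T hT ↔
    ∃ x ∈ Q.comap σ, ∃ c ∈ ⁅Q.comap σ, Q.comap σ⁆, z = ⁅T, x⁆ * c := Iff.rfl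

theorem radComp_le : radComp σ Q T hT ≤ Q.comap σ := by
  rintro _ ⟨x, hx, c, hc, rfl⟩
  exact mul_mem (comm_mem_comap hT hx) (Subgroup.commutator_le_self _ hc)

theorem map_comap_commutator (hσ : Cen ℓ σ) : (⁅Q.comap σ, Q.comap σ⁆).map σ = ⁅Q, Q⁆ := by
  rw [Subgroup.map_commutator, Subgroup.map_comap_eq_self_of_surjective hσ.surj]

theorem radComp_disjoint (hσ : Cen ℓ σ) (hQ : Good σ Q) (hfp : Fpf Q (σ T)) :
    ∀ z ∈ radComp σ Q T hT, σ z = 1 → z = 1 := by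
  rintro _ ⟨x, hx, c, hc, rfl⟩ h1
  have hcG : σ c ∈ ⁅Q, Q⁆ := map_comap_commutator (Q := Q) hσ ▸ ⟨c, hc, rfl⟩
  have hTx : ⁅σ T, σ x⁆ ∈ ⁅Q, Q⁆ := by
    rw [map_mul, map_commutatorElement] at h1
    rw [eq_inv_of_mul_eq_one_left h1]
    exact inv_mem hcG
  have hxQ := hfp.inj _ hx hTx
  rw [← map_comap_commutator (Q := Q) hσ] at hxQ
  obtain ⟨d, hd, hde⟩ := hxQ
  have hTd : ⁅T, d⁆ ∈ ⁅Q.comap σ, Q.comap σ⁆ := by
    rw [commutatorElement_def]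
    exact mul_mem (conj_mem_commutator (comap_conj hT) hd) (inv_mem hd)
  refine hQ.eq_one h1 ?_
  rw [Cfsg.Lib.Schur.comm_congr σ hσ.central (g := T) (g' := T) (h := x) (h' := d) rfl hde.symm]
  exact mul_mem hTd hc

theorem radComp_surj (hσ : Cen ℓ σ) (hfp : Fpf Q (σ T)) : Q ≤ (radComp σ Q T hT).map σ := by
  intro x hx
  obtain ⟨y, hy, hc⟩ := hfp.surj x hx
  obtain ⟨Y, rfl⟩ := hσ.surj y
  rw [← map_comap_commutator (Q := Q) hσ] at hc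
  obtain ⟨c, hc', hce⟩ := hc
  exact ⟨⁅T, Y⁆ * c, ⟨Y, hy, c, hc', rfl⟩, by rw [map_mul, map_commutatorElement, hce, mul_inv_cancel_left]⟩

theorem radComp_conj (hσ : Cen ℓ σ) {r : Γ} (hr : ∀ x ∈ Q, σ r * x * (σ r)⁻¹ ∈ Q)
    (hc : σ r * σ T = σ T * σ r) : ∀ z ∈ radComp σ Q T hT, r * z * r⁻¹ ∈ radComp σ Q T hT := by
  rintro _ ⟨x, hx, c, hc', rfl⟩
  refine ⟨r * x * r⁻¹, comap_conj hr x hx, r * c * r⁻¹, conj_mem_commutator (comap_conj hr) hc', ?_⟩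
  have e : σ T = σ (r * T * r⁻¹) := by rw [map_mul, map_mul, map_inv, hc, mul_inv_cancel_right]
  rw [Cfsg.Lib.Schur.comm_congr σ hσ.central (g := T) (g' := r * T * r⁻¹) (h := r * x * r⁻¹) (h' := r * x * r⁻¹)
    e rfl]
  simp only [commutatorElement_def]
  group

/-- Commuting fixed-point-free elements define the same complement. -/
theorem radComp_eq (hσ : Cen ℓ σ) {T' : Γ} (hT' : ∀ x ∈ Q, σ T' * x * (σ T')⁻¹ ∈ Q)
    (hfp : Fpf Q (σ T)) (hfp' : Fpf Q (σ T')) (hc : σ T' * σ T = σ T * σ T') :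
    radComp σ Q T hT = radComp σ Q T' hT' := by
  have main : ∀ (A B : Γ) (hA : ∀ x ∈ Q, σ A * x * (σ A)⁻¹ ∈ Q) (hB : ∀ x ∈ Q, σ B * x * (σ B)⁻¹ ∈ Q),
      Fpf Q (σ A) → σ B * σ A = σ A * σ B → radComp σ Q B hB ≤ radComp σ Q A hA := by
    intro A B hA hB hfA hBA
    rintro _ ⟨x, hx, c, hc', rfl⟩
    obtain ⟨d, hd, hde⟩ := radComp_surj hA hσ hfA (show σ x ∈ Q from hx)
    rw [Cfsg.Lib.Schur.comm_congr σ hσ.central (g := B) (g' := B) (h := x) (h' := d) rfl hde.symm]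
    refine mul_mem ?_ ⟨1, one_mem _, c, hc', by rw [commutatorElement_one_right, one_mul]⟩
    rw [commutatorElement_def]
    exact mul_mem (radComp_conj hA hσ hB hBA d hd) (inv_mem hd)
  exact le_antisymm (main T' T hT' hT hfp' hc.symm) (main T T' hT hT' hfp hc)

/-- Splitting with a central fixed-point-free element. -/
theorem good_of_fpf [Finite Γ] (hσ : Cen ℓ σ) {R : Subgroup G} (hQ : Good σ Q) (hR : Good σ R)
    (hQR : ∀ x ∈ Q, x ∈ R → x = 1) (hnQ : ∀ r ∈ R, ∀ x ∈ Q, r * x * r⁻¹ ∈ Q) {t : G} (hfp : Fpf Q t)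
    (hc : ∀ r ∈ R, r * t = t * r) : Good σ (Q ⊔ R) := by
  obtain ⟨T, rfl⟩ := hσ.surj t
  exact good_semidirect hσ hQR hR (radComp_le hfp.norm) (radComp_surj hfp.norm hσ hfp)
    (radComp_disjoint hfp.norm hσ hQ hfp) fun r hr => radComp_conj hfp.norm hσ (hnQ _ hr) (hc _ hr)

end Cfsg.Lib.UnitMult
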