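import Cfsg.Agent.UnitMult.Coord
import Cfsg.Agent.UnitMult.Radical
import Cfsg.Agent.Classical.Unitary.Root

/-!
The radical of the stabiliser of an isotropic point in the special unitary group.
-/

set_option autoImplicit false

namespace Cfsg.Lib.UnitMult

open Cfsg.Lib.Classical
open scoped commutatorElement

universe u v w

variable {F : Type v} [Field F] [Finite F] {V : Type w} [AddCommGroup V] [Module F V] [FiniteDimensional F V]
  (H : HermSpace F V)

/-- A hyperbolic pair. -/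
structure HPair where
  e : V
  f : V
  he : H.h e e = 0
  hf : H.h f f = 0
  hef : H.h e f = 1

variable {H} (P : HPair H)

namespace HPair

theorem hfe : H.h P.f P.e = 1 := by rw [H.symm, P.hef, map_one]

/-- The hyperbolic plane. -/
def W : Submodule F V := Submodule.span F {P.e, P.f}

/-- Its orthogonal. -/
def U : Submodule F V := H.orth P.W

theorem nondegW : H.NondegOn P.W := H.nondegOn_hyperbolic P.he P.hef

theorem nondegU : H.NondegOn P.U := H.nondegOn_orth P.nondegW

theorem finrank_U : Module.finrank F P.U = Module.finrank F V - 2 := by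
  rw [U, H.finrank_orth]
  unfold W
  rw [H.finrank_hyperbolic P.he P.hef]

theorem mem_U {x : V} : x ∈ P.U ↔ H.h x P.e = 0 ∧ H.h x P.f = 0 := by
  rw [U, W, H.mem_orth_span]
  simp

theorem U_e (w : P.U) : H.h (w : V) P.e = 0 := (P.mem_U.mp w.2).1

theorem U_f (w : P.U) : H.h (w : V) P.f = 0 := (P.mem_U.mp w.2).2

theorem orth_U : H.orth P.U = P.W := H.orth_orth P.W

theorem e_mem_W : P.e ∈ P.W := Submodule.subset_span (by simp)

theorem f_mem_W : P.f ∈ P.W := Submodule.subset_span (by simp)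

/-- Parameters of the radical. -/
structure Par where
  w : P.U
  a : F
  cond : a + H.σ a = -H.h (w : V) w

theorem Par.ext' {p p' : P.Par} (h1 : (p.w : V) = p'.w) (h2 : p.a = p'.a) : p = p' := by
  obtain ⟨w, a, c⟩ := p
  obtain ⟨w', a', c'⟩ := p'
  obtain rfl : w = w' := Subtype.ext h1
  obtain rfl : a = a' := h2
  rfl

/-- The Siegel element of given parameters. -/
noncomputable def sg (p : P.Par) : H.SIsom :=
  ⟨H.siegel P.he (P.U_e p.w) p.cond, H.siegel_mem_SIsom P.he (P.U_e p.w) p.cond⟩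

theorem sg_apply (p : P.Par) (x : V) :
    (P.sg p).1.1 x = x + H.h x P.e • (p.w : V) + (p.a * H.h x P.e - H.h x p.w) • P.e :=
  H.siegel_apply P.he (P.U_e p.w) p.cond x

theorem sg_f (p : P.Par) : (P.sg p).1.1 P.f = P.f + (p.w : V) + p.a • P.e := by
  rw [sg_apply, P.hfe, H.eq_zero_symm (P.U_f p.w)]
  module

theorem sg_injective : Function.Injective P.sg := by
  intro p p' h
  have h1 : (P.sg p).1.1 P.f = (P.sg p').1.1 P.f := by rw [h]
  rw [sg_f, sg_f, add_assoc, add_assoc, add_right_inj] at h1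
  have h2 := congrArg (fun x => H.h x P.f) h1
  simp only [H.add_left, H.smul_left, P.U_f, P.hef, zero_add, mul_one] at h2
  rw [h2, add_left_inj] at h1
  exact Par.ext' P h1 h2

/-- The product of parameters. -/
def pmul (p p' : P.Par) : P.Par :=
  ⟨p.w + p'.w, p.a + p'.a - H.h (p'.w : V) p.w, by
    simp only [Submodule.coe_add, H.add_left, H.add_right, map_sub, map_add, ← H.symm]
    linear_combination p.cond + p'.cond⟩

theorem sg_mul (p p' : P.Par) : P.sg p * P.sg p' = P.sg (P.pmul p p') :=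
  Subtype.ext (H.siegel_mul P.he (P.U_e p.w) (P.U_e p'.w) p.cond p'.cond
    (by rw [H.add_left, P.U_e, P.U_e, add_zero]) (P.pmul p p').cond rfl)

/-- The central parameters. -/
def zpar (c : F) (hc : c + H.σ c = 0) : P.Par := ⟨0, c, by rw [hc]; simp [H.zero_left]⟩

theorem sg_zero : P.sg (P.zpar 0 (by simp)) = 1 := Subtype.ext (H.isom_ext fun x => by
  rw [sg_apply]
  show x + H.h x P.e • (0 : V) + (0 * H.h x P.e - H.h x (0 : V)) • P.e = x
  rw [H.zero_right]; simp)

/-- The inverse parameters. -/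
def pinv (p : P.Par) : P.Par :=
  ⟨-p.w, H.σ p.a, by
    simp only [Submodule.coe_neg, H.neg_left, H.neg_right, neg_neg, H.conj.invol]
    linear_combination p.cond⟩

theorem sg_inv (p : P.Par) : (P.sg p)⁻¹ = P.sg (P.pinv p) := by
  refine inv_eq_of_mul_eq_one_right ?_
  rw [sg_mul, ← P.sg_zero]
  refine congrArg P.sg (Par.ext' P ?_ ?_)
  · simp [pmul, pinv, zpar]
  · show p.a + H.σ p.a - H.h ((-p.w : P.U) : V) p.w = 0
    rw [Submodule.coe_neg, H.neg_left]
    linear_combination p.cond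

/-- The radical. -/
noncomputable def Q : Subgroup H.SIsom where
  carrier := Set.range P.sg
  mul_mem' := by rintro _ _ ⟨p, rfl⟩ ⟨p', rfl⟩; exact ⟨_, (P.sg_mul p p').symm⟩
  one_mem' := ⟨_, P.sg_zero⟩
  inv_mem' := by rintro _ ⟨p, rfl⟩; exact ⟨_, (P.sg_inv p).symm⟩

theorem sg_mem (p : P.Par) : P.sg p ∈ P.Q := ⟨p, rfl⟩

theorem exists_theta : ∃ θ : F, θ + H.σ θ = 1 := H.conj.exists_trace_one

/-- A fixed element of trace one. -/
noncomputable def theta : F := (exists_theta (H := H)).choose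

theorem theta_spec : theta (H := H) + H.σ (theta (H := H)) = 1 := (exists_theta (H := H)).choose_spec

/-- A section of the projection to `U`. -/
noncomputable def wpar (w : P.U) : P.Par :=
  ⟨w, -(theta (H := H) * H.h (w : V) w), by
    simp only [map_neg, map_mul, H.self_fixed]
    linear_combination (-H.h (w : V) w) * theta_spec (H := H)⟩

theorem comm_sg (p p' : P.Par) :
    ⁅P.sg p, P.sg p'⁆ = P.sg (P.zpar (H.h (p.w : V) p'.w - H.h (p'.w : V) p.w) (by
      simp only [map_sub, ← H.symm]; ring)) := by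
  rw [commutatorElement_def, sg_inv, sg_inv, sg_mul, sg_mul, sg_mul]
  refine congrArg P.sg (Par.ext' P ?_ ?_)
  · simp only [pmul, pinv, zpar, Submodule.coe_add, Submodule.coe_neg, Submodule.coe_zero]
    module
  · simp only [pmul, pinv, zpar, Submodule.coe_add, Submodule.coe_neg, H.add_left, H.add_right, H.neg_left,
      H.neg_right]
    linear_combination p.cond + p'.cond

theorem card_skew : Nat.card {c : F // c + H.σ c = 0} = H.q := by
  obtain ⟨c₀, hc₀, hc₀'⟩ := H.conj.exists_skew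
  refine Nat.card_congr
    { toFun := fun c => ⟨c.1 / c₀, by
        rw [mem_fixedField, map_div₀, eq_neg_of_add_eq_zero_right c.2, eq_neg_of_add_eq_zero_right hc₀', neg_div_neg_eq]⟩
      invFun := fun x => ⟨(x : F) * c₀, by
        rw [map_mul, show H.σ (x : F) = x from x.2]; linear_combination (x : F) * hc₀'⟩
      left_inv := fun c => Subtype.ext (div_mul_cancel₀ _ hc₀)
      right_inv := fun x => Subtype.ext (mul_div_cancel_right₀ _ hc₀) }

theorem card_Q : Nat.card P.Q = H.q ^ (2 * Module.finrank F P.U + 1) := by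
  let e : P.Par ≃ P.U × {c : F // c + H.σ c = 0} :=
    { toFun := fun p => (p.w, ⟨p.a + theta (H := H) * H.h (p.w : V) p.w, by
        rw [map_add, map_mul, H.self_fixed]
        linear_combination p.cond + H.h (p.w : V) p.w * theta_spec (H := H)⟩)
      invFun := fun x => ⟨x.1, (P.wpar x.1).a + x.2.1, by
        have h : (P.wpar x.1).a + H.σ (P.wpar x.1).a = -H.h (x.1 : V) x.1 := (P.wpar x.1).cond
        rw [map_add]; linear_combination h + x.2.2⟩
      left_inv := fun p => Par.ext' P rfl (by simp [wpar])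
      right_inv := fun x => Prod.ext rfl (Subtype.ext (by simp [wpar])) }
  rw [show Nat.card P.Q = Nat.card (Set.range P.sg) from rfl, Nat.card_range_of_injective P.sg_injective,
    Nat.card_congr e, Nat.card_prod, card_skew, Module.natCard_eq_pow_finrank (K := F), H.card_field, ← pow_mul,
    ← pow_succ]

theorem zpar_mem_commutator (hU : 0 < Module.finrank F P.U) (c : F) (hc : c + H.σ c = 0) :
    P.sg (P.zpar c hc) ∈ ⁅P.Q, P.Q⁆ := by
  haveI : Nontrivial P.U := Module.nontrivial_of_finrank_pos hU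
  obtain ⟨w, hw⟩ := (H.restrict P.U P.nondegU).exists_norm_one
  have hw' : H.h (w : V) w = 1 := hw
  have h1 := P.comm_sg (P.wpar ((theta (H := H) * c) • w)) (P.wpar w)
  have h2 : ⁅P.sg (P.wpar ((theta (H := H) * c) • w)), P.sg (P.wpar w)⁆ = P.sg (P.zpar c hc) :=
    h1.trans (congrArg P.sg (Par.ext' P rfl ?_))
  · rw [← h2]
    exact Subgroup.commutator_mem_commutator (P.sg_mem _) (P.sg_mem _)
  symm
  show c = H.h (((theta (H := H) * c) • w : P.U) : V) w - H.h (w : V) (((theta (H := H) * c) • w : P.U) : V)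
  rw [Submodule.coe_smul, H.smul_left, H.smul_right, hw', map_mul]
  linear_combination (-c) * theta_spec (H := H) + (H.σ (theta (H := H))) * hc

theorem commutator_Q (hU : 0 < Module.finrank F P.U) {g : H.SIsom} :
    g ∈ ⁅P.Q, P.Q⁆ ↔ ∃ c, ∃ hc : c + H.σ c = 0, g = P.sg (P.zpar c hc) := by
  refine ⟨fun hg => ?_, ?_⟩
  · let Z : Subgroup H.SIsom :=
      { carrier := {g | ∃ c, ∃ hc : c + H.σ c = 0, g = P.sg (P.zpar c hc)}
        mul_mem' := by
          rintro _ _ ⟨c, hc, rfl⟩ ⟨c', hc', rfl⟩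
          refine ⟨c + c', by rw [map_add]; linear_combination hc + hc', ?_⟩
          rw [sg_mul]
          exact congrArg P.sg (Par.ext' P (by simp [pmul, zpar]) (by simp [pmul, zpar, H.zero_left]))
        one_mem' := ⟨0, by simp, P.sg_zero.symm⟩
        inv_mem' := by
          rintro _ ⟨c, hc, rfl⟩
          refine ⟨H.σ c, by rw [H.conj.invol]; linear_combination hc, ?_⟩
          rw [sg_inv]
          exact congrArg P.sg (Par.ext' P (by simp [pinv, zpar]) rfl) }
    have hle : ⁅P.Q, P.Q⁆ ≤ Z := by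
      rw [Subgroup.commutator_le]
      rintro _ ⟨p, rfl⟩ _ ⟨p', rfl⟩
      exact ⟨_, _, P.comm_sg p p'⟩
    exact hle hg
  · rintro ⟨c, hc, rfl⟩
    exact P.zpar_mem_commutator hU c hc

theorem sg_mem_commutator_iff (hU : 0 < Module.finrank F P.U) {p : P.Par} :
    P.sg p ∈ ⁅P.Q, P.Q⁆ ↔ p.w = 0 := by
  rw [P.commutator_Q hU]
  refine ⟨fun ⟨c, hc, he⟩ => by rw [P.sg_injective he]; rfl, fun h => ?_⟩
  refine ⟨p.a, ?_, congrArg P.sg (Par.ext' P (by rw [h]; rfl) rfl)⟩
  rw [p.cond, h, Submodule.coe_zero, H.zero_left, neg_zero]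

/-- How an element of the stabiliser of both points acts on the radical. -/
theorem conj_sg (g : H.SIsom) {d : F} (hge : g.1.1 P.e = d • P.e) (p : P.Par) (hw : H.σ d • g.1.1 p.w ∈ P.U) :
    g * P.sg p * g⁻¹ = P.sg ⟨⟨H.σ d • g.1.1 p.w, hw⟩, d * H.σ d * p.a, by
      simp only [map_mul, H.conj.invol, H.smul_left, H.smul_right, H.map_form]
      linear_combination (d * H.σ d) * p.cond⟩ := by
  refine Subtype.ext (H.isom_ext fun x => ?_)
  show (g.1 * (P.sg p).1 * (g⁻¹).1).1 x = _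
  rw [H.mul_apply', H.mul_apply', sg_apply, sg_apply]
  simp only [map_add, map_smul]
  rw [hge, show g.1.1 ((g⁻¹).1.1 x) = x from H.apply_inv_self g.1 x]
  have h1 : H.h ((g⁻¹).1.1 x) P.e = H.σ d * H.h x P.e := by
    conv_lhs => rw [← H.map_form g.1, show g.1.1 ((g⁻¹).1.1 x) = x from H.apply_inv_self g.1 x, hge, H.smul_right]
  have h2 : H.h ((g⁻¹).1.1 x) (p.w : V) = H.h x (g.1.1 p.w) := by
    conv_lhs => rw [← H.map_form g.1, show g.1.1 ((g⁻¹).1.1 x) = x from H.apply_inv_self g.1 x]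
  rw [h1, h2, H.smul_right, H.conj.invol, smul_smul, smul_smul]
  congr 2 <;> ring

/-- Elements fixing the plane pointwise. -/
noncomputable def L : Subgroup H.SIsom := SI H P.U

theorem L_e {g : H.SIsom} (hg : g ∈ P.L) : g.1.1 P.e = P.e :=
  hg _ (by rw [P.orth_U]; exact P.e_mem_W)

theorem L_U {g : H.SIsom} (hg : g ∈ P.L) {x : V} (hx : x ∈ P.U) : g.1.1 x ∈ P.U := SI_maps H hg hx

/-- Multiply the vector part by an element of `L`. -/
def actL (g : H.SIsom) (hg : g ∈ P.L) (p : P.Par) : P.Par :=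
  ⟨⟨g.1.1 p.w, P.L_U hg p.w.2⟩, p.a, by rw [p.cond]; exact congrArg Neg.neg (H.map_form _ _ _).symm⟩

theorem L_conj_sg {g : H.SIsom} (hg : g ∈ P.L) (p : P.Par) : g * P.sg p * g⁻¹ = P.sg (P.actL g hg p) := by
  rw [P.conj_sg g (d := 1) (by rw [one_smul]; exact P.L_e hg) p (by rw [map_one, one_smul]; exact P.L_U hg p.w.2)]
  exact congrArg P.sg (Par.ext' P (by simp [actL]) (by simp [actL]))

theorem L_normalises : ∀ r ∈ P.L, ∀ x ∈ P.Q, r * x * r⁻¹ ∈ P.Q := by
  rintro r hr _ ⟨p, rfl⟩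
  exact ⟨_, (P.L_conj_sg hr p).symm⟩

theorem Q_disjoint_L : ∀ x ∈ P.Q, x ∈ P.L → x = 1 := by
  rintro _ ⟨p, rfl⟩ hL
  have h1 : (P.sg p).1.1 P.f = P.f := hL _ (by rw [P.orth_U]; exact P.f_mem_W)
  rw [← P.sg_zero]
  refine congrArg P.sg (P.sg_injective (P.sg_zero.trans ?_)).symm
  refine Subtype.ext (H.isom_ext fun x => ?_)
  rw [sg_apply]
  rw [sg_f, add_assoc, add_eq_left] at h1
  have h2 := congrArg (fun x => H.h x P.f) h1
  simp only [H.add_left, H.smul_left, P.U_f, P.hef, zero_add, mul_one, H.zero_left] at h2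
  rw [h2, zero_smul, add_zero] at h1
  rw [h1, h2, H.zero_right]
  simp

theorem card_QL : Nat.card ↥(P.Q ⊔ P.L) = Nat.card P.Q * Nat.card P.L := by
  let S : Subgroup H.SIsom :=
    { carrier := {z | ∃ x ∈ P.Q, ∃ y ∈ P.L, z = x * y}
      mul_mem' := by
        rintro _ _ ⟨x, hx, y, hy, rfl⟩ ⟨x', hx', y', hy', rfl⟩
        exact ⟨x * (y * x' * y⁻¹), mul_mem hx (P.L_normalises y hy x' hx'), y * y', mul_mem hy hy', by group⟩
      one_mem' := ⟨1, one_mem _, 1, one_mem _, (one_mul 1).symm⟩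
      inv_mem' := by
        rintro _ ⟨x, hx, y, hy, rfl⟩
        exact ⟨y⁻¹ * x⁻¹ * y⁻¹⁻¹, P.L_normalises y⁻¹ (inv_mem hy) _ (inv_mem hx), y⁻¹, inv_mem hy, by group⟩ }
  have hS : P.Q ⊔ P.L = S := le_antisymm
    (sup_le (fun x hx => ⟨x, hx, 1, one_mem _, (mul_one x).symm⟩) fun y hy => ⟨1, one_mem _, y, hy, (one_mul y).symm⟩)
    (by rintro _ ⟨x, hx, y, hy, rfl⟩; exact Subgroup.mul_mem_sup hx hy)
  rw [hS, ← Nat.card_prod]
  refine (Nat.card_congr (Equiv.ofBijective (fun p : P.Q × P.L => (⟨p.1.1 * p.2.1, p.1.1, p.1.2, p.2.1, p.2.2, rfl⟩ : S))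
    ⟨fun a b h => ?_, fun z => ?_⟩)).symm
  · have h' : a.1.1 * a.2.1 = b.1.1 * b.2.1 := congrArg Subtype.val h
    have e1 : b.1.1⁻¹ * a.1.1 = 1 := P.Q_disjoint_L _ (mul_mem (inv_mem b.1.2) a.1.2) (by
      rw [show b.1.1⁻¹ * a.1.1 = b.2.1 * a.2.1⁻¹ by
        rw [eq_mul_inv_iff_mul_eq, mul_assoc, h', inv_mul_cancel_left]]
      exact mul_mem b.2.2 (inv_mem a.2.2))
    rw [inv_mul_eq_one] at e1
    rw [e1, mul_right_inj] at h'
    exact Prod.ext (Subtype.ext e1.symm) (Subtype.ext h')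
  · obtain ⟨x, hx, y, hy, e⟩ := z.2
    exact ⟨(⟨x, hx⟩, ⟨y, hy⟩), Subtype.ext e.symm⟩

theorem exists_torus (P : HPair H) {d : F} (hd : d ≠ 0) : ∃ g : H.Isom, g.1 P.e = d • P.e ∧
    g.1 P.f = (H.σ d)⁻¹ • P.f ∧ (∀ x ∈ P.U, g.1 x = x) ∧ (H.detHom g : F) = d * (H.σ d)⁻¹ := by
  have hσd : H.σ d ≠ 0 := (map_ne_zero _).mpr hd
  set d' := (H.σ d)⁻¹ with hd'
  have hd'0 : d' ≠ 0 := inv_ne_zero hσd
  have hab : d * H.σ d' = 1 := by rw [hd', map_inv₀, H.conj.invol, mul_inv_cancel₀ hd]
  have hba : d' * H.σ d = 1 := inv_mul_cancel₀ hσd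
  have he := P.he
  have hf := P.hf
  have hef := P.hef
  have hfe := P.hfe
  let A := LinearEquiv.dilatransvection (f := (d - 1) • H.lin P.f) (v := P.e)
    (by simp [HermSpace.lin_apply, hef, hd])
  let B := LinearEquiv.dilatransvection (f := (d' - 1) • H.lin P.e) (v := P.f)
    (by simp [HermSpace.lin_apply, hfe, hd'0])
  have happ : ∀ x, (A * B) x = x + ((d - 1) * H.h x P.f) • P.e + ((d' - 1) * H.h x P.e) • P.f := fun x => by
    simp only [A, B, LinearEquiv.mul_apply, LinearEquiv.dilatransvection.apply, LinearMap.smul_apply,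
      HermSpace.lin_apply, smul_eq_mul, H.add_left, H.smul_left, hf, mul_zero, add_zero]
    module
  refine ⟨⟨A * B, fun x y => ?_⟩, ?_, ?_, fun x hx => ?_, ?_⟩
  · rw [happ, happ]
    simp only [H.add_left, H.add_right, H.smul_left, H.smul_right, he, hf, hef, hfe, map_mul, map_sub,
      map_one, ← H.symm P.e y, ← H.symm P.f y]
    linear_combination (H.h x P.f * H.h P.e y) * hab + (H.h x P.e * H.h P.f y) * hba
  · change (A * B) P.e = _
    rw [happ, hef, he]; module
  · change (A * B) P.f = _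
    rw [happ, hf, hfe]; module
  · change (A * B) x = _
    rw [happ, (P.mem_U.mp hx).1, (P.mem_U.mp hx).2]; module
  · change ((LinearEquiv.det (A * B) : Fˣ) : F) = _
    rw [map_mul, Units.val_mul, LinearEquiv.coe_det, LinearEquiv.coe_det,
      LinearEquiv.dilatransvection.coe_toLinearMap, LinearEquiv.dilatransvection.coe_toLinearMap,
      LinearMap.transvection.det, LinearMap.transvection.det]
    simp [HermSpace.lin_apply, hef, hfe]

end HPair

end Cfsg.Lib.UnitMult
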