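import Cfsg.Agent.UnitMult.RadTwo

/-!
Fixed-point-free torus elements on the radical.
-/

set_option autoImplicit false
set_option linter.unusedSectionVars false

namespace Cfsg.Lib.UnitMult

open Cfsg.Lib.Classical
open scoped commutatorElement

universe u v w

variable {F : Type v} [Field F] [Finite F] {V : Type w} [AddCommGroup V] [Module F V] [FiniteDimensional F V]
  {H : HermSpace F V} (P : HPair H) {Γ : Type u} [Group Γ] [Finite Γ] {ℓ : ℕ} {σ : Γ →* H.SIsom}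

theorem exists_scalar_isom {W : Type*} [AddCommGroup W] [Module F W] [FiniteDimensional F W] (K : HermSpace F W)
    (μ : (normUnits K.σ).ker) : ∃ k : K.Isom, (∀ x, k.1 x = (μ.1 : F) • x) ∧
      (K.detHom k : F) = (μ.1 : F) ^ Module.finrank F W := by
  refine ⟨⟨LinearEquiv.smulOfUnit μ.1, fun x y => ?_⟩, fun x => rfl, ?_⟩
  · show K.h ((μ.1 : F) • x) ((μ.1 : F) • y) = K.h x y
    have hμ : (μ.1 : F) * K.σ μ.1 = 1 := congrArg Units.val (MonoidHom.mem_ker.mp μ.2)
    rw [K.smul_left, K.smul_right, ← mul_assoc, hμ, one_mul]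
  · show ((LinearEquiv.det (LinearEquiv.smulOfUnit μ.1) : Fˣ) : F) = _
    rw [LinearEquiv.coe_det, show (LinearEquiv.smulOfUnit (R := F) (M := W) μ.1).toLinearMap = (μ.1 : F) • LinearMap.id
      from LinearMap.ext fun x => rfl, LinearMap.det_smul, LinearMap.det_id, mul_one]

namespace HPair

/-- A torus element acting on `U` as a given isometry. -/
theorem exists_lift_torus {d : F} (hd : d ≠ 0) (k : (H.restrict P.U P.nondegU).Isom)
    (hdet : d * (H.σ d)⁻¹ * ((H.restrict P.U P.nondegU).detHom k : F) = 1) :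
    ∃ g : H.SIsom, g.1.1 P.e = d • P.e ∧ ∀ x : P.U, g.1.1 (x : V) = (k.1 x : V) := by
  obtain ⟨t, hte, -, htU, htd⟩ := exists_torus P hd
  refine ⟨⟨t * extIsom H P.nondegU k, ?_⟩, ?_, fun x => ?_⟩
  · show _ ∈ H.detHom.ker
    rw [MonoidHom.mem_ker, map_mul, det_extIsom]
    refine Units.ext ?_
    rw [Units.val_mul, htd, hdet]; rfl
  · show (t * extIsom H P.nondegU k).1 P.e = _
    rw [H.mul_apply', extIsom_orth H P.nondegU k (by rw [P.orth_U]; exact P.e_mem_W), hte]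
  · show (t * extIsom H P.nondegU k).1 (x : V) = _
    rw [H.mul_apply', extIsom_apply H P.nondegU k x, htU _ (k.1 x).2]

/-- A torus element without fixed points on the radical modulo its commutator subgroup. -/
theorem fpf_of_torus (hU : 0 < Module.finrank F P.U) {g : H.SIsom} {d : F} (hge : g.1.1 P.e = d • P.e)
    {k : P.U ≃ₗ[F] P.U} (hk : ∀ x : P.U, g.1.1 (x : V) = (k x : V)) (hc : ∀ x, H.σ d • k x = x → x = 0) :
    Fpf P.Q g := by
  have hconj : ∀ p : P.Par, ∃ p' : P.Par, g * P.sg p * g⁻¹ = P.sg p' ∧ p'.w = H.σ d • k p.w := fun p =>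
    ⟨_, P.conj_sg g hge p (by rw [hk]; exact P.U.smul_mem _ (k p.w).2),
      Subtype.ext (show H.σ d • g.1.1 (p.w : V) = _ by rw [hk]; rfl)⟩
  have hcomm : ∀ p : P.Par, ∃ p' : P.Par, ⁅g, P.sg p⁆ = P.sg p' ∧ p'.w = H.σ d • k p.w - p.w := fun p => by
    obtain ⟨p', hp', hw⟩ := hconj p
    refine ⟨P.pmul p' (P.pinv p), by rw [commutatorElement_def, hp', sg_inv, sg_mul], ?_⟩
    show p'.w + -p.w = _
    rw [hw, sub_eq_add_neg]
  let f : P.U →ₗ[F] P.U := H.σ d • k.toLinearMap - LinearMap.id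
  have hf : ∀ x, f x = H.σ d • k x - x := fun x => rfl
  have hinj : Function.Injective f := by
    rw [injective_iff_map_eq_zero]
    intro x hx
    exact hc x (sub_eq_zero.mp ((hf x) ▸ hx))
  refine ⟨?_, ?_, ?_⟩
  · rintro _ ⟨p, rfl⟩
    obtain ⟨p', hp', -⟩ := hconj p
    exact ⟨p', hp'.symm⟩
  · rintro _ ⟨p, rfl⟩ h
    obtain ⟨p', hp', hw⟩ := hcomm p
    rw [hp', P.sg_mem_commutator_iff hU, hw] at h
    rw [P.sg_mem_commutator_iff hU]
    exact hc _ (sub_eq_zero.mp h)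
  · rintro _ ⟨p, rfl⟩
    obtain ⟨y, hy⟩ := (LinearMap.injective_iff_surjective.mp hinj) p.w
    obtain ⟨p', hp', hw⟩ := hcomm (P.wpar y)
    refine ⟨_, P.sg_mem (P.wpar y), ?_⟩
    rw [hp', sg_inv, sg_mul, P.sg_mem_commutator_iff hU]
    show -p'.w + p.w = 0
    rw [hw, show H.σ d • k (P.wpar y).w - (P.wpar y).w = f y from rfl, hy, neg_add_cancel]

/-- Elements acting as scalars on `U` commute with `L`. -/
theorem comm_L_of_scalar {g : H.SIsom} {μ : F} (hμ : ∀ x ∈ P.U, g.1.1 x = μ • x) : ∀ r ∈ P.L, r * g = g * r := by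
  intro r hr
  have hgW : ∀ x ∈ H.orth P.U, g.1.1 x ∈ H.orth P.U := fun x hx =>
    H.subStab_orth ⟨g.1, H.mem_subStab_of_map_le fun y hy => by rw [hμ y hy]; exact P.U.smul_mem _ hy⟩ hx
  refine Subtype.ext (H.eq_of_fix_orth P.nondegU (fun x hx => ?_) fun x hx => ?_)
  · show (r.1 * g.1).1 x = (g.1 * r.1).1 x
    rw [H.mul_apply', H.mul_apply', hμ x hx, map_smul, hμ _ (P.L_U hr hx)]
  · show (r.1 * g.1).1 x = (g.1 * r.1).1 x
    rw [H.mul_apply', H.mul_apply', hr x hx, hr _ (hgW x hx)]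

/-- A scalar torus element without fixed points on the radical. -/
theorem exists_fpf_scalar (hU : 0 < Module.finrank F P.U) {d : F} (hd : d ≠ 0) (μ : (normUnits H.σ).ker)
    (hdet : d * (H.σ d)⁻¹ * (μ.1 : F) ^ Module.finrank F P.U = 1) (hc : H.σ d * μ.1 ≠ 1) :
    ∃ t : H.SIsom, Fpf P.Q t ∧ ∀ r ∈ P.L, r * t = t * r := by
  obtain ⟨k, hk, hkd⟩ := exists_scalar_isom (H.restrict P.U P.nondegU) μ
  obtain ⟨g, hge, hgU⟩ := P.exists_lift_torus hd k (hkd ▸ hdet)
  refine ⟨g, P.fpf_of_torus hU hge hgU fun x hx => ?_, P.comm_L_of_scalar (μ := (μ.1 : F)) fun x hx => ?_⟩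
  · rw [hk x, smul_smul] at hx
    by_contra hx0
    exact hc (smul_left_injective F hx0 (hx.trans (one_smul F x).symm))
  · rw [hgU ⟨x, hx⟩, hk]; rfl

end HPair

end Cfsg.Lib.UnitMult
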